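import Cfsg.Agent.Lib.FFComp.Replace
import Cfsg.Agent.Lib.Classical.LowRank.Index

/-!
# The members of a Sylow subgroup and their opposite partners, any prime
-/

set_option autoImplicit false
set_option linter.unusedSectionVars false

namespace Cfsg.Agent.Lib.MinPush94

open Subgroup SL2Recog FFMin FFComp Matrix
open scoped Pointwise
open Cfsg.Agent.Lib.SL2 (SLtwo)

universe u

variable {H V : Type u} [Group H] [AddCommGroup V] [DistribMulAction H V] [Finite H] [Finite V]
  [FaithfulSMul H V] {p : ℕ} [Fact p.Prime] {T : Sylow p H} {M D X : Subgroup H}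

/-- The part of the members other than `D`. -/
abbrev others (p : ℕ) (V : Type u) [AddCommGroup V] [DistribMulAction H V] (T D : Subgroup H) :
    Subgroup H :=
  sSup (members p V T \ {D})

/-- What fixes the common fixed points of all members lies in the group they generate. -/
theorem mem_memSup_of_fix (hc : Std p H V) (hM : UMax p M) (hTM : (T : Subgroup H) ≤ M)
    {t : H} (ht : t ∈ (T : Subgroup H))
    (hv : ∀ v ∈ fx V (memSup p V (T : Subgroup H)), t • v = v) :
    t ∈ memSup p V (T : Subgroup H) := by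
  set P := memSup p V (T : Subgroup H) with hP
  have hPel := hc.tame.memSup T.2 (p := p) (V := V)
  have hPq := hc.tame.memSup_quad T.2 (p := p) (V := V)
  choose! B hB using fun D (hD : D ∈ members p V (T : Subgroup H)) => exists_part hc hM hTM hD
  have hfixD : ∀ D ∈ members p V (T : Subgroup H), cnj t D = D := by
    intro D hD
    by_contra hne
    have hD' := members_conj hD ht
    obtain ⟨d, hd, hd1⟩ := exists_ne_one hD.1.ne_bot
    refine hd1 (eq_one_of_dev fun v : V => ?_)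
    have h1 : t • dev d v = dev d v := hv _ (hPq d (le_sSup hD hd) v)
    rw [smul_dev] at h1
    have h2 := (hB D hD).dev_mem hc hTM hD hD' hne
      (show t * d * t⁻¹ ∈ cnj t D by simpa [mem_cnj, mul_assoc] using hd) (t • v)
    rw [h1] at h2
    exact dev_eq_zero hd (((hB D hD).oppPair hc hM hTM hD).opp d hd hd1 v h2.2)
  have hdev : ∀ v : V, dev t v ∈ fx V P := by
    intro v
    refine mem_fx_sSup fun D hD => ?_
    have hn : zpowers t ≤ normalizer (D : Set H) := zpowers_le.2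
      (mem_normalizer_iff_map_conj_eq.2 (hfixD D hD))
    obtain ⟨d, hd, hd1, hcd⟩ := exists_commuting (T.2.to_le (zpowers_le.2 ht))
      hD.1.elem.isPGroup hD.1.ne_bot hn
    refine (hc.tame.fx_eq hD.1 hd hd1).2 ?_
    rw [← dev_comm (hcd t (mem_zpowers t)) v, dev_eq_zero_iff]
    exact hv _ (hPq d (le_sSup hD hd) v)
  have hcomm : ∀ q ∈ P, t * q = q * t := by
    intro q hq
    refine eq_of_smul_eq_smul fun v : V => ?_
    have e := dev_dev_sub t q v
    rw [dev_eq_zero_iff.2 (hv _ (hPq q hq v)), dev_eq_zero hq (hdev v), sub_zero] at e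
    exact sub_eq_zero.1 e.symm
  have hpow : t ^ p = 1 := by
    refine eq_of_smul_eq_smul fun v : V => ?_
    rw [nsmul_dev_eq (fun w => hv _ (hdev w)) p v, hc.tame.exp, add_zero, one_smul]
  have hz1 : Elem p (zpowers t) := ⟨fun a ha b hb => by
      obtain ⟨i, rfl⟩ := mem_zpowers_iff.1 ha
      obtain ⟨k, rfl⟩ := mem_zpowers_iff.1 hb
      rw [← _root_.zpow_add, ← _root_.zpow_add, add_comm], fun a ha => by
      obtain ⟨i, rfl⟩ := mem_zpowers_iff.1 ha
      rw [← zpow_natCast (t ^ i), ← _root_.zpow_mul, mul_comm, _root_.zpow_mul, zpow_natCast, hpow,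
        _root_.one_zpow]⟩
  have hE : Elem p (P ⊔ zpowers t) := hPel.1.sup hz1 fun q hq a ha => by
    obtain ⟨i, rfl⟩ := mem_zpowers_iff.1 ha
    exact ((show Commute t q from hcomm q hq).zpow_left i).symm
  have hb := hc.tame.bound _ hE
  have hfx : fx V (P ⊔ zpowers t) = fx V P := by
    rw [fx_sup, inf_eq_left]
    intro v hvP
    exact le_stab.1 (zpowers_le.2 (MulAction.mem_stabilizer_iff.2 (hv v hvP)))
  rw [meas, hfx, ← hPel.2, meas] at hb
  have heq : P = P ⊔ zpowers t := Subgroup.eq_of_le_of_card_ge le_sup_left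
    (Nat.le_of_mul_le_mul_right hb Nat.card_pos)
  rw [heq]
  exact mem_sup_right (mem_zpowers t)

/-- An offender inside `T` lies in the group generated by the members. -/
theorem le_memSup_of_off (hexp : ∀ v : V, p • v = 0) (h : Hyp p H) {A : Subgroup H}
    (hAT : A ≤ T) (hA : Elem p A) (hm : Nat.card V ≤ meas V A) :
    A ≤ memSup p V (T : Subgroup H) := by
  rcases eq_or_ne A ⊥ with rfl | hA0
  · exact bot_le
  · exact (le_sSup_members hexp h hA hA0 hm).trans
      (sSup_le fun D hD => le_sSup ⟨hD.1, hD.2.trans hAT⟩)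

/-- A subgroup normalized by `T` containing an offender of `T` contains all members of `T`. -/
theorem memSup_le_of_normal (hc : Std p H V) {J A : Subgroup H}
    (hTJ : (T : Subgroup H) ≤ normalizer (J : Set H)) (hAJ : A ≤ J) (hAT : A ≤ T) (hA0 : A ≠ ⊥)
    (hA : Elem p A) (hm : Nat.card V ≤ meas V A) : memSup p V (T : Subgroup H) ≤ J := by
  obtain ⟨D₀, hD₀X, hD₀⟩ := exists_mem hA hA0 ((hc.tame.bound A hA).antisymm hm) hc.tame.bound
  refine sSup_le fun D hD => ?_
  obtain ⟨t, ht, he⟩ := hc.partner.orbit hc.tame hc.hyp hD₀ (hD₀X.trans hAT) hD.1 hD.2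
  rw [he]
  exact (cnj_mono t (hD₀X.trans hAJ)).trans (mem_normalizer_iff_map_conj_eq.1 (hTJ ht)).le

/-- The data attached to a member and a partner. -/
structure Slot (p : ℕ) (V : Type u) [AddCommGroup V] [DistribMulAction H V] (T M D X : Subgroup H) :
    Prop where
  mem : D ∈ members p V T
  part : Part p V T M D X
  comm : ∀ e ∈ D ⊔ X, ∀ o ∈ others p V T D, e * o = o * e
  disj : ∀ e ∈ D ⊔ X, e ∈ others p V T D → e = 1
  sup : others p V T D ⊔ D = memSup p V T
  cover : ∀ v : V, ∃ u ∈ fx V (memSup p V T), v - u ∈ fx V X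
  orth : others p V T D ≤ fxTo (fx V (D ⊔ X))
  move : ∃ b ∈ X, b ∉ M ∧ ¬ cnj b (memSup p V T) ≤ M
  gen : ∀ L : Subgroup H, L ≤ (D ⊔ X) ⊔ others p V T D → memSup p V T ≤ L → ¬ L ≤ M →
    L = (D ⊔ X) ⊔ others p V T D
  maxP : ∀ Y : Subgroup H, Y ≤ (D ⊔ X) ⊔ others p V T D → IsPGroup p Y → memSup p V T ≤ Y →
    Y ≤ memSup p V T

theorem Slot.decomp (sl : Slot p V (T : Subgroup H) M D X) {x : H}
    (hx : x ∈ (D ⊔ X) ⊔ others p V (T : Subgroup H) D) :
    ∃ e ∈ D ⊔ X, ∃ o ∈ others p V (T : Subgroup H) D, x = e * o := by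
  have hn : others p V (T : Subgroup H) D ≤ normalizer ((D ⊔ X : Subgroup H) : Set H) := fun o ho =>
    centralizer_le_normalizer _ (mem_centralizer_iff.2 fun e he => sl.comm e he o ho)
  have hx' : x ∈ ((D ⊔ X : Subgroup H) : Set H) * (others p V (T : Subgroup H) D : Set H) := by
    rw [← coe_mul_of_right_le_normalizer_left _ _ hn]; exact hx
  obtain ⟨e, he, o, ho, h⟩ := Set.mem_mul.1 hx'
  exact ⟨e, he, o, ho, h.symm⟩

theorem exists_slot (hc : Std p H V) (hM : UMax p M) (hTM : (T : Subgroup H) ≤ M)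
    {D : Subgroup H} (hD : D ∈ members p V (T : Subgroup H)) :
    ∃ X, Slot p V (T : Subgroup H) M D X := by
  obtain ⟨X, hX⟩ := exists_part hc hM hTM hD
  refine ⟨X, ?_⟩
  set P := memSup p V (T : Subgroup H) with hPdef
  set Os := others p V (T : Subgroup H) D with hOs
  have hb0 : Base p V (members p V (T : Subgroup H) \ {D}) T D := ⟨hD, rfl⟩
  have hslot := hb0.inSlot hc
  have hP0 : P = Os ⊔ D := hb0.memSup_eq.symm
  have hPq := hc.tame.memSup_quad T.2 (p := p) (V := V)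
  have hPT : P ≤ T := sSup_le fun D' hD' => hD'.2
  have hop := hX.oppPair hc hM hTM hD
  set E := D ⊔ X with hE
  have hEc : E ≤ cent (members p V (T : Subgroup H) \ {D}) := sup_le hslot.le_cent hX.slot.le_cent
  have hcomm : ∀ e ∈ E, ∀ o ∈ Os, e * o = o * e := fun e he o ho =>
    (mem_centralizer_iff.1 (hEc he) o ho).symm
  have hOfx : Os ≤ fxTo (fx V E) := sSup_le fun D' hD' d hd v => by
    rw [hE, fx_sup]
    exact hX.dev_mem hc hTM hD hD'.1 (fun he => hD'.2 he) hd v
  obtain ⟨F, _, _, hF, ⟨np⟩⟩ := hX.model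
  have hdisj : ∀ e ∈ E, e ∈ Os → e = 1 := by
    intro e he heO
    have h1 : np.ρ ⟨e, he⟩ = 1 := by
      refine Subtype.ext (Matrix.ext_iff_mulVec.2 fun w => ?_)
      obtain ⟨v, rfl⟩ := np.surj w
      rw [← np.smul, Matrix.SpecialLinearGroup.coe_one, Matrix.one_mulVec, smul_eq e v, map_add,
        (np.ker (dev e v)).2 (by rw [← fx_sup]; exact hOfx heO v), add_zero]
    exact congrArg Subtype.val ((map_eq_one_iff np.ρ np.ρ.injective).1 h1)
  obtain ⟨b, hb, hbM⟩ := SetLike.not_le_iff_exists.1 hX.not_le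
  have hdec : ∀ L : Subgroup H, L ≤ E ⊔ Os → P ≤ L → ∀ x ∈ L,
      ∃ e ∈ E, e ∈ L ∧ ∃ o ∈ Os, x = e * o := by
    intro L hLK hPL x hx
    have hn : Os ≤ normalizer (E : Set H) := fun o ho =>
      centralizer_le_normalizer _ (mem_centralizer_iff.2 fun e he => hcomm e he o ho)
    have hx' : x ∈ (E : Set H) * (Os : Set H) := by
      rw [← coe_mul_of_right_le_normalizer_left _ _ hn]; exact hLK hx
    obtain ⟨e, he, o, ho, rfl⟩ := Set.mem_mul.1 hx'
    have ho' : o ∈ L := hPL (hP0 ▸ mem_sup_left ho)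
    refine ⟨e, he, ?_, o, ho, rfl⟩
    simpa using L.mul_mem hx (L.inv_mem ho')
  refine ⟨hD, hX, hcomm, hdisj, hP0.symm, fun v => ?_, hOfx, ⟨b, hb, hbM, fun hle =>
    InSlot.cnj_not_le hc hb0 hM hTM (hEc (mem_sup_right hb)) hbM
      ((cnj_mono b (le_sSup hD)).trans hle)⟩, ?_, ?_⟩
  · obtain ⟨d, hd, hd1⟩ := exists_ne_one hD.1.ne_bot
    obtain ⟨_, ⟨y, rfl⟩, z, hz, he⟩ :=
      AddSubgroup.mem_sup.1 (hop.range_sup hc hd hd1 ▸ AddSubgroup.mem_top v)
    refine ⟨dev d y, hPq d (le_sSup hD hd) y, ?_⟩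
    rw [← he, devHom_apply, add_sub_cancel_left]
    exact hz
  · intro L hLK hPL hLM
    obtain ⟨x, hxL, hxM⟩ := SetLike.not_le_iff_exists.1 hLM
    obtain ⟨e, heE, heL, o, ho, rfl⟩ := hdec L hLK hPL x hxL
    have heM : e ∉ M := fun he => hxM (mul_mem he (hTM (hPT (hP0 ▸ mem_sup_left ho))))
    have hAL : D ≤ L := (hP0 ▸ le_sup_right : D ≤ P).trans hPL
    have hne : cnj e D ≠ D := fun he =>
      InSlot.cnj_not_le hc hb0 hM hTM (hEc heE) heM (he.le.trans (hD.2.trans hTM))
    obtain ⟨a, ha, he⟩ := hX.eq_translate hc hM hTM hD (hslot.conj (hEc heE)) hne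
    have hBL : X ≤ L := by
      have h1 := cnj_mono a⁻¹ (he ▸ cnj_le_of_mem heL hAL : cnj a X ≤ L)
      rw [cnj_cnj, inv_mul_cancel, cnj_one] at h1
      exact h1.trans (cnj_le_of_mem (inv_mem (hAL ha)) le_rfl)
    exact le_antisymm hLK (sup_le (sup_le hAL hBL) ((hP0 ▸ le_sup_left : Os ≤ P).trans hPL))
  · intro Y hYK hYp hPY x hx
    obtain ⟨n, hn⟩ := IsPGroup.iff_card.1 hD.1.elem.isPGroup
    have hn1 : 1 ≤ n := Nat.pos_of_ne_zero fun h0 =>
      hD.1.ne_bot (Subgroup.eq_bot_of_card_eq _ (by rw [hn, h0, pow_zero]))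
    obtain ⟨e, heE, heX, o, ho, rfl⟩ := hdec Y hYK hPY x hx
    refine mul_mem (hP0.ge (mem_sup_right ?_)) (hP0.ge (mem_sup_left ho))
    set Z : Subgroup ↥E := (Y ⊓ E).subgroupOf E with hZ
    have hZp : IsPGroup p Z := (hYp.to_le inf_le_left).of_equiv
      (subgroupOfEquivOfLe (inf_le_right : Y ⊓ E ≤ E)).symm
    obtain ⟨m, hm⟩ := IsPGroup.iff_card.1 hZp
    have hcard : Nat.card ↥E = p ^ n * (p ^ n * p ^ n - 1) := by
      rw [hE, Nat.card_congr np.ρ.toEquiv, Classical.LowRank.natCard_SL_two, hF, hn, sq]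
    have hdvd : p ^ m ∣ p ^ n * (p ^ n * p ^ n - 1) := by
      rw [← hcard, ← hm]; exact card_subgroup_dvd_card Z
    have hcop : (p ^ m).Coprime (p ^ n * p ^ n - 1) := by
      refine Nat.Coprime.pow_left _ ((Fact.out : p.Prime).coprime_iff_not_dvd.2 fun hd => ?_)
      have h1 : p ∣ p ^ n * p ^ n := dvd_mul_of_dvd_left (dvd_pow_self p (by omega)) _
      have h2 : 1 ≤ p ^ n * p ^ n := Nat.one_le_iff_ne_zero.2
        (mul_ne_zero (pow_ne_zero _ (Fact.out : p.Prime).ne_zero)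
          (pow_ne_zero _ (Fact.out : p.Prime).ne_zero))
      have := Nat.dvd_sub h1 hd
      rw [Nat.sub_sub_self h2, Nat.dvd_one] at this
      exact (Fact.out : p.Prime).one_lt.ne' this
    have hle : Nat.card Z ≤ Nat.card D := by
      rw [hm, hn]
      exact Nat.le_of_dvd (pow_pos (Fact.out : p.Prime).pos _) (hcop.dvd_of_dvd_mul_right hdvd)
    have hsub : D ≤ Y ⊓ E := le_inf ((hP0 ▸ le_sup_right : D ≤ P).trans hPY) le_sup_left
    have heq : D = Y ⊓ E := Subgroup.eq_of_le_of_card_ge hsub (by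
      rwa [← Nat.card_congr (subgroupOfEquivOfLe (inf_le_right : Y ⊓ E ≤ E)).toEquiv, ← hZ])
    exact heq.symm.le ⟨heX, heE⟩

/-- The projection on the rank one factor. -/
theorem Slot.exists_chi (sl : Slot p V (T : Subgroup H) M D X) :
    ∃ χ : ↥((D ⊔ X) ⊔ others p V (T : Subgroup H) D) →* ↥(D ⊔ X),
      ∀ x, (χ x : H)⁻¹ * x ∈ others p V (T : Subgroup H) D := by
  set E := D ⊔ X
  set Os := others p V (T : Subgroup H) D
  have hcomm : ∀ (e : ↥E) (o : ↥Os), Commute (E.subtype e) (Os.subtype o) := fun e o =>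
    sl.comm e e.2 o o.2
  set φ : ↥E × ↥Os →* H := MonoidHom.noncommCoprod E.subtype Os.subtype hcomm with hφ
  have hφi : Function.Injective φ := by
    refine (injective_iff_map_eq_one φ).2 fun x hx => ?_
    rw [hφ, MonoidHom.noncommCoprod_apply] at hx
    have he : (x.1 : H) = 1 := sl.disj _ x.1.2 (by
      rw [show (x.1 : H) = (x.2 : H)⁻¹ from eq_inv_of_mul_eq_one_left hx]
      exact inv_mem x.2.2)
    refine Prod.ext (Subtype.ext he) (Subtype.ext ?_)
    have h2 : (x.1 : H) * (x.2 : H) = 1 := hx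
    rwa [he, one_mul] at h2
  have hr : E ⊔ Os = φ.range := by
    rw [hφ, MonoidHom.noncommCoprod_range, Subgroup.range_subtype, Subgroup.range_subtype]
  refine ⟨((MonoidHom.fst ↥E ↥Os).comp (MonoidHom.ofInjective hφi).symm.toMonoidHom).comp
    (Subgroup.inclusion hr.le), fun x => ?_⟩
  obtain ⟨⟨e, o⟩, heo⟩ := hr.le x.2
  have h1 : Subgroup.inclusion hr.le x = MonoidHom.ofInjective hφi (e, o) :=
    Subtype.ext heo.symm
  rw [MonoidHom.comp_apply, MonoidHom.comp_apply, h1]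
  simp only [MulEquiv.coe_toMonoidHom, MulEquiv.symm_apply_apply, MonoidHom.coe_fst]
  rw [← heo, hφ, MonoidHom.noncommCoprod_apply]
  simp

/-- Elements of order prime to `p` lie in the rank one factor. -/
theorem Slot.mem_of_coprime (sl : Slot p V (T : Subgroup H) M D X) {x : H}
    (hx : x ∈ (D ⊔ X) ⊔ others p V (T : Subgroup H) D) (hco : (orderOf x).Coprime p) :
    x ∈ D ⊔ X := by
  obtain ⟨e, he, o, ho, rfl⟩ := sl.decomp hx
  have hop : IsPGroup p (others p V (T : Subgroup H) D) :=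
    T.2.to_le (sSup_le fun D' hD' => hD'.1.2)
  obtain ⟨k, hk⟩ := hop ⟨o, ho⟩
  have hk' : o ^ p ^ k = 1 := congrArg Subtype.val hk
  set N := orderOf (e * o) with hN
  have h1 : e ^ N * o ^ N = 1 := by
    rw [← (show Commute e o from sl.comm e he o ho).mul_pow, hN, pow_orderOf_eq_one]
  have h2 : o ^ N = 1 := sl.disj _ (by
    rw [eq_inv_of_mul_eq_one_right h1]; exact inv_mem (pow_mem he _)) (pow_mem ho _)
  have h3 : o = 1 := orderOf_eq_one_iff.1 (Nat.eq_one_of_dvd_coprimes (hco.pow_right k)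
    (orderOf_dvd_of_pow_eq_one h2) (orderOf_dvd_of_pow_eq_one hk'))
  rw [h3, mul_one]; exact he

end Cfsg.Agent.Lib.MinPush94
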