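import Cfsg.Agent.Lib.MinPush94.Rank
import Cfsg.Agent.Lib.Coprime.Quotient

/-!
# The centralizer of the module is `O_p(G)`
-/

set_option autoImplicit false
set_option linter.unusedSectionVars false

namespace Cfsg.Agent.Lib.MinPush94

open Subgroup SL2Recog FFMin FFComp
open Cfsg.Agent.Lib Cfsg.Agent.Lib.FocalChar
open Cfsg.Agent.Lib.SL2 (PSLtwo)
open scoped commutatorElement

universe u

variable {G : Type u} [Group G] [Finite G] {p : ℕ} [Fact p.Prime] {T M V : Subgroup G}
  {H W : Type u} [Group H] [Finite H] [AddCommGroup W] [Finite W] [DistribMulAction H W]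
  [FaithfulSMul H W] {f : G →* H} {j : W → G} {Wz Kc : Subgroup G}
  {TH : Sylow p H} {D X : Subgroup H} {L : Subgroup G}
  {F : Type} [Field F] [Fintype F] {n : ℕ}

/-- The elements acting trivially on `A / B`. -/
def actTriv (A B : Subgroup G) (hA : A.Normal) (hB : B.Normal) : Subgroup G where
  carrier := {g | ∀ a ∈ A, ⁅g, a⁆ ∈ B}
  one_mem' := fun a _ => by rw [commutatorElement_one_left]; exact one_mem _
  mul_mem' {x y} hx hy a ha := by
    rw [show ⁅x * y, a⁆ = x * ⁅y, a⁆ * x⁻¹ * ⁅x, a⁆ by simp only [commutatorElement_def]; group]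
    exact mul_mem (hB.conj_mem _ (hy a ha) x) (hx a ha)
  inv_mem' {x} hx a ha := by
    rw [show ⁅x⁻¹, a⁆ = x⁻¹ * ⁅x, a⁆⁻¹ * x⁻¹⁻¹ by simp only [commutatorElement_def]; group]
    exact hB.conj_mem _ (inv_mem (hx a ha)) x⁻¹

theorem actTriv_normal (A B : Subgroup G) (hA : A.Normal) (hB : B.Normal) :
    (actTriv A B hA hB).Normal :=
  ⟨fun x hx g a ha => by
    rw [show ⁅g * x * g⁻¹, a⁆ = g * ⁅x, g⁻¹ * a * g⁆ * g⁻¹ by
      simp only [commutatorElement_def]; group]
    exact hB.conj_mem _ (hx _ (by simpa using hA.conj_mem a ha g⁻¹)) g⟩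

/-- A normal subgroup containing an element outside `M` contains all elements of order prime
to `p`. -/
theorem Model.coprime_mem_of_normal (c : Model p T M V f j) {K : Subgroup G} (hK : K.Normal)
    {x : G} (hx : x ∈ K) (hxM : x ∉ M) {y : G} (hy : (orderOf y).Coprime p) : y ∈ K := by
  haveI := hK
  exact c.hyp0.pre.coprime_mem (by_contra fun h => hxM (c.hyp0.pre.le_M h hx)) hy

/-- An element of order prime to `p` moving `d` to a fixed element of a `p`-subgroup fixes it. -/
theorem fix_of_stable {x d : G} (hx : (orderOf x).Coprime p)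
    (hd : ⁅x, d⁆ ∈ Cfsg.pCore p G) (h : ⁅x, ⁅x, d⁆⁆ = 1) : ⁅x, d⁆ = 1 := by
  have hn : ∀ z : G, z ∈ normalizer ((⊥ : Subgroup G) : Set G) := fun z =>
    (normalizer_eq_top_iff.2 (inferInstance : (⊥ : Subgroup G).Normal)).symm ▸ mem_top z
  refine mem_bot.1 (mem_of_stable (d := d) hx (hn x) (hn _)
    ((IsPGroup.iff_orderOf.1 (PSolvable.pCore_isPGroup (G := G) (p := p))) ⟨_, hd⟩ |>.imp
      fun k hk => by rwa [orderOf_mk] at hk) (by rw [commutatorElement_def]; group) ?_)
  rw [mem_bot, ← commutatorElement_def, h]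

theorem Loc.cent_eq_core (lc : Loc (W := W) p T M V Wz f (TH : Subgroup H) D X L)
    (c : Model p T M V f j) (m2 : Module2 p T V Wz Kc) {ψ : ↥L →* PSLtwo F} {U Q' X' : Subgroup ↥L}
    (rk : Rk p (bMax p T) L F n ψ U Q' X')
    (hcover : ¬ (U = normalClosure (RankOnePush.omegaZ p ((bMax p T).subgroupOf L) : Set ↥L) ∧
        Q' = Cfsg.pCore p ↥L) →
      ∀ N : Subgroup ↥L, N.Normal → N ≤ Cfsg.pCore p ↥L →
        ¬ ⁅N, Cfsg.pResidual p ↥L⁆ ≤
          normalClosure (RankOnePush.omegaZ p ((bMax p T).subgroupOf L) : Set ↥L) →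
        ⁅normalClosure (RankOnePush.omegaZ p ((bMax p T).subgroupOf L) : Set ↥L),
            Cfsg.pResidual p ↥L⁆ ≤ N ⊔ RankOnePush.resFix p (Cfsg.pCore p ↥L)) :
    centralizer (V : Set G) = Cfsg.pCore p G := by
  classical
  set Q := Cfsg.pCore p G with hQ
  haveI hQn : Q.Normal := pCore_normal
  have hQp : IsPGroup p Q := PSolvable.pCore_isPGroup
  have hVn := c.module.normalV
  set C := centralizer (V : Set G) with hC
  haveI : V.Normal := hVn
  haveI hCn : C.Normal := inferInstance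
  refine le_antisymm ?_ c.module.centV
  suffices hco : ∀ y ∈ C, (orderOf y).Coprime p → y = 1 by
    refine c.le_core_of_le_cent ?_ le_rfl
    intro z
    obtain ⟨k, hk⟩ := Transfer.exists_pow_coprime (p := p) (z : G)
    exact ⟨k, Subtype.ext (by rw [SubgroupClass.coe_pow]; exact hco _ (pow_mem z.2 _) hk)⟩
  -- enough: a `p'`-element centralizes `O_p`
  have hdone : ∀ y : G, (orderOf y).Coprime p → (∀ q ∈ Q, ⁅y, q⁆ = 1) → y = 1 := by
    intro y hy hq
    have hyQ : y ∈ Q := c.hyp0.cent (mem_centralizer_iff.2 fun q hq' =>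
      (commutatorElement_eq_one_iff_mul_comm.1 (hq q hq')).symm)
    obtain ⟨l, hl⟩ := (IsPGroup.iff_orderOf.1 hQp) ⟨y, hyQ⟩
    rw [orderOf_mk] at hl
    exact orderOf_eq_one_iff.1 (Nat.eq_one_of_dvd_coprimes (hy.pow_right l) dvd_rfl hl.dvd)
  have hfixV : ∀ y ∈ C, ∀ v ∈ V, ⁅y, v⁆ = 1 := fun y hy v hv =>
    commutatorElement_eq_one_iff_mul_comm.2 (mem_centralizer_iff.1 hy v hv).symm
  obtain ⟨x₀, hx₀L, hx₀co, hx₀M⟩ := lc.exists_coprime c
  by_cases halt : U = normalClosure (RankOnePush.omegaZ p ((bMax p T).subgroupOf L) : Set ↥L) ∧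
      Q' = Cfsg.pCore p ↥L
  · intro y hyC hy
    refine hdone y hy fun q hq => fix_of_stable hy ?_ (hfixV y hyC _ ?_)
    · rw [commutatorElement_def]; exact mul_mem (hQn.conj_mem q hq y) (inv_mem hq)
    · exact c.coprime_mem_of_normal (actTriv_normal Q V hQn hVn) (x := x₀)
        (fun q hq => lc.comm_core c m2 rk halt.1 hx₀L hx₀co hq) hx₀M hy q hq
  -- two noncentral factors
  have hD0n := c.normal_core_inf_bMax m2
  set D0 := Q ⊓ bMax p T with hD0
  set C0 := closure {y : G | y ∈ C ∧ (orderOf y).Coprime p} with hC0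
  have hC0n : C0.Normal := by
    refine ⟨fun z hz g => ?_⟩
    have hle : C0 ≤ C0.comap (MulAut.conj g).toMonoidHom := by
      rw [hC0, closure_le]
      rintro y ⟨hy, hyo⟩
      refine subset_closure ⟨hCn.conj_mem y hy g, ?_⟩
      show (orderOf (MulAut.conj g y)).Coprime p
      rwa [MulEquiv.orderOf_eq]
    exact hle hz
  haveI := hC0n
  have hC0C : C0 ≤ C := (closure_le _).2 fun y hy => hy.1
  set X1 := ⁅Q, C0⁆ with hX1
  haveI hX1n : X1.Normal := inferInstance
  have hX1Q : X1 ≤ Q := commutator_le_left Q C0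
  have hX1D : X1 ≤ D0 := by
    have hle : C0 ≤ actTriv Q D0 hQn hD0n := (closure_le _).2 fun y hy =>
      c.coprime_mem_of_normal (actTriv_normal Q D0 hQn hD0n) (x := x₀)
        (fun q hq => by rw [← commutatorElement_inv]; exact inv_mem (lc.comm q hq x₀ hx₀L)) hx₀M hy.2
    refine commutator_le.2 fun q hq y hy => ?_
    rw [← commutatorElement_inv]
    exact inv_mem (hle hy q hq)
  -- it is enough that `C0` centralizes `[Q, C0]`
  suffices hX : ∀ y ∈ C, (orderOf y).Coprime p → ∀ a ∈ X1, ⁅y, a⁆ = 1 by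
    intro y hyC hy
    refine hdone y hy fun q hq => fix_of_stable hy ?_ (hX y hyC hy _ ?_)
    · rw [commutatorElement_def]; exact mul_mem (hQn.conj_mem q hq y) (inv_mem hq)
    · rw [← commutatorElement_inv]
      exact inv_mem (commutator_mem_commutator hq (subset_closure ⟨hyC, hy⟩))
  set VL := normalClosure (RankOnePush.omegaZ p ((bMax p T).subgroupOf L) : Set ↥L) with hVL
  set R := Cfsg.pResidual p ↥L with hR
  set DL := Cfsg.pCore p ↥L with hDL
  haveI hDLn : DL.Normal := rk.setup.normalD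
  set N := X1.subgroupOf L with hN
  have hX1L : X1 ≤ L := hX1D.trans (inf_le_right.trans lc.bMax_le)
  have hND : N ≤ DL := @PSolvable.le_pCore _ _ p N inferInstance (hQp.to_le hX1Q).comap_subtype
  haveI := m2.normalW
  by_cases hNR : ⁅N, R⁆ ≤ VL
  · intro y hyC hy a ha
    refine fix_of_stable hy ?_ (hfixV y hyC _ ?_)
    · rw [commutatorElement_def]; exact mul_mem (hQn.conj_mem a (hX1Q ha) y) (inv_mem (hX1Q ha))
    · refine c.coprime_mem_of_normal (actTriv_normal X1 V hX1n hVn) (x := x₀) (fun b hb => ?_) hx₀M hy a ha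
      set e := ⁅x₀, b⁆ with he
      have heX : e ∈ X1 := by
        rw [he, commutatorElement_def]; exact mul_mem (hX1n.conj_mem b hb x₀) (inv_mem hb)
      have hn : ∀ (Y : Subgroup G) [Y.Normal] (z : G), z ∈ normalizer (Y : Set G) := fun Y _ z =>
        (normalizer_eq_top_iff.2 (inferInstance : Y.Normal)).symm ▸ mem_top z
      have heW : e ∈ Wz := by
        have h1 : ⁅(⟨b, hX1L hb⟩ : ↥L), ⟨x₀, hx₀L⟩⁆ ∈ VL := hNR (commutator_mem_commutator hb
          (subset_closure (show (orderOf (⟨x₀, hx₀L⟩ : ↥L)).Coprime p by rwa [orderOf_mk])))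
        have h2 := inv_mem h1
        rw [commutatorElement_inv] at h2
        simpa [he, commutatorElement_def] using lc.vl_le m2 h2
      refine mem_of_stable (d := b) hx₀co (hn V x₀) (hn V e)
        ((IsPGroup.iff_orderOf.1 hQp) ⟨e, hX1Q heX⟩ |>.imp fun k hk => by rwa [orderOf_mk] at hk)
        (by rw [he, commutatorElement_def]; group) ?_
      obtain ⟨v, hv, hev⟩ := lc.comm_wz heW hx₀L
      rw [← commutatorElement_def, hev, commutatorElement_def]
      exact mul_mem (hVn.conj_mem v hv x₀) (inv_mem hv)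
  exfalso
  have hcov := hcover halt N inferInstance hND hNR
  -- so `[V_L, R]` lies in `N`
  have hVLR : ⁅VL, R⁆ ≤ N := by
    haveI : (RankOnePush.resFix p DL).Normal := RankOnePush.resFix_normal hDLn
    let π := QuotientGroup.mk' N
    have hle : R ≤ (centralizer ((VL.map π : Subgroup _) : Set (↥L ⧸ N))).comap π := by
      rw [hR, Cfsg.pResidual, closure_le]
      intro x hx
      refine mem_centralizer_iff.2 ?_
      rintro _ ⟨v, hv, rfl⟩
      refine ((commutatorElement_eq_one_iff_mul_comm).1 ?_).symm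
      rw [← map_commutatorElement]
      refine (QuotientGroup.eq_one_iff _).2 ?_
      have hw : ⁅x, v⁆ ∈ ⁅VL, R⁆ := by
        rw [← commutatorElement_inv]
        exact inv_mem (commutator_mem_commutator hv (subset_closure hx))
      obtain ⟨a, ha, k, hk, hak⟩ := mem_sup_of_normal_left.1 (hcov hw)
      have hn : ∀ z : ↥L, z ∈ normalizer (N : Set ↥L) := fun z =>
        (normalizer_eq_top_iff.2 (inferInstance : N.Normal)).symm ▸ mem_top z
      refine mem_of_stable (d := v) hx (hn _) (hn _) ?_ (by rw [commutatorElement_def]; group) ?_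
      · refine ((IsPGroup.iff_orderOf.1 (PSolvable.pCore_isPGroup (G := ↥L) (p := p))) ⟨⁅x, v⁆, ?_⟩).imp
          fun k hk => by rwa [orderOf_mk] at hk
        rw [commutatorElement_def]
        exact mul_mem (hDLn.conj_mem v (rk.small.le hv) x) (inv_mem (rk.small.le hv))
      · rw [← hak]
        have hxk : x * k = k * x := mem_centralizer_iff.1 hk.2 x (subset_closure hx)
        rw [show x * (a * k) * x⁻¹ * (a * k)⁻¹ = x * a * (x⁻¹ * (x * k * x⁻¹ * k⁻¹) * x) * x⁻¹ * a⁻¹ by
          group, show x * k * x⁻¹ * k⁻¹ = 1 by rw [hxk]; group]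
        simpa using mul_mem ((inferInstance : N.Normal).conj_mem a ha x) (inv_mem ha)
    refine commutator_le.2 fun v hv r hr => ?_
    refine (QuotientGroup.eq_one_iff _).1 ?_
    show π ⁅v, r⁆ = 1
    rw [map_commutatorElement, commutatorElement_eq_one_iff_mul_comm]
    exact mem_centralizer_iff.1 (hle hr) _ (mem_map_of_mem π hv)
  -- a complement of `C0 ∩ Q`
  set Q0 := Q.subgroupOf C0 with hQ0
  obtain ⟨Hc', hHc⟩ : ∃ Hc : Subgroup ↥C0, Subgroup.IsComplement' Q0 Hc := by
    refine Subgroup.exists_right_complement'_of_coprime ?_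
    obtain ⟨k, hk⟩ := (hQp.comap_subtype : IsPGroup p Q0).exists_card_eq
    rw [show Nat.card ↥Q0 = p ^ k from hk]
    refine Nat.Coprime.pow_left k ((Fact.out : p.Prime).coprime_iff_not_dvd.2 fun hd => ?_)
    obtain ⟨P⟩ : Nonempty (Sylow p ↥C0) := inferInstance
    have hP : (P : Subgroup ↥C0) ≤ Q0 := fun x hx =>
      c.le_core_of_le_cent (P.2.map C0.subtype) ((map_subtype_le _).trans hC0C)
        (mem_map_of_mem C0.subtype hx)
    have he : (P : Subgroup ↥C0) = Q0 := (P.3 hQp.comap_subtype hP).symm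
    exact P.not_dvd_index (he ▸ hd)
  set Hc := Hc'.map C0.subtype with hHcdef
  have hHcco : (Nat.card Hc).Coprime p := by
    rw [Nat.coprime_comm]
    refine (Fact.out : p.Prime).coprime_iff_not_dvd.2 fun hd => ?_
    obtain ⟨z, hz⟩ := exists_prime_orderOf_dvd_card' (G := Hc) p hd
    obtain ⟨z', hz', hze⟩ := z.2
    have hzQ : (z : G) ∈ Q := c.le_core_of_le_cent
      ((IsPGroup.of_card (n := 1) (by rw [Nat.card_zpowers, orderOf_coe, hz, pow_one])) :
        IsPGroup p (zpowers (z : G)))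
      (zpowers_le.2 (hC0C ((map_subtype_le Hc') z.2))) (mem_zpowers _)
    have h1 : z' ∈ Q0 ⊓ Hc' := ⟨mem_subgroupOf.2 (by rw [show (z' : G) = z from hze]; exact hzQ), hz'⟩
    rw [disjoint_iff.1 hHc.disjoint, mem_bot] at h1
    have h2 : z = 1 := Subtype.ext (by rw [← hze, h1]; rfl)
    rw [h2, orderOf_one] at hz
    exact (Fact.out : p.Prime).one_lt.ne hz
  have hdecomp : ∀ y ∈ C0, ∃ q ∈ Q, q ∈ C0 ∧ ∃ h ∈ Hc, q * h = y := fun y hy => by
    obtain ⟨⟨⟨q, hq⟩, ⟨h, hh⟩⟩, he⟩ :=
      (Subgroup.isComplement'_def.1 hHc).2 (⟨y, hy⟩ : ↥C0)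
    exact ⟨q, hq, (q : ↥C0).2, h, mem_map_of_mem _ hh, congrArg Subtype.val he⟩
  have hC0le : C0 ≤ X1 ⊔ Hc := by
    set N2 := X1 ⊔ Hc with hN2
    have hHC0 : Hc ≤ C0 := map_subtype_le _
    have hconj : ∀ y ∈ C0, ∀ z ∈ N2, y * z * y⁻¹ ∈ N2 := by
      intro y hy z hz
      obtain ⟨q, hq, -, h, hh, rfl⟩ := hdecomp y hy
      have hq' : q ∈ normalizer (N2 : Set G) := by
        refine mem_normalizer_iff_map_conj_eq.2 (Subgroup.eq_of_le_of_card_ge ?_
          (card_map_of_injective (MulAut.conj q).injective).ge)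
        rw [map_le_iff_le_comap]
        refine sup_le (fun a ha => mem_sup_left (hX1n.conj_mem a ha q)) fun a ha => ?_
        show q * a * q⁻¹ ∈ N2
        rw [show q * a * q⁻¹ = ⁅q, a⁆ * a by simp only [commutatorElement_def]; group]
        exact mul_mem (mem_sup_left (commutator_mem_commutator hq (hHC0 ha))) (mem_sup_right ha)
      have := (mem_normalizer_iff.1 hq' _).1
        (mul_mem (mul_mem (mem_sup_right hh : h ∈ N2) hz) (inv_mem (mem_sup_right hh : h ∈ N2)))
      rwa [show q * h * z * (q * h)⁻¹ = q * (h * z * h⁻¹) * q⁻¹ by group]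
    haveI : (N2.subgroupOf C0).Normal := ⟨fun z hz y => hconj y y.2 z hz⟩
    rw [hC0, closure_le]
    rintro y ⟨hyC, hy⟩
    have hyC0 : y ∈ C0 := subset_closure ⟨hyC, hy⟩
    obtain ⟨q, hq, hqC0, h, hh, rfl⟩ := hdecomp y hyC0
    obtain ⟨k, hk⟩ := hQp ⟨q, hq⟩
    let π := QuotientGroup.mk' (N2.subgroupOf C0)
    have e1 : π ⟨q * h, hyC0⟩ = π ⟨q, hqC0⟩ := by
      rw [show (⟨q * h, hyC0⟩ : ↥C0) = ⟨q, hqC0⟩ * ⟨h, hHC0 hh⟩ from rfl, map_mul,
        show π ⟨h, hHC0 hh⟩ = 1 from (QuotientGroup.eq_one_iff _).2 (mem_subgroupOf.2 (mem_sup_right hh)),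
        mul_one]
    have e2 : π ⟨q, hqC0⟩ ^ p ^ k = 1 := by
      rw [← map_pow, show (⟨q, hqC0⟩ : ↥C0) ^ p ^ k = 1 from
        Subtype.ext (by simpa using congrArg Subtype.val hk), map_one]
    have e3 : π ⟨q * h, hyC0⟩ = 1 := orderOf_eq_one_iff.1 (Nat.eq_one_of_dvd_coprimes (hy.pow_right k)
      ((orderOf_map_dvd π _).trans (by rw [orderOf_mk])) (orderOf_dvd_of_pow_eq_one (e1 ▸ e2)))
    exact mem_subgroupOf.1 ((QuotientGroup.eq_one_iff _).1 e3)
  -- the kernel of the abelian quotient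
  set P0 := closure ({z : G | ∃ a ∈ X1, ∃ b ∈ X1, z = ⁅a, b⁆} ∪ {z : G | ∃ a ∈ X1, z = a ^ p}) with hP0
  have hP0n : P0.Normal := by
    refine ⟨fun z hz g => ?_⟩
    have hle : P0 ≤ P0.comap (MulAut.conj g).toMonoidHom := by
      rw [hP0, closure_le]
      rintro _ (⟨a, ha, b, hb, rfl⟩ | ⟨a, ha, rfl⟩)
      · exact subset_closure (Or.inl ⟨_, hX1n.conj_mem a ha g, _, hX1n.conj_mem b hb g,
          map_commutatorElement (MulAut.conj g).toMonoidHom a b⟩)
      · exact subset_closure (Or.inr ⟨_, hX1n.conj_mem a ha g, map_pow (MulAut.conj g).toMonoidHom a p⟩)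
    exact hle hz
  have hP0R : P0 ≤ (RankOnePush.resFix p DL).map L.subtype := by
    rw [hP0, closure_le]
    rintro _ (⟨a, ha, b, hb, rfl⟩ | ⟨a, ha, rfl⟩)
    · exact ⟨_, rk.setup.comm_mem_resFix rk.small rk.shape
        (hND (show (⟨a, hX1L ha⟩ : ↥L) ∈ N from ha)) (hND (show (⟨b, hX1L hb⟩ : ↥L) ∈ N from hb)), rfl⟩
    · exact ⟨_, rk.setup.pow_mem_resFix rk.small rk.shape
        (hND (show (⟨a, hX1L ha⟩ : ↥L) ∈ N from ha)), rfl⟩
  let π := QuotientGroup.mk' P0
  set Xb := X1.map π with hXb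
  set Ab := Hc.map π with hAb
  haveI hXbc : IsMulCommutative Xb := ⟨⟨fun a b => Subtype.ext (by
    obtain ⟨a', ha', hae⟩ := a.2
    obtain ⟨b', hb', hbe⟩ := b.2
    show (a : G ⧸ P0) * b = b * a
    rw [← hae, ← hbe, ← commutatorElement_eq_one_iff_mul_comm, ← map_commutatorElement]
    exact (QuotientGroup.eq_one_iff _).2 (subset_closure (Or.inl ⟨a', ha', b', hb', rfl⟩)))⟩⟩
  haveI hXbn : Xb.Normal := hX1n.map π (QuotientGroup.mk'_surjective P0)
  have hAN : Ab ≤ normalizer (Xb : Set (G ⧸ P0)) := fun a _ =>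
    (normalizer_eq_top_iff.2 hXbn).symm ▸ mem_top a
  have hcop : (Nat.card Ab).Coprime (Nat.card Xb) := by
    obtain ⟨k, hk⟩ := ((hQp.to_le hX1Q).map π).exists_card_eq
    rw [hk]
    exact ((hHcco.coprime_dvd_left (card_map_dvd Hc π))).pow_right k
  have hgen : Xb ≤ ⁅Xb, Ab⁆ := by
    have h1 : X1 ≤ ⁅X1, C0⁆ := by
      haveI : (⁅X1, C0⁆ : Subgroup G).Normal := inferInstance
      have hle : C0 ≤ actTriv Q ⁅X1, C0⁆ hQn inferInstance := by
        refine (closure_le _).2 ?_
        intro y hy q hq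
        have hn : ∀ z : G, z ∈ normalizer ((⁅X1, C0⁆ : Subgroup G) : Set G) := fun z =>
          (normalizer_eq_top_iff.2 (inferInstance : (⁅X1, C0⁆ : Subgroup G).Normal)).symm ▸ mem_top z
        have hyX : ⁅y, q⁆ ∈ X1 := by
          rw [← commutatorElement_inv]
          exact inv_mem (commutator_mem_commutator hq (subset_closure hy))
        refine mem_of_stable (d := q) hy.2 (hn y) (hn _) ((IsPGroup.iff_orderOf.1 hQp) ⟨_, hX1Q hyX⟩ |>.imp
          fun k hk => by rwa [orderOf_mk] at hk) (by rw [commutatorElement_def]; group) ?_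
        rw [← commutatorElement_def, ← commutatorElement_inv]
        exact inv_mem (commutator_mem_commutator hyX (subset_closure hy))
      refine commutator_le.2 fun q hq y hy => ?_
      rw [← commutatorElement_inv]
      exact inv_mem (hle hy q hq)
    intro z hz
    have h2 : z ∈ ⁅Xb, C0.map π⁆ := by
      rw [← map_commutator]
      obtain ⟨a, ha, rfl⟩ := hz
      exact mem_map_of_mem π (h1 ha)
    refine commutator_le.2 (fun a ha b hb => ?_) (commutator_mono le_rfl (map_mono hC0le) h2)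
    rw [Subgroup.map_sup] at hb
    obtain ⟨y, hy, h, hh, rfl⟩ := mem_sup_of_normal_left.1 hb
    have hc' : ∀ s ∈ Xb, a * s = s * a := fun s hs =>
      congrArg Subtype.val (hXbc.is_comm.comm (⟨a, ha⟩ : Xb) ⟨s, hs⟩)
    have hah : ⁅a, h⁆ ∈ Xb := by
      rw [show ⁅a, h⁆ = a * (h * a⁻¹ * h⁻¹) by simp only [commutatorElement_def]; group]
      exact mul_mem ha (hXbn.conj_mem _ (inv_mem ha) h)
    rw [show ⁅a, y * h⁆ = ⁅a, y⁆ * (y * ⁅a, h⁆ * y⁻¹) by simp only [commutatorElement_def]; group,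
      commutatorElement_eq_one_iff_mul_comm.2 (hc' y hy), one_mul,
      show y * ⁅a, h⁆ * y⁻¹ = ⁅a, h⁆ by
        have hyc : y * ⁅a, h⁆ = ⁅a, h⁆ * y := congrArg Subtype.val (hXbc.is_comm.comm (⟨y, hy⟩ : Xb) ⟨_, hah⟩)
        rw [hyc, mul_inv_cancel_right]]
    exact commutator_mem_commutator ha hh
  -- so `[V_L, R]` is fixed by the residual
  have hfix : ⁅VL, R⁆ ≤ RankOnePush.resFix p DL := by
    intro w hw
    have hwX : (w : G) ∈ X1 := hVLR hw
    have hwW : (w : G) ∈ Wz := lc.vl_le m2 ((commutator_le_left VL R) hw)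
    have hwC : π (w : G) ∈ centralizer (Ab : Set (G ⧸ P0)) := by
      refine mem_centralizer_iff.2 ?_
      rintro _ ⟨h, hh, rfl⟩
      have hhC : h ∈ C := hC0C ((map_subtype_le Hc') hh)
      have hho : (orderOf h).Coprime p := hHcco.coprime_dvd_left (by
        rw [← orderOf_mk h hh]; exact orderOf_dvd_natCard _)
      have h0 : ⁅h, (w : G)⁆ = 1 := by
        refine fix_of_stable hho ?_ (hfixV h hhC _ (m2.act h (c.coprime_mem_Kc m2 hho) _ hwW))
        rw [commutatorElement_def]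
        exact mul_mem (hQn.conj_mem _ (hX1Q hwX) h) (inv_mem (hX1Q hwX))
      rw [← map_mul, ← map_mul, commutatorElement_eq_one_iff_mul_comm.1 h0]
    have h1 := (Coprime.inf_centralizer_inf_commutator_eq_bot hAN hcop).le
      ⟨⟨mem_map_of_mem π hwX, hwC⟩, hgen (mem_map_of_mem π hwX)⟩
    have h2 : (w : G) ∈ P0 := (QuotientGroup.eq_one_iff _).1 h1
    obtain ⟨w', hw', he⟩ := hP0R h2
    exact (Subtype.ext he : w' = w) ▸ hw'
  refine rk.small.ncov (top_le_iff.1 ?_)
  obtain ⟨P, hP⟩ := rk.setup.sylow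
  rw [← RankOnePush.residual_sup_sylow P, hP]
  refine sup_le_sup_right ?_ _
  rw [Cfsg.pResidual, closure_le]
  intro x hx
  refine mem_centralizer_iff.2 fun v hv => ?_
  have h1 : ⁅x, v⁆ = 1 := by
    refine fix_of_stable hx ?_ ?_
    · rw [commutatorElement_def]
      exact mul_mem (hDLn.conj_mem v (rk.small.le hv) x) (inv_mem (rk.small.le hv))
    · have h2 : ⁅x, v⁆ ∈ RankOnePush.resFix p DL := hfix (by
        rw [← commutatorElement_inv]
        exact inv_mem (commutator_mem_commutator hv (subset_closure hx)))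
      exact commutatorElement_eq_one_iff_mul_comm.2 (mem_centralizer_iff.1 h2.2 x (subset_closure hx))
  exact (commutatorElement_eq_one_iff_mul_comm.1 h1).symm

end Cfsg.Agent.Lib.MinPush94
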