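import Cfsg.Agent.Lib.MinPush94.Lift
import Cfsg.Agent.Lib.MinPush94.CQ

/-!
# Blocks over subgroups of the image, and the transport of lifts
-/

set_option autoImplicit false
set_option linter.unusedSectionVars false

namespace Cfsg.Agent.Lib.MinPush94

open Subgroup SL2Recog FFMin FFComp
open Cfsg.Agent.Lib Cfsg.Agent.Lib.FocalChar
open scoped commutatorElement

universe u

variable {G : Type u} [Group G] [Finite G] {p : ℕ} [Fact p.Prime] {T M V : Subgroup G}
  {H W : Type u} [Group H] [Finite H] [AddCommGroup W] [Finite W] [DistribMulAction H W]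
  [FaithfulSMul H W] {f : G →* H} {j : W → G} {Wz Kc : Subgroup G}
  {TH : Sylow p H} {D X : Subgroup H} {L : Subgroup G}

/-- The model with the kernel known. -/
structure Env (p : ℕ) (T M V Wz Kc : Subgroup G) (f : G →* H) (j : W → G) : Prop where
  model : Model p T M V f j
  m2 : Module2 p T V Wz Kc
  ker : f.ker = Cfsg.pCore p G

/-- The elements of order prime to `p` move `O_p` into `V`. -/
def Stab (p : ℕ) (V : Subgroup G) : Prop :=
  ∀ y : G, (orderOf y).Coprime p → ∀ q ∈ Cfsg.pCore p G, ⁅y, q⁆ ∈ V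

/-- `O^p` of the preimage. -/
def blk (p : ℕ) (f : G →* H) (E : Subgroup H) : Subgroup G := Cfsg.pResidualOf p (E.comap f)

theorem mem_blk_of_coprime {E : Subgroup H} {x : G} (hx : (orderOf x).Coprime p) (hE : f x ∈ E) :
    x ∈ blk p f E := by
  have hx' : x ∈ E.comap f := hE
  refine ⟨⟨x, hx'⟩, subset_closure ?_, rfl⟩
  show (orderOf (⟨x, hx'⟩ : ↥(E.comap f))).Coprime p
  rwa [orderOf_mk]

theorem blk_le {E : Subgroup H} {K : Subgroup G}
    (h : ∀ x : G, (orderOf x).Coprime p → f x ∈ E → x ∈ K) : blk p f E ≤ K := by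
  rw [blk, Cfsg.pResidualOf, Cfsg.pResidual, map_le_iff_le_comap, closure_le]
  intro x hx
  exact h x (by rwa [orderOf_coe]) x.2

theorem blk_le_comap (E : Subgroup H) : blk p f E ≤ E.comap f := blk_le fun _ _ h => h

theorem blk_conj (g : G) (E : Subgroup H) :
    (blk p f E).map (MulAut.conj g).toMonoidHom = blk p f (cnj (f g) E) := by
  have key : ∀ (g : G) (E : Subgroup H),
      (blk p f E).map (MulAut.conj g).toMonoidHom ≤ blk p f (cnj (f g) E) := fun g E => by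
    rw [map_le_iff_le_comap]
    refine blk_le fun x hx hxE => mem_blk_of_coprime ?_ ?_
    · rwa [MulEquiv.coe_toMonoidHom, MulEquiv.orderOf_eq]
    · refine ⟨f x, hxE, ?_⟩
      simp
  refine le_antisymm (key g E) ?_
  have h1 := Subgroup.map_mono (f := (MulAut.conj g).toMonoidHom) (key g⁻¹ (cnj (f g) E))
  rw [map_map] at h1
  have e : (MulAut.conj g).toMonoidHom.comp (MulAut.conj g⁻¹).toMonoidHom = MonoidHom.id G := by
    ext x; simp [mul_assoc]
  rw [e, Subgroup.map_id, cnj_cnj, ← map_mul, inv_mul_cancel, map_one, cnj_one] at h1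
  exact h1

namespace Env

variable (ev : Env p T M V Wz Kc f j)

include ev

theorem surj : Function.Surjective f := ev.model.surj

theorem Wz_le_bMax : Wz ≤ bMax p T := by
  rw [ev.m2.W_eq]
  refine sup_le (fun v hv => ⟨ev.model.hyp0.pre.core_le (ev.model.module.leQ hv), ?_⟩) ?_
  · exact mem_centralizer_iff.2 fun z hz => el_comm ev.m2.elW
      (ev.m2.W_eq ▸ mem_sup_right hz) (ev.m2.W_eq ▸ mem_sup_left hv)
  · intro z hz
    have hzW : z ∈ Wz := ev.m2.W_eq ▸ mem_sup_right hz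
    obtain ⟨A, hA⟩ := exists_maxEl (p := p) T
    exact maxEl_le_bMax hA (zMax_le hA hz)

theorem V_le_bMax : V ≤ bMax p T := (ev.m2.W_eq ▸ le_sup_left : V ≤ Wz).trans ev.Wz_le_bMax

/-- Conjugation carries commutator spaces along. -/
theorem conj_mem_jImg {A A' : Subgroup H} {g : G} (hA : cnj (f g) A ≤ A') {x : G}
    (hx : x ∈ jImg j (devSpan W A)) : g * x * g⁻¹ ∈ jImg j (devSpan W A') := by
  obtain ⟨w, hw, rfl⟩ := ev.model.mem_jImg.1 hx
  rw [← ev.model.equiv]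
  refine ev.model.mem_jImg.2 ⟨_, ?_, rfl⟩
  have hle : devSpan W A ≤ (devSpan W A').comap (DistribSMul.toAddMonoidHom W (f g)) :=
    (AddSubgroup.closure_le _).2 fun _ ⟨a, ha, v, hv⟩ => by
      subst hv
      show f g • dev a v ∈ devSpan W A'
      rw [smul_dev]
      exact dev_mem_devSpan (hA ⟨a, ha, rfl⟩) _
  exact hle hw

/-- A lift is exact when the commutator space of the member meets the fixed points trivially. -/
theorem exact (sl : Slot p W (TH : Subgroup H) (M.map f) D X) {Y : Subgroup G}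
    (hY : Lift p T f j D (others p W (TH : Subgroup H) D) Y)
    (hfree : devSpan W D ⊓ fx W (D ⊔ X) = ⊥) {y : G} (hy : y ∈ Y) : f y ∈ D := by
  obtain ⟨d, hd, o, ho, he⟩ := hY.img y hy
  suffices h : o = 1 by rw [he, h, mul_one]; exact hd
  refine eq_one_of_dev fun w : W => ?_
  have h1 := hY.commB y hy _ (ev.V_le_bMax (ev.model.jmem w))
  rw [ev.model.comm_eq, ev.model.mem_jImg] at h1
  obtain ⟨w', hw', hww⟩ := h1
  rw [ev.model.jinj hww, he, dev_mul] at hw'
  have h2 : dev o w ∈ fx W (D ⊔ X) := sl.orth ho w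
  rw [h2 d (mem_sup_left hd)] at hw'
  have h3 : dev o w ∈ devSpan W D ⊓ fx W (D ⊔ X) :=
    ⟨(AddSubgroup.add_mem_cancel_right _ (dev_mem_devSpan hd w)).1 hw', h2⟩
  rwa [hfree, AddSubgroup.mem_bot] at h3

end Env

/-- A lift of an element of a member. -/
structure Good (p : ℕ) (T Wz : Subgroup G) (f : G →* H) (j : W → G) (A : Subgroup H) (t : G) : Prop where
  img : f t ∈ A
  pow : t ^ p = 1
  comm : ∀ x ∈ Cfsg.pCore p G ⊓ bMax p T, ⁅t, x⁆ ∈ jImg j (devSpan W A)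
  commW : ∀ w ∈ Wz, ⁅t, w⁆ ∈ jImg j (devSpan W A)

/-- Lifts of two commuting members, from lifts of all members of a Sylow subgroup. -/
theorem Env.exists_good_pair (ev : Env p T M V Wz Kc f j) (hTH : (TH : Subgroup H) = T.map f)
    (hlift : ∀ D ∈ members p W (TH : Subgroup H), ∃ Y : Subgroup G,
      Lift p T f j D (others p W (TH : Subgroup H) D) Y ∧ ∀ y ∈ Y, f y ∈ D)
    {A A' : Subgroup H} (hA : Mem p W A) (hA' : Mem p W A') (hc : Comm A A')
    {a a' : H} (ha : a ∈ A) (ha' : a' ∈ A') :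
    ∃ t t', f t = a ∧ f t' = a' ∧ Good p T Wz f j A t ∧ Good p T Wz f j A' t' ∧
      ⁅t, t'⁆ ∈ jImg j (devSpan W A) := by
  obtain ⟨R, hR⟩ := (hA.elem.sup hA'.elem fun x hx y hy => hc x hx y hy).isPGroup.exists_le_sylow
  obtain ⟨h, hh⟩ := MulAction.exists_smul_eq H R TH
  obtain ⟨g, hg⟩ := ev.surj h⁻¹
  have hTM : (TH : Subgroup H) ≤ M.map f := hTH.le.trans (map_mono ev.model.hyp0.le)
  have hmem : ∀ {Z : Subgroup H}, Mem p W Z → Z ≤ R → cnj h Z ∈ members p W (TH : Subgroup H) :=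
    fun hZ hZR => ⟨hZ.cnj h, by rw [← hh, coe_smul_sylow]; exact cnj_mono h hZR⟩
  have hD0n := ev.model.normal_core_inf_bMax ev.m2
  have hWn := ev.m2.normalW
  have key : ∀ {Z : Subgroup H}, Mem p W Z → Z ≤ R → ∀ z ∈ Z, ∃ y, y ∈ bMax p T ∧
      f (g * y * g⁻¹) = z ∧ Good p T Wz f j Z (g * y * g⁻¹) ∧
      ∀ x ∈ bMax p T, g * ⁅y, x⁆ * g⁻¹ ∈ jImg j (devSpan W Z) := by
    intro Z hZ hZR z hz
    obtain ⟨Y, hY, hex⟩ := hlift _ (hmem hZ hZR)
    have hzD : h * z * h⁻¹ ∈ cnj h Z := mem_map_of_mem _ hz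
    obtain ⟨y, hy, hyz⟩ : ∃ y ∈ Y, f y = h * z * h⁻¹ := by
      obtain ⟨b, hb, hbe⟩ : h * z * h⁻¹ ∈ (bMax p T).map f :=
        (ev.model.image_bMax hTH).ge (le_sSup (hmem hZ hZR) hzD)
      obtain ⟨y, hy, e, -, heo, hye⟩ := hY.cover b hb
      refine ⟨y, hy, ?_⟩
      obtain ⟨X, sl⟩ := exists_slot ev.model.std ev.model.umax hTM (hmem hZ hZR)
      have h1 : (f y)⁻¹ * (h * z * h⁻¹) = f e := by
        rw [← hbe, ← hye, map_mul, inv_mul_cancel_left]
      exact inv_mul_eq_one.1 (sl.disj _ (mem_sup_left (mul_mem (inv_mem (hex y hy)) hzD)) (h1 ▸ heo))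
    have hcom : ∀ x ∈ bMax p T, g * ⁅y, x⁆ * g⁻¹ ∈ jImg j (devSpan W Z) := fun x hx =>
      ev.conj_mem_jImg (by rw [hg, cnj_cnj, inv_mul_cancel, cnj_one]) (hY.commB y hy x hx)
    have himg : f (g * y * g⁻¹) = z := by rw [map_mul, map_mul, map_inv, hg, hyz]; group
    refine ⟨y, hY.le hy, himg, ⟨himg ▸ hz, ?_, fun x hx => ?_, fun x hx => ?_⟩, hcom⟩
    · rw [conj_pow, hY.pow y hy, mul_one, mul_inv_cancel]
    all_goals
      rw [show ⁅g * y * g⁻¹, x⁆ = g * ⁅y, g⁻¹ * x * g⁆ * g⁻¹ by simp only [commutatorElement_def]; group]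
      refine hcom _ ?_
    · simpa using (hD0n.conj_mem x hx g⁻¹).2
    · exact ev.Wz_le_bMax (by simpa using hWn.conj_mem x hx g⁻¹)
  obtain ⟨y, hy, e1, g1, k1⟩ := key hA (le_sup_left.trans hR) a ha
  obtain ⟨y', hy', e2, g2, -⟩ := key hA' (le_sup_right.trans hR) a' ha'
  refine ⟨_, _, e1, e2, g1, g2, ?_⟩
  rw [show ⁅g * y * g⁻¹, g * y' * g⁻¹⁆ = g * ⁅y, y'⁆ * g⁻¹ by simp only [commutatorElement_def]; group]
  exact k1 y' hy'

end Cfsg.Agent.Lib.MinPush94
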