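import Mathlib
import Cfsg.Prelude.Def_Transfer
import Cfsg.Agent.Lib.RankOnePush.Coord
import Cfsg.Agent.Lib.RankOnePush.Residual
/-!
Auxiliary facts for the exceptional case of rank one pushing up: vectors fixed by elements of
`SL₂(F)`, alternating invariant forms on the natural module, the image of the residual, and the
vanishing of the central part of a residual group with abelian Sylow group.
-/

set_option autoImplicit false
set_option linter.unusedSectionVars false

namespace Cfsg.Agent.Lib.MinPush94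

open Subgroup Matrix
open Cfsg.Agent.Lib
open Cfsg.Agent.Lib.SL2 (SLtwo upper lower)
open scoped commutatorElement

section Mat

variable {F : Type*} [Field F]

theorem mulVec_two (M : Matrix (Fin 2) (Fin 2) F) (v : Fin 2 → F) :
    M *ᵥ v = ![M 0 0 * v 0 + M 0 1 * v 1, M 1 0 * v 0 + M 1 1 * v 1] := by
  funext i
  fin_cases i <;> simp [Matrix.mulVec, dotProduct, Fin.sum_univ_two]

/-- Every nonzero vector is sent to the first basis vector; second coordinates become determinants. -/
theorem exists_to_first {v : Fin 2 → F} (hv : v ≠ 0) :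
    ∃ M : SLtwo F, M.1 *ᵥ v = ![1, 0] ∧
      ∀ w : Fin 2 → F, (M.1 *ᵥ w) 1 = v 0 * w 1 - v 1 * w 0 := by
  by_cases h0 : v 0 = 0
  · have h1 : v 1 ≠ 0 := fun h1 => hv (by funext i; fin_cases i <;> simp [h0, h1])
    refine ⟨SL2.ofEntries 0 (v 1)⁻¹ (-v 1) 0 (by field_simp; ring), ?_, fun w => ?_⟩
    · funext i
      fin_cases i <;> simp [mulVec_two, Matrix.vecHead, Matrix.vecTail, h0, h1]
    · simp [mulVec_two, Matrix.vecHead, Matrix.vecTail, h0]
  · refine ⟨SL2.ofEntries (v 0)⁻¹ 0 (-v 1) (v 0) (by field_simp; ring), ?_, fun w => ?_⟩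
    · funext i
      fin_cases i <;> simp [mulVec_two, Matrix.vecHead, Matrix.vecTail, h0] <;> ring
    · simp [mulVec_two, Matrix.vecHead, Matrix.vecTail]; ring

theorem exists_mulVec_eq {v w : Fin 2 → F} (hv : v ≠ 0) (hw : w ≠ 0) :
    ∃ M : SLtwo F, M.1 *ᵥ v = w := by
  obtain ⟨A, hA, -⟩ := exists_to_first hv
  obtain ⟨B, hB, -⟩ := exists_to_first hw
  refine ⟨B⁻¹ * A, ?_⟩
  rw [Matrix.SpecialLinearGroup.coe_mul, ← mulVec_mulVec, hA, ← hB, mulVec_mulVec,
    ← Matrix.SpecialLinearGroup.coe_mul, inv_mul_cancel, Matrix.SpecialLinearGroup.coe_one, one_mulVec]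

/-- An element of `SL₂` fixing a nonzero vector moves all vectors by multiples of it, and its
square step vanishes. -/
theorem fix_vector {M : SLtwo F} {v₀ : Fin 2 → F} (hv₀ : v₀ ≠ 0) (h : M.1 *ᵥ v₀ = v₀) :
    (∀ v, ∃ c : F, M.1 *ᵥ v - v = c • v₀) ∧ (M.1 - 1) * (M.1 - 1) = 0 := by
  obtain ⟨A, hA, -⟩ := exists_to_first hv₀
  set N := A * M * A⁻¹ with hN
  have hAv : ∀ v, A⁻¹.1 *ᵥ (A.1 *ᵥ v) = v := fun v => by
    rw [mulVec_mulVec, ← Matrix.SpecialLinearGroup.coe_mul, inv_mul_cancel,
      Matrix.SpecialLinearGroup.coe_one, one_mulVec]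
  have hN1 : N.1 *ᵥ ![1, 0] = ![1, 0] := by
    rw [← hA, hN, Matrix.SpecialLinearGroup.coe_mul, Matrix.SpecialLinearGroup.coe_mul,
      ← mulVec_mulVec, hAv, ← mulVec_mulVec, h]
  have h00 : N.1 0 0 = 1 := by simpa [mulVec_two] using congrFun hN1 0
  have h10 : N.1 1 0 = 0 := by simpa [mulVec_two] using congrFun hN1 1
  have h11 : N.1 1 1 = 1 := by
    have hd := N.2
    rw [Matrix.det_fin_two, h00, h10] at hd
    simpa using hd
  have hsq : (N.1 - 1) * (N.1 - 1) = 0 := by
    ext i j
    fin_cases i <;> fin_cases j <;> simp [Matrix.mul_apply, Fin.sum_univ_two, h00, h10, h11]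
  have hM : M.1 = A⁻¹.1 * N.1 * A.1 := by
    rw [← Matrix.SpecialLinearGroup.coe_mul, ← Matrix.SpecialLinearGroup.coe_mul]
    exact congrArg Subtype.val (show M = A⁻¹ * N * A by simp [hN, mul_assoc])
  constructor
  · intro v
    refine ⟨N.1 0 1 * (A.1 *ᵥ v) 1, ?_⟩
    have e : N.1 *ᵥ (A.1 *ᵥ v) = A.1 *ᵥ v + (N.1 0 1 * (A.1 *ᵥ v) 1) • ![1, 0] := by
      funext i
      fin_cases i <;> simp [mulVec_two, h00, h10, h11]
    rw [hM, mul_assoc, ← mulVec_mulVec, ← mulVec_mulVec, e, mulVec_add, mulVec_smul, hAv, ← hA, hAv,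
      add_sub_cancel_left]
  · have hI : A⁻¹.1 * A.1 = 1 := by
      rw [← Matrix.SpecialLinearGroup.coe_mul, inv_mul_cancel, Matrix.SpecialLinearGroup.coe_one]
    have hI' : A.1 * A⁻¹.1 = 1 := by
      rw [← Matrix.SpecialLinearGroup.coe_mul, mul_inv_cancel, Matrix.SpecialLinearGroup.coe_one]
    have e : M.1 - 1 = A⁻¹.1 * (N.1 - 1) * A.1 := by
      rw [Matrix.mul_sub, Matrix.sub_mul, mul_one, hI, hM]
    rw [e, show A⁻¹.1 * (N.1 - 1) * A.1 * (A⁻¹.1 * (N.1 - 1) * A.1) =
      A⁻¹.1 * ((N.1 - 1) * (A.1 * A⁻¹.1) * (N.1 - 1)) * A.1 by simp only [mul_assoc],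
      hI', mul_one, hsq, mul_zero, zero_mul]

theorem pow_eq_one_of_fix {p : ℕ} [CharP F p] {M : SLtwo F} {v₀ : Fin 2 → F} (hv₀ : v₀ ≠ 0)
    (h : M.1 *ᵥ v₀ = v₀) : M ^ p = 1 := by
  obtain ⟨-, hsq⟩ := fix_vector hv₀ h
  have key : ∀ k : ℕ, M.1 ^ k = 1 + (k : F) • (M.1 - 1) := by
    intro k
    induction k with
    | zero => simp
    | succ k ih =>
      rw [pow_succ, ih, show (1 + (k : F) • (M.1 - 1)) * M.1 =
        (1 + (k : F) • (M.1 - 1)) * (1 + (M.1 - 1)) by rw [add_sub_cancel], add_mul, one_mul,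
        smul_mul_assoc, mul_add, mul_one, hsq, add_zero, add_assoc, Nat.cast_succ, add_smul, one_smul,
        add_comm (M.1 - 1)]
  apply Subtype.ext
  rw [Matrix.SpecialLinearGroup.coe_pow, key, CharP.cast_eq_zero, zero_smul, add_zero,
    Matrix.SpecialLinearGroup.coe_one]

/-- An invariant alternating biadditive map on the natural module is a function of the determinant. -/
theorem form_det {A : Type*} [AddCommGroup A] (β : (Fin 2 → F) → (Fin 2 → F) → A)
    (hl : ∀ u u' v, β (u + u') v = β u v + β u' v) (hr : ∀ u v v', β u (v + v') = β u v + β u v')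
    (hinv : ∀ (M : SLtwo F) u v, β (M.1 *ᵥ u) (M.1 *ᵥ v) = β u v) :
    ∀ v w, β v w = β ![1, 0] ![0, v 0 * w 1 - v 1 * w 0] := by
  have hl0 : ∀ v, β 0 v = 0 := fun v => by simpa using hl 0 0 v
  have hr0 : ∀ v, β v 0 = 0 := fun v => by simpa using hr v 0 0
  have hshift : ∀ a b : F, b ≠ 0 → β ![1, 0] ![a, b] = β ![1, 0] ![0, b] := by
    intro a b hb
    have := hinv (SL2.upper (-(a / b))) ![1, 0] ![a, b]
    rw [← this]
    congr 1 <;> funext i <;> fin_cases i <;> simp [mulVec_two, hb]
  have hzero : ∀ a : F, β ![1, 0] ![a, 0] = 0 := by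
    intro a
    have e := hr ![1, 0] ![a, 0] ![0, 1]
    rw [show ![a, 0] + ![0, (1 : F)] = ![a, 1] by simp, hshift a 1 one_ne_zero] at e
    simpa using e
  intro v w
  by_cases hv : v = 0
  · subst hv
    rw [hl0]
    simp only [Pi.zero_apply, zero_mul, sub_zero]
    exact (hzero 0).symm
  obtain ⟨M, hM1, hM2⟩ := exists_to_first hv
  rw [← hinv M v w, hM1, ← hM2 w]
  have e : M.1 *ᵥ w = ![(M.1 *ᵥ w) 0, (M.1 *ᵥ w) 1] := by funext i; fin_cases i <;> rfl
  conv_lhs => rw [e]
  by_cases hb : (M.1 *ᵥ w) 1 = 0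
  · rw [hb, hzero, hzero]
  · exact hshift _ _ hb

end Mat

section Residual

variable {G : Type*} [Group G] [Finite G] {p : ℕ} [hp : Fact p.Prime]

theorem eq_one_of_coprime_hom {H : Type*} [Group H] (hH : IsPGroup p H) (f : G →* H)
    (hgen : Cfsg.pResidual p G = ⊤) (g : G) : f g = 1 := by
  have hle : Cfsg.pResidual p G ≤ f.ker := by
    rw [Cfsg.pResidual, closure_le]
    intro x hx
    obtain ⟨k, hk⟩ := hH (f x)
    have hd := Nat.dvd_gcd (orderOf_map_dvd f x) (orderOf_dvd_of_pow_eq_one hk)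
    rw [(Nat.Coprime.pow_right k hx).gcd_eq_one, Nat.dvd_one, orderOf_eq_one_iff] at hd
    exact hd
  exact hle (hgen.ge (mem_top g))

/-- A central `p`-element of a group generated by `p'`-elements with abelian Sylow group is trivial. -/
theorem central_eq_one (hgen : Cfsg.pResidual p G = ⊤) {P : Subgroup G} (hP : IsPGroup p P)
    (hidx : ¬ p ∣ P.index) (hab : ∀ x ∈ P, ∀ y ∈ P, x * y = y * x) {z : G} (hz : z ∈ P)
    (hc : ∀ g, g * z = z * g) : z = 1 := by
  letI : CommGroup ↥P := { (inferInstance : Group ↥P) with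
    mul_comm := fun a b => Subtype.ext (hab a a.2 b b.2) }
  haveI : P.FiniteIndex := inferInstance
  have key : ∀ (k : ℕ) (g₀ : G), g₀⁻¹ * z ^ k * g₀ ∈ P → g₀⁻¹ * z ^ k * g₀ = z ^ k := fun k g₀ _ => by
    rw [mul_assoc, ← ((show Commute g₀ z from hc g₀).pow_right k).eq, inv_mul_cancel_left]
  have h1 := eq_one_of_coprime_hom hP (MonoidHom.transfer (MonoidHom.id ↥P)) hgen z
  rw [MonoidHom.transfer_eq_pow _ z key] at h1
  have h2 : z ^ P.index = 1 := congrArg Subtype.val h1
  obtain ⟨k, hk⟩ := hP ⟨z, hz⟩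
  have hd := Nat.dvd_gcd (orderOf_dvd_of_pow_eq_one h2)
    (orderOf_dvd_of_pow_eq_one (show z ^ p ^ k = 1 by simpa using congrArg Subtype.val hk))
  rw [((hp.out.coprime_iff_not_dvd.2 hidx).symm.pow_right k).gcd_eq_one, Nat.dvd_one,
    orderOf_eq_one_iff] at hd
  exact hd

theorem map_pResidual {H : Type*} [Group H] [Finite H] (f : G →* H) (hf : Function.Surjective f) :
    (Cfsg.pResidual p G).map f = Cfsg.pResidual p H := by
  refine le_antisymm ?_ ?_
  · rw [Cfsg.pResidual, MonoidHom.map_closure, closure_le]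
    rintro _ ⟨x, hx, rfl⟩
    exact subset_closure (Nat.Coprime.coprime_dvd_left (orderOf_map_dvd f x) hx)
  · rw [Cfsg.pResidual, closure_le]
    intro y hy
    obtain ⟨x, rfl⟩ := hf y
    set e := (orderOf x).factorization p
    have hcop : (orderOf (f x)).Coprime (p ^ e) := hy.pow_right e
    obtain ⟨k, hk⟩ := exists_pow_eq_self_of_coprime hcop.symm
    refine ⟨(x ^ p ^ e) ^ k, pow_mem (subset_closure ?_) k, by rw [map_pow, map_pow]; exact hk⟩
    show (orderOf (x ^ p ^ e)).Coprime p
    rw [orderOf_pow_of_dvd (pow_ne_zero _ hp.out.ne_zero) (Nat.ordProj_dvd _ p)]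
    exact (Nat.coprime_ordCompl hp.out (orderOf_pos x).ne').symm

end Residual

section SL

variable {p : ℕ} [hp : Fact p.Prime] {F : Type*} [Field F] [Fintype F] [CharP F p]

theorem upper_pow' (a : F) : ∀ k : ℕ, (upper a) ^ k = upper ((k : F) * a) := by
  intro k
  induction k with
  | zero => simp [SL2.upper_zero]
  | succ k ih => rw [pow_succ, ih, SL2.upper_mul, Nat.cast_succ, add_mul, one_mul]

/-- The residual of `SL₂` in its characteristic is the derived group. -/
theorem pResidual_SL :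
    Cfsg.pResidual p (SLtwo F) = commutator (SLtwo F) := by
  haveI : Finite (SLtwo F) := inferInstance
  obtain ⟨n, -, hn⟩ := FiniteField.card F p
  refine le_antisymm ?_ ?_
  · rw [Cfsg.pResidual, closure_le]
    intro x hx
    let q := Abelianization.of (G := SLtwo F)
    have hp1 : ∀ y : Abelianization (SLtwo F), y ^ p = 1 := by
      let E : Subgroup (SLtwo F) :=
        { carrier := {g | q g ^ p = 1}
          one_mem' := by simp
          mul_mem' := fun {a b} ha hb => by
            show q (a * b) ^ p = 1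
            rw [map_mul, mul_pow, ha, hb, one_mul]
          inv_mem' := fun {a} ha => by
            show q a⁻¹ ^ p = 1
            rw [map_inv, inv_pow, ha, inv_one] }
      have hE : E = ⊤ := by
        refine LinGroup.closure_upper_lower (fun t => ?_) (fun t => ?_)
        · show q (upper t) ^ p = 1
          rw [← map_pow, upper_pow', CharP.cast_eq_zero, zero_mul, SL2.upper_zero, map_one]
        · show q (lower t) ^ p = 1
          have e : ∀ k : ℕ, (lower t) ^ k = lower ((k : F) * t) := by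
            intro k
            induction k with
            | zero =>
              apply SL2.ext_entries <;> simp
            | succ k ih =>
              rw [pow_succ, ih]
              apply SL2.ext_entries <;>
                simp [SL2.mul_00, SL2.mul_01, SL2.mul_10, SL2.mul_11, add_mul]
          rw [← map_pow, e, CharP.cast_eq_zero, zero_mul]
          rw [show lower (0 : F) = 1 by apply SL2.ext_entries <;> simp, map_one]
      intro y
      obtain ⟨g, rfl⟩ := QuotientGroup.mk_surjective y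
      exact hE.ge (mem_top g)
    have hd := Nat.dvd_gcd (orderOf_map_dvd q x) (orderOf_dvd_of_pow_eq_one (hp1 (q x)))
    rw [Nat.Coprime.gcd_eq_one hx, Nat.dvd_one, orderOf_eq_one_iff] at hd
    exact (Abelianization.ker_of (SLtwo F)).le hd
  · set L := Cfsg.pResidual p (SLtwo F)
    let U : Subgroup (SLtwo F) := (SL2.upperHom).range
    have hU : IsPGroup p U := by
      rintro ⟨_, a, rfl⟩
      refine ⟨1, Subtype.ext ?_⟩
      show upper (Multiplicative.toAdd a) ^ p ^ 1 = 1
      rw [pow_one, upper_pow', CharP.cast_eq_zero, zero_mul, SL2.upper_zero]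
    obtain ⟨P, hUP⟩ := hU.exists_le_sylow
    have hsup := RankOnePush.residual_sup_sylow P
    have hcard : Nat.card P = Nat.card U := by
      refine le_antisymm ?_ (card_le_of_le hUP)
      have hF : Nat.card U = Fintype.card F := by
        rw [← Nat.card_eq_fintype_card]
        exact (Nat.card_congr (MonoidHom.ofInjective (f := SL2.upperHom (F := F)) (fun a b h => by
          simpa [SL2.upperHom] using congrArg (fun g : SLtwo F => g 0 1) h)).toEquiv).symm.trans
          (Nat.card_congr Multiplicative.toAdd)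
      obtain ⟨k, hk⟩ := P.2.exists_card_eq
      have hdvd : p ^ k ∣ Nat.card (SLtwo F) := hk ▸ card_subgroup_dvd_card _
      rw [SL2.card_SLtwo] at hdvd
      rw [hk, hF]
      refine Nat.le_of_dvd (Fintype.card_pos) ((Nat.Coprime.dvd_mul_right ?_).1 hdvd)
      refine Nat.Coprime.pow_left k (hp.out.coprime_iff_not_dvd.2 fun hd => ?_)
      have h1 : p ∣ Fintype.card F ^ 2 := dvd_pow (hn ▸ dvd_pow_self p n.ne_zero) two_ne_zero
      have h2 := Nat.dvd_sub h1 hd
      have h3 : 1 ≤ Fintype.card F ^ 2 := Nat.one_le_pow _ _ Fintype.card_pos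
      rw [show Fintype.card F ^ 2 - (Fintype.card F ^ 2 - 1) = 1 by omega] at h2
      exact hp.out.one_lt.ne' (Nat.dvd_one.1 h2)
    have hPU : (P : Subgroup (SLtwo F)) = U := (eq_of_le_of_card_ge hUP hcard.le).symm
    rw [_root_.commutator_def, commutator_le]
    intro a _ b _
    obtain ⟨a₁, ha₁, a₂, ha₂, rfl⟩ := mem_sup_of_normal_left.1 (hsup.ge (mem_top a))
    obtain ⟨b₁, hb₁, b₂, hb₂, rfl⟩ := mem_sup_of_normal_left.1 (hsup.ge (mem_top b))
    refine (QuotientGroup.eq_one_iff _).1 ?_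
    show QuotientGroup.mk' L _ = 1
    rw [map_commutatorElement, map_mul, map_mul, show QuotientGroup.mk' L a₁ = 1 from
      (QuotientGroup.eq_one_iff _).2 ha₁, show QuotientGroup.mk' L b₁ = 1 from
      (QuotientGroup.eq_one_iff _).2 hb₁, one_mul, one_mul, ← map_commutatorElement]
    rw [hPU] at ha₂ hb₂
    obtain ⟨x, rfl⟩ := ha₂
    obtain ⟨y, rfl⟩ := hb₂
    rw [← map_commutatorElement (SL2.upperHom (F := F)), commutatorElement_eq_one_iff_commute.2 (Commute.all x y),
      map_one, map_one]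

theorem range_comp_residual {G : Type*} [Group G] [Finite G] (f : G →* SLtwo F)
    (hf : Function.Surjective f) :
    (f.comp (Cfsg.pResidual p G).subtype).range = commutator (SLtwo F) := by
  rw [MonoidHom.range_comp, Subgroup.range_subtype, map_pResidual f hf, pResidual_SL]

end SL

end Cfsg.Agent.Lib.MinPush94
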