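import Mathlib
import Cfsg.Prelude.Def_BaumannBlocks
import Cfsg.Agent.Lib.RankOnePush.Factors
import Cfsg.Agent.Lib.RankOnePush.ShapeBridge
import Cfsg.Agent.Lib.MinPush94.ExcAlg
/-!
The layers of `O_p(G)` in the second case of rank one pushing up: `D = [D,R] C_D(R)`, the inverting
involution, and the two natural layers of `[D,R]`.
-/

set_option autoImplicit false
set_option linter.unusedSectionVars false

namespace Cfsg.Agent.Lib.MinPush94

open Subgroup Matrix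
open Cfsg.Agent.Lib Cfsg.Agent.Lib.RankOnePush
open Cfsg.Agent.Lib.SL2 (SLtwo PSLtwo proj upper)
open scoped commutatorElement

variable {G : Type*} [Group G] [Finite G] {p : ℕ} [hp : Fact p.Prime]
  {F : Type} [Field F] [Fintype F] {n : ℕ}

/-- `[D, O^p(G)]`. -/
abbrev uExc (p : ℕ) (D : Subgroup G) : Subgroup G := ⁅D, Cfsg.pResidual p G⁆
/-- its derived subgroup -/
abbrev zExc (p : ℕ) (D : Subgroup G) : Subgroup G := ⁅uExc p D, uExc p D⁆

/-- Coordinates of a natural section `A / B`. -/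
structure Coords (F : Type) [Field F] (D A B : Subgroup G) (ρ : G →* SLtwo F)
    (φ : A →* Multiplicative (Fin 2 → F)) : Prop where
  surjρ : Function.Surjective ρ
  kerρ : ρ.ker = D
  surj : Function.Surjective φ
  ker : ∀ a : A, φ a = 1 ↔ (a : G) ∈ B
  equiv : ∀ (g : G) (a : A) (ha : g * (a : G) * g⁻¹ ∈ A),
    Multiplicative.toAdd (φ ⟨g * a * g⁻¹, ha⟩) = (ρ g).1 *ᵥ Multiplicative.toAdd (φ a)

/-- The hypotheses of the second case. -/
structure ExcCtx (p : ℕ) (S D V U Q X : Subgroup G) (n : ℕ) (ψ : G →* PSLtwo F) : Prop where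
  setup : RankOnePush.Setup p S D n ψ
  small : SmallModule p S D n V
  shape : Shape p (p ^ n) ⊤ S D V U Q X
  coreEq : D = Cfsg.pCore p G
  cent : centralizer (D : Set G) ≤ D
  omega : V = normalClosure (omegaZ p S : Set G)
  alt : ¬ (U = V ∧ Q = D)
  nochar : ∀ Y : Subgroup G, Y ≤ S → Y.Normal → (Y.subgroupOf S).Characteristic → Y = ⊥

variable {S D V U Q X : Subgroup G} {ψ : G →* PSLtwo F}

namespace ExcCtx

variable (c : ExcCtx p S D V U Q X n ψ)

include c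

local notation "R₀" => Cfsg.pResidual p G
local notation "K₀" => resFix p D
local notation "U₀" => uExc p D
local notation "Z₀" => zExc p D

theorem p_ne_two : p ≠ 2 := (c.shape.alt.resolve_left c.alt).1

theorem p_odd : Odd p := hp.out.odd_of_ne_two c.p_ne_two

theorem normalD : D.Normal := c.setup.normalD

theorem normalK : (K₀).Normal := resFix_normal c.setup.normalD

theorem normalU0 : (U₀).Normal := by
  haveI := c.normalD
  infer_instance

theorem normalZ : (Z₀).Normal := by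
  haveI := c.normalU0
  infer_instance

theorem normalV : V.Normal := c.small.normal

theorem isPGroupD : IsPGroup p D := c.setup.isPGroup.to_le c.setup.le_S

theorem uExc_le_U : U₀ ≤ U := commutator_le.2 fun d hd r hr => by
  rw [← commutatorElement_inv]
  exact inv_mem (c.setup.residual_U c.small c.shape hr d hd)

theorem uExc_le_R : U₀ ≤ R₀ := commutator_le_right _ _

theorem uExc_le_D : U₀ ≤ D := by
  haveI := c.normalD
  exact commutator_le_left _ _

theorem resFix_comm {r k : G} (hr : r ∈ R₀) (hk : k ∈ K₀) : r * k = k * r :=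
  mem_centralizer_iff.1 hk.2 r hr

theorem uExc_comm_resFix {u k : G} (hu : u ∈ U₀) (hk : k ∈ K₀) : u * k = k * u :=
  c.resFix_comm (c.uExc_le_R hu) hk

theorem zExc_le_fixG : Z₀ ≤ fixG V := commutator_le.2 fun _ hu _ hu' =>
  c.setup.commU' c.small c.shape (c.uExc_le_U hu) (c.uExc_le_D hu')

theorem zExc_central {z : G} (hz : z ∈ Z₀) (g : G) : g * z = z * g :=
  mem_center_iff.1 (c.zExc_le_fixG hz).2 g

theorem zExc_le_uExc : Z₀ ≤ U₀ := by
  haveI := c.normalU0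
  exact commutator_le_left _ _

theorem zExc_le_resFix : Z₀ ≤ K₀ := c.zExc_le_fixG.trans (c.setup.fixG_le_resFix c.small c.shape)

theorem pow_U0 {u : G} (hu : u ∈ U₀) : u ^ p = 1 := c.shape.powU c.p_ne_two u (c.uExc_le_U hu)

theorem comm_quot {a b : G} (ha : a ∈ U₀) (hb : b ∈ U₀) :
    haveI := c.normalZ
    Commute (QuotientGroup.mk' (Z₀) a) (QuotientGroup.mk' (Z₀) b) := by
  haveI := c.normalZ
  rw [← commutatorElement_eq_one_iff_commute, ← map_commutatorElement]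
  exact (QuotientGroup.eq_one_iff _).2 (commutator_mem_commutator ha hb)

theorem mem_of_sq {H : Subgroup G} {x : G} (h2 : x * x ∈ H) (hpx : x ^ p ∈ H) : x ∈ H := by
  obtain ⟨k, hk⟩ := c.p_odd
  have e : x = x ^ p * ((x * x) ^ k)⁻¹ := by rw [hk, ← pow_two, ← pow_mul, pow_succ']; group
  rw [e]
  exact mul_mem hpx (inv_mem (pow_mem h2 k))

/-- The representation common to all noncentral chief factors in `D`. -/
theorem exists_pi : ∃ π : G →* SLtwo F, Function.Surjective π ∧ π.ker = D ∧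
    ∀ U' W' : Subgroup G, U' ≤ D → Cfsg.IsChiefFactor U' W' → ¬ ⁅U', (⊤ : Subgroup G)⁆ ≤ W' →
      ∀ g, (∀ u ∈ U', ⁅g, u⁆ ∈ W') ↔ g ∈ D := by
  have s := c.setup
  have m := c.small
  obtain ⟨w, hw, hgen⟩ := s.exists_weyl
  obtain ⟨hcV, hncV⟩ := s.fixG_chief m c.shape
  haveI := hcV.2.2.1
  obtain ⟨π, hπs, hπv, hπk, -, -, -⟩ :=
    s.chief_natural m (s.hact m c.shape) hw hgen m.le hcV hncV
  have key : ∀ U' W' : Subgroup G, U' ≤ D → Cfsg.IsChiefFactor U' W' →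
      ¬ ⁅U', (⊤ : Subgroup G)⁆ ≤ W' → ∀ g, g ∈ π.ker ↔ ∀ u ∈ U', ⁅g, u⁆ ∈ W' := by
    intro U' W' hUD hc hnc g
    haveI := hc.2.2.1
    obtain ⟨π', -, hπ'v, hπ'k, -, -, -⟩ := s.chief_natural m (s.hact m c.shape) hw hgen hUD hc hnc
    have heq : π' = π := s.pi_ext hgen (fun x hx => by
      obtain ⟨a, ha⟩ := s.exists_upper hx
      rw [(hπ'v x hx a ha).1, (hπv x hx a ha).1]) (fun x hx => by
      obtain ⟨a, ha⟩ := s.exists_upper hx
      rw [(hπ'v x hx a ha).2, (hπv x hx a ha).2])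
    exact heq ▸ hπ'k g
  have hker : π.ker = D := by
    refine le_antisymm ?_ fun d hd => (hπk d).2 fun v hv => ?_
    · rw [c.coreEq]
      refine PSolvable.le_pCore fun g => ⟨(orderOf (g : G)).factorization p, Subtype.ext ?_⟩
      rw [SubgroupClass.coe_pow]
      set x := (g : G) ^ p ^ (orderOf (g : G)).factorization p
      have hx : (orderOf x).Coprime p := by
        rw [orderOf_pow_of_dvd (pow_ne_zero _ hp.out.ne_zero) (Nat.ordProj_dvd _ p)]
        exact (Nat.coprime_ordCompl hp.out (orderOf_pos (g : G)).ne').symm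
      have hxk : x ∈ π.ker := pow_mem g.2 _
      refine eq_one_of_coprime c.isPGroupD hx (c.cent (s.mem_centralizer_of_chief hx
        fun U' W' hUD hc u hu => ?_))
      by_cases hnc : ⁅U', (⊤ : Subgroup G)⁆ ≤ W'
      · rw [← commutatorElement_inv]
        exact inv_mem (hnc (commutator_mem_commutator hu (mem_top x)))
      · exact (key U' W' hUD hc hnc x).1 hxk u hu
    · rw [show ⁅d, v⁆ = 1 from commutatorElement_eq_one_iff_mul_comm.2
        (mem_centralizer_iff.1 (m.comm hd) v hv).symm]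
      exact one_mem _
  exact ⟨π, hπs, hker, fun U' W' h1 h2 h3 g => (key U' W' h1 h2 h3 g).symm.trans (by rw [hker])⟩

/-- An involution of the residual which is central modulo `D`. -/
theorem exists_invol : ∃ j ∈ R₀, j * j = 1 ∧ (orderOf j).Coprime p ∧ j ∉ D ∧ ∀ g : G, ⁅g, j⁆ ∈ D := by
  obtain ⟨π, hπ, hker, -⟩ := c.exists_pi
  haveI : CharP F p := charP_of_card_eq_prime_pow c.setup.card
  obtain ⟨g, hg⟩ := hπ (-1)
  set e := (orderOf g).factorization p
  set j := g ^ p ^ e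
  have hcop : (orderOf j).Coprime p := by
    rw [orderOf_pow_of_dvd (pow_ne_zero _ hp.out.ne_zero) (Nat.ordProj_dvd _ p)]
    exact (Nat.coprime_ordCompl hp.out (orderOf_pos g).ne').symm
  have hπj : π j = -1 := by rw [map_pow, hg, (c.p_odd.pow).neg_one_pow]
  have h2 : (orderOf (j * j)).Coprime p := by
    rw [← pow_two]
    exact Nat.Coprime.coprime_dvd_left (orderOf_pow_dvd 2) hcop
  refine ⟨j, subset_closure hcop, eq_one_of_coprime c.isPGroupD h2 ?_, hcop, fun hj => ?_, fun y => ?_⟩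
  · rw [← hker, MonoidHom.mem_ker, map_mul, hπj, neg_one_mul, neg_neg]
  · have h1 : π j = 1 := MonoidHom.mem_ker.1 (hker.ge hj)
    rw [hπj] at h1
    have h00 : (-1 : F) = 1 := by simpa using congrArg (fun x : SLtwo F => x.1 0 0) h1
    exact c.p_ne_two (((Nat.prime_dvd_prime_iff_eq hp.out Nat.prime_two).1
      ((CharP.cast_eq_zero_iff F p 2).1 (by push_cast; linear_combination -h00))))
  · rw [← hker, MonoidHom.mem_ker, map_commutatorElement, hπj, commutatorElement_eq_one_iff_mul_comm,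
      mul_neg_one, neg_one_mul]

omit c in
/-- The elements of `B` fixed modulo `W` by `j`. -/
def fixMod (j : G) (B W : Subgroup G) (hW : W.Normal) : Subgroup G where
  carrier := {x | x ∈ B ∧ ⁅j, x⁆ ∈ W}
  one_mem' := ⟨one_mem _, by rw [commutatorElement_one_right]; exact one_mem _⟩
  mul_mem' {a b} ha hb := ⟨B.mul_mem ha.1 hb.1, by
    rw [show ⁅j, a * b⁆ = ⁅j, a⁆ * (a * ⁅j, b⁆ * a⁻¹) by simp only [commutatorElement_def]; group]
    exact mul_mem ha.2 (hW.conj_mem _ hb.2 a)⟩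
  inv_mem' {a} ha := ⟨B.inv_mem ha.1, by
    rw [show ⁅j, a⁻¹⁆ = a⁻¹ * ⁅j, a⁆⁻¹ * a⁻¹⁻¹ by simp only [commutatorElement_def]; group]
    exact hW.conj_mem _ (inv_mem ha.2) a⁻¹⟩

theorem fixMod_normal {j : G} (hj : ∀ g : G, ⁅g, j⁆ ∈ D) {B W : Subgroup G} (hB : B.Normal)
    (hW : W.Normal) (hDW : ∀ d ∈ D, ∀ x ∈ B, ⁅d, x⁆ ∈ W) : (fixMod j B W hW).Normal := by
  refine ⟨fun x hx g => ⟨hB.conj_mem x hx.1 g, ?_⟩⟩
  rw [show ⁅j, g * x * g⁻¹⁆ = g * (⁅g⁻¹, j⁆ * ⁅j, x⁆ * ⁅g⁻¹, j⁆⁻¹ * ⁅⁅g⁻¹, j⁆, x⁆) * g⁻¹ by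
    simp only [commutatorElement_def]; group]
  exact hW.conj_mem _ (mul_mem (hW.conj_mem _ hx.2 _) (hDW _ (hj g⁻¹) x hx.1)) g

theorem no_fixed {j : G} (hj : j ∉ D) (hjc : ∀ g : G, ⁅g, j⁆ ∈ D) {U' W' : Subgroup G} (hUD : U' ≤ D)
    (hc : Cfsg.IsChiefFactor U' W') (hnc : ¬ ⁅U', (⊤ : Subgroup G)⁆ ≤ W') {x : G} (hx : x ∈ U')
    (hfix : ⁅j, x⁆ ∈ W') : x ∈ W' := by
  obtain ⟨π, -, -, hker⟩ := c.exists_pi
  have hN := c.fixMod_normal hjc hc.2.1 hc.2.2.1
    (fun d hd u hu => (hker U' W' hUD hc hnc d).2 hd u hu)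
  rcases hc.2.2.2 (fixMod j U' W' hc.2.2.1) hN (fun w hw => ⟨hc.1.le hw, by
      rw [commutatorElement_def]
      exact mul_mem (hc.2.2.1.conj_mem w hw j) (inv_mem hw)⟩) (fun _ hy => hy.1) with e | e
  · exact e.le ⟨hx, hfix⟩
  · exact absurd ((hker U' W' hUD hc hnc j).1 fun u hu => (e.ge hu).2) hj

theorem mem_resFix_of_fixed {j : G} (hj : j ∉ D) (hjc : ∀ g : G, ⁅g, j⁆ ∈ D) {x : G} (hx : x ∈ D)
    (hfix : ⁅j, x⁆ ∈ K₀) : x ∈ K₀ := by
  have hK := c.normalK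
  set E := fixMod j D (K₀) hK
  have hE : E.Normal := c.fixMod_normal hjc c.normalD hK
    fun d hd y hy => c.setup.comm_mem_resFix c.small c.shape hd hy
  have hKE : K₀ ≤ E := fun k hk => ⟨hk.1, by
    rw [commutatorElement_def]
    exact mul_mem (hK.conj_mem k hk j) (inv_mem hk)⟩
  refine mem_resFix hx fun g hg => ?_
  refine fix_of_chain (U := E) (W := K₀) (c.isPGroupD.to_le inf_le_left) hg
    (fix_mod_of_chief hK hE (c.isPGroupD.to_le fun _ hy => hy.1) hKE hg fun U' W' h1 h2 hc u hu => ?_)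
    (fun k hk => c.resFix_comm (subset_closure hg) hk) x ⟨hx, hfix⟩
  by_cases hnc : ⁅U', (⊤ : Subgroup G)⁆ ≤ W'
  · rw [← commutatorElement_inv]
    exact inv_mem (hnc (commutator_mem_commutator hu (mem_top g)))
  · exfalso
    exact hc.1.not_ge fun y hy =>
      c.no_fixed hj hjc (fun z hz => (h2 hz).1) hc hnc hy (h1 (h2 hy).2)

/-- `D` is the product of `[D,R]` and the part fixed by `R`. -/
theorem decompD {x : G} (hx : x ∈ D) : ∃ u ∈ U₀, ∃ k ∈ K₀, u * k = x := by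
  obtain ⟨j, hjR, hjj, -, hjD, hjc⟩ := c.exists_invol
  haveI := c.normalU0
  have hji : j⁻¹ = j := inv_eq_of_mul_eq_one_right hjj
  set y := j * x * j⁻¹
  have hy : y ∈ D := c.normalD.conj_mem x hx j
  have hc : x * y ∈ K₀ := c.mem_resFix_of_fixed hjD hjc (D.mul_mem hx hy) (by
    rw [show ⁅j, x * y⁆ = ⁅y, x⁆ by
      simp only [y, hji, commutatorElement_def, _root_.mul_inv_rev, inv_inv, mul_assoc]
      rw [← mul_assoc j j, hjj, one_mul]]
    exact c.setup.comm_mem_resFix c.small c.shape hy hx)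
  have hjx : ⁅j, x⁆ ∈ U₀ := by
    rw [← commutatorElement_inv]
    exact inv_mem (commutator_mem_commutator hx hjR)
  refine mem_sup_of_normal_left.1 (c.mem_of_sq ?_ (mem_sup_right (c.setup.pow_mem_resFix c.small c.shape hx)))
  rw [show x * x = (x * ⁅j, x⁆ * x⁻¹)⁻¹ * (x * y) by simp [y, commutatorElement_def, mul_assoc]]
  exact mul_mem_sup (inv_mem (c.normalU0.conj_mem _ hjx x)) hc

theorem uExc_residual : ⁅U₀, R₀⁆ = U₀ := by
  haveI := c.normalU0
  refine le_antisymm (commutator_le_left _ _) (commutator_le.2 fun d hd r hr => ?_)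
  obtain ⟨u, hu, k, hk, rfl⟩ := c.decompD hd
  rw [show ⁅u * k, r⁆ = u * ⁅k, r⁆ * u⁻¹ * ⁅u, r⁆ by simp only [commutatorElement_def]; group,
    show ⁅k, r⁆ = 1 from commutatorElement_eq_one_iff_mul_comm.2 (c.resFix_comm hr hk).symm,
    mul_one, mul_inv_cancel, one_mul]
  exact commutator_mem_commutator hu hr

theorem comm_U0_D {u d : G} (hu : u ∈ U₀) (hd : d ∈ D) : ⁅d, u⁆ ∈ Z₀ := by
  obtain ⟨u', hu', k, hk, rfl⟩ := c.decompD hd
  rw [show ⁅u' * k, u⁆ = u' * ⁅k, u⁆ * u'⁻¹ * ⁅u', u⁆ by simp only [commutatorElement_def]; group,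
    show ⁅k, u⁆ = 1 from commutatorElement_eq_one_iff_mul_comm.2 (c.uExc_comm_resFix hu hk).symm,
    mul_one, mul_inv_cancel, one_mul]
  exact commutator_mem_commutator hu' hu

/-- The involution inverts `[D,R]` modulo its derived group. -/
theorem inverts {j : G} (hjj : j * j = 1) (hjD : j ∉ D) (hjc : ∀ g : G, ⁅g, j⁆ ∈ D)
    {u : G} (hu : u ∈ U₀) : u * (j * u * j⁻¹) ∈ Z₀ := by
  haveI := c.normalZ
  haveI := c.normalU0
  set q := QuotientGroup.mk' (Z₀)
  have hq : ∀ {a}, q a = 1 ↔ a ∈ Z₀ := fun {a} => QuotientGroup.eq_one_iff a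
  have hcj : ∀ {a}, a ∈ U₀ → ∀ g, g * a * g⁻¹ ∈ U₀ := fun ha g => c.normalU0.conj_mem _ ha g
  let E : Subgroup G :=
    { carrier := {a | a ∈ U₀ ∧ a * (j * a * j⁻¹) ∈ Z₀}
      one_mem' := ⟨one_mem _, by simp⟩
      mul_mem' := fun {a b} ha hb => ⟨mul_mem ha.1 hb.1, hq.1 (by
        rw [show j * (a * b) * j⁻¹ = (j * a * j⁻¹) * (j * b * j⁻¹) by group]
        simp only [map_mul q]
        rw [mul_assoc (q a), ← mul_assoc (q b), ← map_mul q j, ← map_mul q (j * a), ← map_mul q j b,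
          ← map_mul q (j * b), (c.comm_quot hb.1 (hcj ha.1 j)).eq, mul_assoc, ← mul_assoc (q a),
          ← map_mul q a, hq.2 ha.2, one_mul, ← map_mul q, hq.2 hb.2])⟩
      inv_mem' := fun {a} ha => ⟨inv_mem ha.1, hq.1 (by
        rw [show a⁻¹ * (j * a⁻¹ * j⁻¹) = (j * a * j⁻¹ * a)⁻¹ by group, map_inv q, map_mul q _ a,
          ← (c.comm_quot ha.1 (hcj ha.1 j)).eq, ← map_mul q a, hq.2 ha.2, inv_one])⟩ }
  have hEn : E.Normal := ⟨fun a ha g => ⟨hcj ha.1 g, by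
    rw [show g * a * g⁻¹ * (j * (g * a * g⁻¹) * j⁻¹) = g * (a * (⁅g⁻¹, j⁆ * (j * a * j⁻¹) * ⁅g⁻¹, j⁆⁻¹)) * g⁻¹ by
      simp only [commutatorElement_def]; group]
    refine c.normalZ.conj_mem _ ?_ g
    rw [show a * (⁅g⁻¹, j⁆ * (j * a * j⁻¹) * ⁅g⁻¹, j⁆⁻¹) =
      a * ⁅⁅g⁻¹, j⁆, j * a * j⁻¹⁆ * a⁻¹ * (a * (j * a * j⁻¹)) by simp only [commutatorElement_def]; group]
    exact mul_mem (c.normalZ.conj_mem _ (c.comm_U0_D (hcj ha.1 j) (hjc g⁻¹)) a) ha.2⟩⟩
  haveI := hEn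
  haveI : ((U₀ ⊓ K₀) : Subgroup G).Normal := by haveI := c.normalK; infer_instance
  have hji : j⁻¹ = j := inv_eq_of_mul_eq_one_right hjj
  have hsplit : U₀ ≤ (U₀ ⊓ K₀) ⊔ E := by
    intro a ha
    set y := j * a * j⁻¹
    have hy : y ∈ U₀ := hcj ha j
    have hjy : j * y * j⁻¹ = a := by
      simp only [y, hji]; rw [← mul_assoc, ← mul_assoc, hjj, one_mul, mul_assoc, hjj, mul_one]
    refine c.mem_of_sq ?_ (by rw [c.pow_U0 ha]; exact one_mem _)
    have hc : a * y ∈ K₀ := c.mem_resFix_of_fixed hjD hjc (c.uExc_le_D (mul_mem ha hy)) (by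
      refine c.zExc_le_resFix ?_
      rw [show ⁅j, a * y⁆ = ⁅y, a⁆ by
        rw [commutatorElement_def, show j * (a * y) * j⁻¹ = (j * a * j⁻¹) * (j * y * j⁻¹) by group, hjy,
          commutatorElement_def]
        show y * a * _ = _
        group]
      exact commutator_mem_commutator hy ha)
    have he : y⁻¹ * a ∈ E := ⟨mul_mem (inv_mem hy) ha, by
      rw [show j * (y⁻¹ * a) * j⁻¹ = (j * y * j⁻¹)⁻¹ * y by show _ = _ * (j * a * j⁻¹); group, hjy,
        show y⁻¹ * a * (a⁻¹ * y) = 1 by group]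
      exact one_mem _⟩
    rw [show a * a = (a * y) * (y⁻¹ * a) by group]
    exact mul_mem_sup ⟨mul_mem ha hy, hc⟩ he
  suffices hUE : U₀ ≤ E from (hUE hu).2
  rw [← c.uExc_residual]
  refine commutator_le.2 fun a ha r hr => ?_
  obtain ⟨k, hk, e, he, rfl⟩ := mem_sup_of_normal_left.1 (hsplit ha)
  rw [show ⁅k * e, r⁆ = k * ⁅e, r⁆ * k⁻¹ * ⁅k, r⁆ by simp only [commutatorElement_def]; group,
    show ⁅k, r⁆ = 1 from commutatorElement_eq_one_iff_mul_comm.2 (c.resFix_comm hr hk.2).symm, mul_one]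
  refine hEn.conj_mem _ ?_ k
  rw [show ⁅e, r⁆ = e * (r * e⁻¹ * r⁻¹) by simp only [commutatorElement_def]; group]
  exact mul_mem he (hEn.conj_mem _ (inv_mem he) r)

theorem uExc_inf_resFix : U₀ ⊓ K₀ = Z₀ := by
  refine le_antisymm (fun u hu => ?_) (le_inf c.zExc_le_uExc c.zExc_le_resFix)
  obtain ⟨j, hjR, hjj, -, hjD, hjc⟩ := c.exists_invol
  have h := c.inverts hjj hjD hjc hu.1
  rw [c.resFix_comm hjR hu.2, mul_inv_cancel_right] at h
  exact c.mem_of_sq h (by rw [c.pow_U0 hu.1]; exact one_mem _)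

/-- `V` is its central part times `[V,R]`. -/
theorem V_le : V ≤ ⁅V, R₀⁆ ⊔ fixG V := by
  obtain ⟨j, hjR, hjj, -, hjD, hjc⟩ := c.exists_invol
  haveI := c.normalV
  intro v hv
  set y := j * v * j⁻¹
  have hy : y ∈ V := c.normalV.conj_mem v hv j
  refine c.mem_of_sq ?_ (by rw [c.small.pow v hv]; exact one_mem _)
  have hc : v * y ∈ fixG V := c.setup.resFix_inf_le c.small c.shape
    ⟨c.mem_resFix_of_fixed hjD hjc (c.small.le (mul_mem hv hy)) (by
      have hji : j⁻¹ = j := inv_eq_of_mul_eq_one_right hjj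
      rw [show ⁅j, v * y⁆ = ⁅y, v⁆ by
        simp only [y, hji, commutatorElement_def, _root_.mul_inv_rev, inv_inv, mul_assoc]
        rw [← mul_assoc j j, hjj, one_mul],
        show ⁅y, v⁆ = 1 from commutatorElement_eq_one_iff_mul_comm.2 (c.setup.vcomm c.small hy hv)]
      exact one_mem _), mul_mem hv hy⟩
  have hvj : v * y⁻¹ ∈ ⁅V, R₀⁆ := by
    rw [show v * y⁻¹ = ⁅v, j⁆ by simp only [y, commutatorElement_def]; group]
    exact commutator_mem_commutator hv hjR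
  rw [show v * v = (v * y⁻¹) * (y * v) by group, c.setup.vcomm c.small hy hv]
  exact mul_mem_sup hvj hc

theorem vR_le : ⁅V, R₀⁆ ≤ U₀ ⊓ V := by
  haveI := c.normalV
  exact le_inf (commutator_mono c.small.le le_rfl) (commutator_le_left _ _)

theorem middle_eq : U₀ ⊓ V = ⁅V, R₀⁆ ⊔ Z₀ := by
  haveI := c.normalV
  refine le_antisymm (fun x hx => ?_) (sup_le c.vR_le (le_inf c.zExc_le_uExc
    (c.zExc_le_fixG.trans inf_le_left)))
  obtain ⟨w, hw, z, hz, rfl⟩ := mem_sup_of_normal_left.1 (c.V_le hx.2)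
  refine mul_mem_sup hw (c.uExc_inf_resFix.le ⟨?_, c.setup.fixG_le_resFix c.small c.shape hz⟩)
  simpa using (U₀).mul_mem ((U₀).inv_mem (c.vR_le hw).1) hx.1

theorem residual_not_le : ¬ R₀ ≤ D := fun h => by
  obtain ⟨j, hjR, -, -, hjD, -⟩ := c.exists_invol
  exact hjD (h hjR)

theorem uExc_not_le_V : ¬ U₀ ≤ V := by
  intro hle
  obtain ⟨U', W', hVW, hU'U, hc, hnc⟩ := c.setup.exists_noncentral c.small c.shape c.alt
  obtain ⟨π, -, -, hker⟩ := c.exists_pi
  refine c.residual_not_le fun r hr => (hker U' W' (hU'U.trans c.shape.hUD) hc hnc r).1 fun u hu => ?_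
  rw [← commutatorElement_inv]
  exact inv_mem (hVW (hle (commutator_mem_commutator (c.shape.hUD (hU'U hu)) hr)))

/-- A noncentral chief factor of `[D,R]` above the middle gives one above `V`. -/
theorem lift_factor {A B : Subgroup G} (hB : U₀ ⊓ V ≤ B) (hA : A ≤ U₀)
    (hc : Cfsg.IsChiefFactor A B) (hnc : ¬ ⁅A, (⊤ : Subgroup G)⁆ ≤ B) :
    Cfsg.IsChiefFactor (A ⊔ V) (B ⊔ V) ∧ ¬ ⁅A ⊔ V, (⊤ : Subgroup G)⁆ ≤ B ⊔ V := by
  haveI := c.normalV
  haveI := hc.2.1
  haveI := hc.2.2.1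
  have hinf : ∀ {x}, x ∈ A → x ∈ B ⊔ V → x ∈ B := by
    intro x hxA hx
    obtain ⟨b, hb, v, hv, rfl⟩ := mem_sup_of_normal_left.1 hx
    refine mul_mem hb (hB ⟨hA ?_, hv⟩)
    simpa using mul_mem (inv_mem (hc.1.le hb)) hxA
  refine ⟨⟨lt_of_le_of_ne (sup_le_sup_right hc.1.le V) fun e => hc.1.not_ge fun a ha =>
    hinf ha (e.ge (mem_sup_left ha)), inferInstance, inferInstance, fun N hN h1 h2 => ?_⟩, fun h => ?_⟩
  · haveI := hN
    rcases hc.2.2.2 (N ⊓ A) inferInstance (le_inf (le_sup_left.trans h1) hc.1.le) inf_le_right with e | e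
    · left
      refine le_antisymm (fun x hx => ?_) h1
      obtain ⟨a, ha, v, hv, rfl⟩ := mem_sup_of_normal_left.1 (h2 hx)
      refine mul_mem_sup (e.le ⟨?_, ha⟩) hv
      simpa using mul_mem hx (inv_mem (h1 (mem_sup_right hv)))
    · exact Or.inr (le_antisymm h2 (sup_le (e.ge.trans inf_le_left) (le_sup_right.trans h1)))
  · exact hnc fun x hx => hinf (commutator_le_left A ⊤ hx)
      (h (commutator_mono le_sup_left le_rfl hx))

theorem top_chief : Cfsg.IsChiefFactor U₀ (U₀ ⊓ V) ∧ ¬ ⁅U₀, (⊤ : Subgroup G)⁆ ≤ U₀ ⊓ V := by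
  haveI := c.normalV
  haveI := c.normalU0
  obtain ⟨j, hjR, hjj, hjp, hjD, hjc⟩ := c.exists_invol
  have hlt : U₀ ⊓ V < U₀ := lt_of_le_of_ne inf_le_left fun e => c.uExc_not_le_V (e.ge.trans inf_le_right)
  obtain ⟨W, hAW, hc⟩ := exists_chief inferInstance c.normalU0 hlt
  have hnc : ¬ ⁅U₀, (⊤ : Subgroup G)⁆ ≤ W := fun h =>
    hc.1.not_ge (c.uExc_residual.ge.trans ((commutator_mono le_rfl le_top).trans h))
  suffices hW : W ≤ U₀ ⊓ V by
    obtain rfl := le_antisymm hW hAW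
    exact ⟨hc, hnc⟩
  obtain ⟨hcT, hncT⟩ := c.lift_factor hAW le_rfl hc hnc
  obtain ⟨hWQ, -, -⟩ := c.setup.factor_facts c.small c.shape le_sup_right
    (sup_le c.uExc_le_D c.small.le) hcT hncT
  have hcent : ∀ U' W' : Subgroup G, U₀ ⊓ V ≤ W' → U' ≤ W → Cfsg.IsChiefFactor U' W' →
      ⁅U', (⊤ : Subgroup G)⁆ ≤ W' := by
    intro U' W' h1 h2 hc' 
    by_contra hnc'
    obtain ⟨hcL, hncL⟩ := c.lift_factor h1 (h2.trans hc.1.le) hc' hnc'
    have hUV : U' ⊔ V ≤ D := sup_le ((h2.trans hc.1.le).trans c.uExc_le_D) c.small.le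
    have hUQ : U' ⊔ V ≤ Q := sup_le ((h2.trans le_sup_left).trans hWQ) c.shape.hVQ
    obtain ⟨-, hdec, -⟩ := c.setup.factor_facts c.small c.shape le_sup_right hUV hcL hncL
    refine hncL (c.setup.central_of_moved c.small c.shape hUV hcL fun t ht u hu => mem_sup_right ?_)
    exact (c.shape.hXQ t ht u (hUQ hu)).1
  intro w hw
  refine c.mem_of_sq ?_ (by rw [c.pow_U0 (hc.1.le hw)]; exact one_mem _)
  have hwU := hc.1.le hw
  have h1 : ⁅j, w⁆ ∈ U₀ ⊓ V := fix_mod_of_chief inferInstance hc.2.2.1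
    (c.isPGroupD.to_le (hc.1.le.trans c.uExc_le_D)) hAW hjp (fun U' W' h1 h2 hc' u hu => by
      rw [← commutatorElement_inv]
      exact inv_mem (hcent U' W' h1 h2 hc' (commutator_mem_commutator hu (mem_top j)))) w hw
  have h2 : w * (j * w * j⁻¹) ∈ U₀ ⊓ V := (le_inf c.zExc_le_uExc (c.zExc_le_fixG.trans inf_le_left))
    (c.inverts hjj hjD hjc hwU)
  rw [show w * w = (w * ⁅j, w⁆ * w⁻¹)⁻¹ * (w * (j * w * j⁻¹)) by
    simp [commutatorElement_def, mul_assoc]]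
  exact mul_mem (inv_mem ((inferInstance : (U₀ ⊓ V : Subgroup G).Normal).conj_mem _ h1 w)) h2

/-- Vectors of the top layer fixed by `S` lie in `Q`. -/
theorem top_fix_Q {u : G} (hu : u ∈ U₀) (h : ∀ t ∈ S, ⁅t, u⁆ ∈ U₀ ⊓ V) : u ∈ Q := by
  obtain ⟨hc, hnc⟩ := c.top_chief
  obtain ⟨hcT, hncT⟩ := c.lift_factor le_rfl le_rfl hc hnc
  obtain ⟨-, -, hfix⟩ := c.setup.factor_facts c.small c.shape le_sup_right
    (sup_le c.uExc_le_D c.small.le) hcT hncT
  exact hfix u (mem_sup_left hu) fun t ht => mem_sup_right (h t ht).2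

/-- Coordinates of a noncentral chief factor. -/
theorem exists_coords {U' W' : Subgroup G} (hUD : U' ≤ D) (hc : Cfsg.IsChiefFactor U' W')
    (hnc : ¬ ⁅U', (⊤ : Subgroup G)⁆ ≤ W') : ∃ ρ φ, Coords F D U' W' ρ φ := by
  obtain ⟨w, hw, hgen⟩ := c.setup.exists_weyl
  haveI := hc.2.2.1
  haveI := hc.2.1
  obtain ⟨π, -, -, -, -, -, hnat⟩ :=
    c.setup.chief_natural c.small (c.setup.hact c.small c.shape) hw hgen hUD hc hnc
  obtain ⟨π₀, -, -, hker⟩ := c.exists_pi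
  set q := QuotientGroup.mk' W'
  obtain ⟨-, ρ, Λ, hρ, hρk, heq⟩ := hnat
  let incl : U' →* (U'.map q : Subgroup (G ⧸ W')) :=
    (q.comp U'.subtype).codRestrict _ fun u => mem_map_of_mem q u.2
  let φ : U' →* Multiplicative (Fin 2 → F) :=
    { toFun := fun u => Multiplicative.ofAdd (Λ (Additive.ofMul (incl u)))
      map_one' := by rw [map_one]; show Multiplicative.ofAdd (Λ 0) = 1; rw [map_zero]; rfl
      map_mul' := fun a b => by
        rw [map_mul]
        show Multiplicative.ofAdd (Λ (Additive.ofMul (incl a) + Additive.ofMul (incl b))) = _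
        rw [map_add]; rfl }
  refine ⟨ρ.comp (q.codRestrict ⊤ fun _ => mem_top _), φ, ?_, ?_, ?_, ?_, ?_⟩
  · intro A
    obtain ⟨l, rfl⟩ := hρ A
    obtain ⟨g, hg⟩ := QuotientGroup.mk'_surjective W' (l : G ⧸ W')
    exact ⟨g, congrArg ρ (Subtype.ext hg)⟩
  · ext g
    rw [← hker U' W' hUD hc hnc g, MonoidHom.mem_ker, MonoidHom.comp_apply, ← MonoidHom.mem_ker, hρk]
    show q g ∈ centralizer _ ↔ _
    rw [mem_centralizer_iff]
    refine ⟨fun h u hu => ?_, ?_⟩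
    · refine (QuotientGroup.eq_one_iff _).1 ?_
      show q ⁅g, u⁆ = 1
      rw [map_commutatorElement, commutatorElement_eq_one_iff_mul_comm]
      exact (h _ (mem_map_of_mem q hu)).symm
    · rintro h _ ⟨u, hu, rfl⟩
      refine (commutatorElement_eq_one_iff_mul_comm.1 ?_).symm
      rw [← map_commutatorElement]
      exact (QuotientGroup.eq_one_iff _).2 (h u hu)
  · intro x
    obtain ⟨a, ha⟩ := Λ.surjective (Multiplicative.toAdd x)
    obtain ⟨u, hu, huy⟩ := (Additive.toMul a).2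
    refine ⟨⟨u, hu⟩, ?_⟩
    show Multiplicative.ofAdd (Λ (Additive.ofMul (incl ⟨u, hu⟩))) = x
    rw [show incl ⟨u, hu⟩ = Additive.toMul a from Subtype.ext huy, ofMul_toMul, ha, ofAdd_toAdd]
  · intro a
    show Multiplicative.ofAdd (Λ (Additive.ofMul (incl a))) = 1 ↔ _
    rw [ofAdd_eq_one, Λ.map_eq_zero_iff, ofMul_eq_zero]
    exact ⟨fun h => (QuotientGroup.eq_one_iff _).1 (congrArg Subtype.val h),
      fun h => Subtype.ext ((QuotientGroup.eq_one_iff _).2 h)⟩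
  · intro g a ha
    obtain ⟨y, hy, hyΛ⟩ := heq ⟨q g, mem_top _⟩ (incl a)
    show Λ (Additive.ofMul (incl ⟨g * a * g⁻¹, ha⟩)) = _
    rw [show incl ⟨g * a * g⁻¹, ha⟩ = y from Subtype.ext (by
      rw [hy]; exact (map_mul q _ _).trans (by rw [map_mul, map_inv]; rfl))]
    exact hyΛ

/-- The bottom layer. -/
theorem exists_bot : ∃ ρ φ, Coords F D (U₀ ⊓ V) (Z₀) ρ φ := by
  obtain ⟨hcV, hncV⟩ := c.setup.fixG_chief c.small c.shape
  obtain ⟨ρ, φ, h⟩ := c.exists_coords c.small.le hcV hncV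
  refine ⟨ρ, φ.comp (inclusion inf_le_right), h.surjρ, h.kerρ, fun x => ?_, fun a => ?_, fun g a ha => ?_⟩
  · obtain ⟨v, rfl⟩ := h.surj x
    haveI := c.normalV
    obtain ⟨w, hw, z, hz, hwz⟩ := mem_sup_of_normal_left.1 (c.V_le v.2)
    refine ⟨⟨w, c.vR_le hw⟩, ?_⟩
    have h1 : φ ⟨z, hz.1⟩ = 1 := (h.ker _).2 hz
    rw [MonoidHom.comp_apply, ← mul_one (φ (inclusion _ _)), ← h1, ← map_mul]
    exact congrArg φ (Subtype.ext hwz)
  · rw [MonoidHom.comp_apply, h.ker]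
    exact ⟨fun hz => c.uExc_inf_resFix.le ⟨a.2.1, c.setup.fixG_le_resFix c.small c.shape hz⟩,
      fun hz => c.zExc_le_fixG hz⟩
  · exact h.equiv g ⟨a, a.2.2⟩ ha.2

end ExcCtx

end Cfsg.Agent.Lib.MinPush94
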