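import Mathlib
import Cfsg.Agent.Lib.MinPush94.ExcLayers
/-!
The commutator form on the top layer of `[D,R]`, the size of its derived group, and the fact that no
element of `S` outside `D` acts quadratically on `[D,R]` modulo that group.
-/

set_option autoImplicit false
set_option linter.unusedSectionVars false

namespace Cfsg.Agent.Lib.MinPush94

open Subgroup Matrix
open Cfsg.Agent.Lib Cfsg.Agent.Lib.RankOnePush
open Cfsg.Agent.Lib.SL2 (SLtwo PSLtwo proj upper lower)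
open scoped commutatorElement

variable {G : Type*} [Group G] [Finite G] {p : ℕ} [hp : Fact p.Prime]
  {F : Type} [Field F] [Fintype F] {n : ℕ}
variable {S D V U Q X : Subgroup G} {ψ : G →* PSLtwo F}

/-- A commutator with a member of the section is measured by the matrix. -/
theorem Coords.comm_mem_iff {D A B : Subgroup G} {ρ : G →* SLtwo F}
    {φ : A →* Multiplicative (Fin 2 → F)} (h : Coords F D A B ρ φ) (g : G) (a : A)
    (ha : g * (a : G) * g⁻¹ ∈ A) :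
    ⁅g, (a : G)⁆ ∈ B ↔ (ρ g).1 *ᵥ Multiplicative.toAdd (φ a) = Multiplicative.toAdd (φ a) := by
  have e : ((⟨g * a * g⁻¹, ha⟩ * a⁻¹ : A) : G) = ⁅g, (a : G)⁆ := by
    rw [commutatorElement_def]; rfl
  rw [← e, ← h.ker, map_mul, map_inv, mul_inv_eq_one, ← h.equiv g a ha]
  exact ⟨fun h => by rw [h], fun h => Multiplicative.toAdd.injective h⟩

/-- Outside the kernel something is moved. -/
theorem Coords.mem_D {D A B : Subgroup G} (hA : A.Normal) {ρ : G →* SLtwo F}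
    {φ : A →* Multiplicative (Fin 2 → F)} (h : Coords F D A B ρ φ) {g : G}
    (hg : ∀ a ∈ A, ⁅g, a⁆ ∈ B) : g ∈ D := by
  rw [← h.kerρ, MonoidHom.mem_ker]
  apply Subtype.ext
  refine Matrix.ext_of_mulVec_single fun i => ?_
  obtain ⟨a, ha⟩ := h.surj (Multiplicative.ofAdd (Pi.single i 1))
  have := (h.comm_mem_iff g a (hA.conj_mem _ a.2 g)).1 (hg a a.2)
  rw [ha, toAdd_ofAdd] at this
  rw [this, Matrix.SpecialLinearGroup.coe_one, one_mulVec]

/-- A commutator from the section has the coordinates of the matrix difference. -/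
theorem Coords.comm_val {D A B : Subgroup G} {ρ : G →* SLtwo F}
    {φ : A →* Multiplicative (Fin 2 → F)} (h : Coords F D A B ρ φ) (g : G) (a : A)
    (ha : g * (a : G) * g⁻¹ ∈ A) (hc : ⁅g, (a : G)⁆ ∈ A) :
    Multiplicative.toAdd (φ ⟨⁅g, (a : G)⁆, hc⟩) =
      (ρ g).1 *ᵥ Multiplicative.toAdd (φ a) - Multiplicative.toAdd (φ a) := by
  rw [show (⟨⁅g, (a : G)⁆, hc⟩ : A) = ⟨g * a * g⁻¹, ha⟩ * a⁻¹ from Subtype.ext (by
    show ⁅g, (a : G)⁆ = g * a * g⁻¹ * (a : G)⁻¹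
    rfl), map_mul, map_inv, toAdd_mul, toAdd_inv, h.equiv g a ha,
    sub_eq_add_neg]

/-- Preserved by all automorphisms of `S`. -/
def AutInv (S W : Subgroup G) : Prop :=
  ∀ (σ : ↥S ≃* ↥S) (s : ↥S), (s : G) ∈ W → ((σ s : ↥S) : G) ∈ W

theorem AutInv.conj {W : Subgroup G} (h : AutInv S W) (hWS : W ≤ S) :
    S ≤ normalizer (W : Set G) := fun x hx =>
  mem_normalizer_of_conj fun w hw => h (MulAut.conj (⟨x, hx⟩ : S)) ⟨w, hWS hw⟩ hw

theorem AutInv.char {W : Subgroup G} (h : AutInv S W) : (W.subgroupOf S).Characteristic :=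
  characteristic_iff_map_le.2 fun σ => by
    rintro _ ⟨y, hy, rfl⟩
    exact h σ y hy

theorem AutInv.of_closure {T : Set G} (hT : T ⊆ S)
    (h : ∀ (σ : ↥S ≃* ↥S) (s : ↥S), (s : G) ∈ T → ((σ s : ↥S) : G) ∈ closure T) :
    AutInv S (closure T) := by
  intro σ s hs
  have key : (closure T).subgroupOf S ≤ ((closure T).subgroupOf S).comap σ.toMonoidHom := by
    have e : (closure T).subgroupOf S = closure ((↑) ⁻¹' T : Set S) := by
      refine (Subgroup.map_injective (f := S.subtype) S.subtype_injective ?_)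
      rw [map_subgroupOf_eq_of_le ((closure_le S).2 hT), MonoidHom.map_closure]
      congr 1
      ext x
      exact ⟨fun hx => ⟨⟨x, hT hx⟩, hx, rfl⟩, by rintro ⟨y, hy, rfl⟩; exact hy⟩
    conv_lhs => rw [e]
    rw [closure_le]
    exact fun y hy => h σ y hy
  exact key hs

namespace ExcCtx

variable (c : ExcCtx p S D V U Q X n ψ)

include c

local notation "R₀" => Cfsg.pResidual p G
local notation "K₀" => resFix p D
local notation "U₀" => uExc p D
local notation "Z₀" => zExc p D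

/-- Characteristic subgroups of `S` fixed by the residual vanish. -/
theorem kill {W : Subgroup G} (hWS : W ≤ S) (hinv : AutInv S W) (hK : W ≤ K₀) : W = ⊥ :=
  c.nochar W hWS (c.setup.normal_of_le_resFix c.small c.shape (hinv.conj hWS) hK) hinv.char

/-- Subgroups normalised by `S` and by the residual are normal. -/
theorem normal_of_residual {T : Subgroup G} (hS : S ≤ normalizer (T : Set G))
    (hR : ∀ r ∈ R₀, ∀ x ∈ T, ⁅r, x⁆ ∈ T) : T.Normal := by
  obtain ⟨P, hP⟩ := c.setup.sylow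
  rw [← normalizer_eq_top_iff, ← top_le_iff, ← residual_sup_sylow P, hP]
  refine sup_le (fun r hr => mem_normalizer_of_conj fun x hx => ?_) hS
  rw [show r * x * r⁻¹ = ⁅r, x⁆ * x by simp only [commutatorElement_def]; group]
  exact mul_mem (hR r hr x hx) hx

theorem exists_notMem_D : ∃ t ∈ S, t ∉ D := SetLike.not_le_iff_exists.1 fun hle => by
  have h1 := c.setup.relIndex_D
  rw [relIndex_eq_one.2 hle] at h1
  exact c.setup.one_lt.ne h1

theorem omega_mem {z : G} (hz : z ∈ S) (hc : ∀ t ∈ S, t * z = z * t) (hzp : z ^ p = 1) : z ∈ V :=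
  c.omega ▸ subset_normalClosure
    (show z ∈ omegaZ p S from ⟨⟨hz, mem_centralizer_iff.2 hc⟩, hzp⟩)

theorem comm_V {v d : G} (hv : v ∈ V) (hd : d ∈ D) : v * d = d * v :=
  mem_centralizer_iff.1 (c.small.comm hd) v hv

/-- Two steps into `[D,R]` cannot all fall into the fixed part. -/
theorem no_triple : ¬ ∀ t ∈ X, ∀ t' ∈ X, ∀ u ∈ D, ⁅⁅t, u⁆, t'⁆ ∈ K₀ := by
  intro hf
  have hR : S ≤ normalizer (K₀ : Set G) := by
    rw [normalizer_eq_top_iff.2 c.normalK]; exact le_top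
  have hle := c.setup.lcs_two_le c.small c.shape hR le_rfl hf
  have hbot : S.lowerCentralSeries 2 = ⊥ := by
    refine c.kill (hle.trans (inf_le_left.trans c.setup.le_S)) ?_ hle
    intro σ s hs
    rw [← top_subtype_lowerCentralSeries] at hs ⊢
    obtain ⟨y, hy, hys⟩ := hs
    rw [← subtype_injective S hys]
    refine ⟨σ y, ?_, rfl⟩
    exact (characteristic_iff_map_le.1 inferInstance σ) (mem_map_of_mem σ.toMonoidHom hy)
  obtain ⟨hc, hnc⟩ := c.top_chief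
  refine hnc (c.setup.central_of_moved c.small c.shape c.uExc_le_D hc fun t ht u hu => ?_)
  have htS := c.shape.hXS ht
  have huS := c.setup.le_S (c.uExc_le_D hu)
  have hU : ⁅t, u⁆ ∈ U₀ := by
    rw [commutatorElement_def]
    exact mul_mem (c.normalU0.conj_mem u hu t) (inv_mem hu)
  refine ⟨hU, c.omega_mem (c.setup.le_S (c.uExc_le_D hU)) (fun x hx => ?_) (c.pow_U0 hU)⟩
  have h5 : ⁅⁅t, u⁆, x⁆ ∈ S.lowerCentralSeries 2 :=
    commutator_mem_commutator (commutator_mem_commutator htS huS : ⁅t, u⁆ ∈ S.lowerCentralSeries 1) hx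
  rw [hbot, mem_bot] at h5
  exact (commutatorElement_eq_one_iff_mul_comm.1 h5).symm

theorem p_eq_three : p = 3 := by
  by_contra hne
  have h3 : 3 < p := by
    have := hp.out.two_le
    have := c.p_ne_two
    omega
  exact c.no_triple (c.setup.triple_of_square c.small c.shape c.p_ne_two
    (c.setup.square_mem_of_torus c.small c.shape h3))

theorem charF : CharP F p := charP_of_card_eq_prime_pow c.setup.card

theorem exists_top : ∃ ρ φ, Coords F D U₀ (U₀ ⊓ V) ρ φ :=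
  c.exists_coords c.uExc_le_D c.top_chief.1 c.top_chief.2

theorem zExc_le_middle : Z₀ ≤ U₀ ⊓ V := le_inf c.zExc_le_uExc (c.zExc_le_fixG.trans inf_le_left)

theorem conj_U0 {u : G} (hu : u ∈ U₀) (g : G) : g * u * g⁻¹ ∈ U₀ := c.normalU0.conj_mem u hu g

theorem comm_mem_U0 {u : G} (hu : u ∈ U₀) (g : G) : ⁅g, u⁆ ∈ U₀ := by
  rw [commutatorElement_def]
  exact mul_mem (c.conj_U0 hu g) (inv_mem hu)

theorem comm_congr {u u' w : G} (hu : u ∈ U₀) (hw : w ∈ U₀) (h : u⁻¹ * u' ∈ U₀ ⊓ V) :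
    ⁅u', w⁆ = ⁅u, w⁆ := by
  obtain ⟨a, ha, rfl⟩ : ∃ a ∈ U₀ ⊓ V, u * a = u' := ⟨_, h, mul_inv_cancel_left u u'⟩
  rw [show ⁅u * a, w⁆ = u * ⁅a, w⁆ * u⁻¹ * ⁅u, w⁆ by simp only [commutatorElement_def]; group,
    show ⁅a, w⁆ = 1 from commutatorElement_eq_one_iff_mul_comm.2 (c.comm_V ha.2 (c.uExc_le_D hw)),
    mul_one, mul_inv_cancel, one_mul]

/-- The commutators of the top layer depend only on the determinant. -/
theorem exists_form {ρ : G →* SLtwo F} {φ : U₀ →* Multiplicative (Fin 2 → F)}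
    (h : Coords F D U₀ (U₀ ⊓ V) ρ φ) : ∃ Θ : Multiplicative F →* G,
      (∀ u w : U₀, ⁅(u : G), (w : G)⁆ = Θ (Multiplicative.ofAdd
        (Multiplicative.toAdd (φ u) 0 * Multiplicative.toAdd (φ w) 1 -
          Multiplicative.toAdd (φ u) 1 * Multiplicative.toAdd (φ w) 0))) ∧ Θ.range = Z₀ := by
  choose L hL using h.surj
  have hcen : ∀ u w : U₀, ⁅(u : G), (w : G)⁆ ∈ center G := fun u w =>
    (c.zExc_le_fixG (commutator_mem_commutator u.2 w.2)).2
  have hL' : ∀ u : U₀, ((L (φ u) : G))⁻¹ * u ∈ U₀ ⊓ V := fun u => by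
    refine (h.ker ((L (φ u))⁻¹ * u)).1 ?_
    rw [map_mul, map_inv, hL, inv_mul_cancel]
  have hval : ∀ u w : U₀, ⁅(u : G), (w : G)⁆ = ⁅(L (φ u) : G), (L (φ w) : G)⁆ := by
    intro u w
    rw [c.comm_congr (L (φ u)).2 w.2 (hL' u), ← commutatorElement_inv (L (φ w) : G),
      ← c.comm_congr (L (φ w)).2 (L (φ u)).2 (hL' w), commutatorElement_inv]
  letI : CommGroup ↥(center G) :=
    { (inferInstance : Group ↥(center G)) with
      mul_comm := fun a b => Subtype.ext (mem_center_iff.1 b.2 a) }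
  let β : (Fin 2 → F) → (Fin 2 → F) → Additive ↥(center G) := fun v w =>
    Additive.ofMul ⟨⁅(L (Multiplicative.ofAdd v) : G), (L (Multiplicative.ofAdd w) : G)⁆, hcen _ _⟩
  have hβ : ∀ u w : U₀, β (Multiplicative.toAdd (φ u)) (Multiplicative.toAdd (φ w)) =
      Additive.ofMul ⟨⁅(u : G), (w : G)⁆, hcen u w⟩ := fun u w => by
    simp only [β, ofAdd_toAdd]
    exact congrArg Additive.ofMul (Subtype.ext (hval u w).symm)
  have hlmul : ∀ u u' w : U₀, (⟨⁅((u * u' : U₀) : G), (w : G)⁆, hcen _ _⟩ : center G) =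
      ⟨_, hcen u w⟩ * ⟨_, hcen u' w⟩ := fun u u' w => by
    rw [mul_comm]
    refine Subtype.ext ?_
    show ⁅(u : G) * u', (w : G)⁆ = ⁅(u' : G), (w : G)⁆ * ⁅(u : G), (w : G)⁆
    rw [show ⁅(u : G) * u', (w : G)⁆ = u * ⁅(u' : G), (w : G)⁆ * (u : G)⁻¹ * ⁅(u : G), (w : G)⁆ by
      simp only [commutatorElement_def]; group, mem_center_iff.1 (hcen u' w) u, mul_inv_cancel_right]
  have hrmul : ∀ u w w' : U₀, (⟨⁅(u : G), ((w * w' : U₀) : G)⁆, hcen _ _⟩ : center G) =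
      ⟨_, hcen u w⟩ * ⟨_, hcen u w'⟩ := fun u w w' => by
    refine Subtype.ext ?_
    show ⁅(u : G), (w : G) * w'⁆ = ⁅(u : G), (w : G)⁆ * ⁅(u : G), (w' : G)⁆
    rw [show ⁅(u : G), (w : G) * w'⁆ = ⁅(u : G), (w : G)⁆ * (w * ⁅(u : G), (w' : G)⁆ * (w : G)⁻¹) by
      simp only [commutatorElement_def]; group, mem_center_iff.1 (hcen u w') w, mul_inv_cancel_right]
  have hsurj : ∀ v : Fin 2 → F, ∃ u : U₀, Multiplicative.toAdd (φ u) = v := fun v =>
    ⟨L (Multiplicative.ofAdd v), by rw [hL]; rfl⟩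
  have hl : ∀ v v' w, β (v + v') w = β v w + β v' w := fun v v' w => by
    obtain ⟨a, rfl⟩ := hsurj v
    obtain ⟨a', rfl⟩ := hsurj v'
    obtain ⟨b, rfl⟩ := hsurj w
    rw [← toAdd_mul, ← map_mul, hβ, hβ, hβ, hlmul]
    rfl
  have hr : ∀ v w w', β v (w + w') = β v w + β v w' := fun v w w' => by
    obtain ⟨a, rfl⟩ := hsurj v
    obtain ⟨b, rfl⟩ := hsurj w
    obtain ⟨b', rfl⟩ := hsurj w'
    rw [← toAdd_mul, ← map_mul, hβ, hβ, hβ, hrmul]
    rfl
  have hinv : ∀ (M : SLtwo F) v w, β (M.1 *ᵥ v) (M.1 *ᵥ w) = β v w := fun M v w => by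
    obtain ⟨a, rfl⟩ := hsurj v
    obtain ⟨b, rfl⟩ := hsurj w
    obtain ⟨g, rfl⟩ := h.surjρ M
    rw [← h.equiv g a (c.conj_U0 a.2 g), ← h.equiv g b (c.conj_U0 b.2 g), hβ, hβ]
    refine congrArg Additive.ofMul (Subtype.ext ?_)
    show ⁅g * (a : G) * g⁻¹, g * (b : G) * g⁻¹⁆ = ⁅(a : G), (b : G)⁆
    rw [← conjugate_commutatorElement, mem_center_iff.1 (hcen a b) g, mul_inv_cancel_right]
  have hform := form_det β hl hr hinv
  let Θ : Multiplicative F →* G := MonoidHom.mk'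
    (fun a => ((Additive.toMul (β ![1, 0] ![0, Multiplicative.toAdd a]) : center G) : G))
    (fun a b => by
      show ((Additive.toMul (β ![1, 0] ![0, Multiplicative.toAdd a + Multiplicative.toAdd b]) :
        center G) : G) = _
      rw [show ![0, Multiplicative.toAdd a + Multiplicative.toAdd b] =
        (![0, Multiplicative.toAdd a] + ![0, Multiplicative.toAdd b] : Fin 2 → F) by simp, hr]
      rfl)
  have hmain : ∀ u w : U₀, ⁅(u : G), (w : G)⁆ = Θ (Multiplicative.ofAdd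
        (Multiplicative.toAdd (φ u) 0 * Multiplicative.toAdd (φ w) 1 -
          Multiplicative.toAdd (φ u) 1 * Multiplicative.toAdd (φ w) 0)) := fun u w => by
    show _ = ((Additive.toMul (β ![1, 0] ![0, _]) : center G) : G)
    rw [toAdd_ofAdd, ← hform, hβ]
    rfl
  refine ⟨Θ, hmain, le_antisymm ?_ (commutator_le.2 fun u hu w hw => ⟨_, (hmain ⟨u, hu⟩ ⟨w, hw⟩).symm⟩)⟩
  rintro _ ⟨a, rfl⟩
  exact commutator_mem_commutator (L (Multiplicative.ofAdd ![1, 0])).2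
    (L (Multiplicative.ofAdd ![0, Multiplicative.toAdd a])).2

theorem card_zExc_le : Nat.card ↥(Z₀) ≤ p ^ n := by
  obtain ⟨ρ, φ, h⟩ := c.exists_top
  obtain ⟨Θ, -, hΘ⟩ := c.exists_form h
  rw [← hΘ, ← c.setup.card, ← Nat.card_eq_fintype_card]
  exact Nat.card_le_card_of_surjective Θ.rangeRestrict Θ.rangeRestrict_surjective

/-- Images of elements of `V` under automorphisms of `S` lie in `D`. -/
theorem aut_V_le {σ : ↥S ≃* ↥S} {v : ↥S} (hv : (v : G) ∈ V) : ((σ v : ↥S) : G) ∈ D := by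
  obtain ⟨ρ, φ, h⟩ := c.exists_top
  refine h.mem_D c.normalU0 fun u hu => ⟨c.comm_mem_U0 hu _, ?_⟩
  set u' : ↥S := σ.symm ⟨u, c.setup.le_S (c.uExc_le_D hu)⟩
  have hq := c.setup.quad c.small u'.2 hv
  have e : ((σ ⁅v, u'⁆ : ↥S) : G) = ⁅((σ v : ↥S) : G), u⁆ := by
    rw [map_commutatorElement, show σ u' = ⟨u, _⟩ from σ.apply_symm_apply _]
    rfl
  rw [← e]
  refine c.omega_mem (σ _).2 (fun t ht => ?_) ?_
  · have h1 : σ.symm ⟨t, ht⟩ * ⁅v, u'⁆ = ⁅v, u'⁆ * σ.symm ⟨t, ht⟩ := Subtype.ext (by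
      show ((σ.symm ⟨t, ht⟩ : ↥S) : G) * ⁅(v : G), (u' : G)⁆ = _
      rw [← commutatorElement_inv (u' : G)]
      exact (show Commute ((σ.symm ⟨t, ht⟩ : ↥S) : G) ⁅(u' : G), (v : G)⁆ from
        mem_centralizer_iff.1 hq.2 _ (σ.symm ⟨t, ht⟩).2).inv_right.eq.trans (by
          rw [commutatorElement_inv]; rfl))
    have h2 := congrArg (fun x => ((σ x : ↥S) : G)) h1
    simpa only [map_mul, σ.apply_symm_apply, coe_mul] using h2
  · rw [← coe_pow, ← map_pow, show ⁅v, u'⁆ ^ p = 1 from Subtype.ext (by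
      show ⁅(v : G), (u' : G)⁆ ^ p = 1
      rw [← commutatorElement_inv (u' : G), inv_pow, c.small.pow _ hq.1, inv_one]), map_one]
    rfl

omit c in
/-- The join of the images of `V`. -/
def vPlus (S V : Subgroup G) : Subgroup G :=
  closure {x | ∃ (σ : ↥S ≃* ↥S) (v : ↥S), (v : G) ∈ V ∧ ((σ v : ↥S) : G) = x}

theorem vPlus_le : vPlus S V ≤ D := (closure_le D).2 (by
  rintro _ ⟨σ, v, hv, rfl⟩
  exact c.aut_V_le hv)

theorem V_le_vPlus : V ≤ vPlus S V := fun v hv =>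
  subset_closure ⟨MulEquiv.refl _, ⟨v, c.setup.le_S (c.small.le hv)⟩, hv, rfl⟩

theorem vPlus_inv : AutInv S (vPlus S V) := by
  refine AutInv.of_closure (fun x hx => ?_) fun τ s hs => ?_
  · obtain ⟨σ, v, -, rfl⟩ := hx
    exact (σ v).2
  · obtain ⟨σ, v, hv, e⟩ := hs
    exact subset_closure ⟨σ.trans τ, v, hv, congrArg (fun x : ↥S => ((τ x : ↥S) : G)) (Subtype.ext e)⟩

theorem V_ne_bot : V ≠ ⊥ := fun e => by
  obtain ⟨hc, -⟩ := c.setup.fixG_chief c.small c.shape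
  exact hc.1.not_ge (e.le.trans bot_le)

/-- A commutator with `V` outside `D` takes many values. -/
theorem card_comm_ge {s : G} (hs : s ∈ S) (hsD : s ∉ D) :
    p ^ n ≤ Nat.card (Set.range fun v : vPlus S V => ⁅s, (v : G)⁆) := by
  haveI := c.normalV
  let f : V →* G :=
    { toFun := fun v => ⁅s, (v : G)⁆
      map_one' := commutatorElement_one_right _
      map_mul' := fun a b => by
        show ⁅s, (a : G) * b⁆ = ⁅s, (a : G)⁆ * ⁅s, (b : G)⁆
        rw [show ⁅s, (a : G) * b⁆ = ⁅s, (a : G)⁆ * (a * ⁅s, (b : G)⁆ * (a : G)⁻¹) by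
          simp only [commutatorElement_def]; group,
          c.setup.vcomm c.small a.2 (c.setup.quad c.small hs b.2).1, mul_inv_cancel_right] }
  have hker : f.ker = (fixS V S).subgroupOf V := by
    ext v
    refine ⟨fun hv => c.setup.fix c.small hs hsD v.2 (commutatorElement_eq_one_iff_mul_comm.1 hv),
      fun hv => ?_⟩
    exact commutatorElement_eq_one_iff_mul_comm.2 (mem_centralizer_iff.1 hv.2 s hs)
  obtain ⟨w, hw, hgen⟩ := c.setup.exists_weyl
  have h3 := (c.setup.card_facts c.small hw hgen).2.2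
  rw [relIndex, ← hker, index_ker] at h3
  rw [← h3]
  refine Nat.card_mono (Set.toFinite _) ?_
  rintro _ ⟨v, rfl⟩
  exact ⟨⟨v, c.V_le_vPlus v.2⟩, rfl⟩

theorem card_zExc : Nat.card ↥(Z₀) = p ^ n := by
  refine le_antisymm c.card_zExc_le (not_lt.1 fun hlt => ?_)
  set T : Set G :=
    {s | s ∈ S ∧ Nat.card (Set.range fun v : vPlus S V => ⁅s, (v : G)⁆) < p ^ n}
  have hTD : T ⊆ D := fun s hs => by_contra fun hsD => (c.card_comm_ge hs.1 hsD).not_gt hs.2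
  have hTinv : ∀ (τ : ↥S ≃* ↥S) (s : ↥S), (s : G) ∈ T → ((τ s : ↥S) : G) ∈ T := by
    intro τ s hs
    refine ⟨(τ s).2, lt_of_le_of_lt ?_ hs.2⟩
    have hmem : ∀ x : Set.range (fun v : vPlus S V => ⁅(s : G), (v : G)⁆), (x : G) ∈ S := by
      rintro ⟨_, v, rfl⟩
      have hv := c.setup.le_S (c.vPlus_le v.2)
      show ⁅(s : G), (v : G)⁆ ∈ S
      rw [commutatorElement_def]
      exact S.mul_mem (S.mul_mem (S.mul_mem s.2 hv) (S.inv_mem s.2)) (S.inv_mem hv)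
    refine (Nat.card_mono (Set.finite_range
      (fun x : Set.range (fun v : vPlus S V => ⁅(s : G), (v : G)⁆) =>
        ((τ ⟨x.1, hmem x⟩ : ↥S) : G))) ?_).trans (Finite.card_range_le _)
    rintro _ ⟨v, rfl⟩
    have hv : (v : G) ∈ S := c.setup.le_S (c.vPlus_le v.2)
    have hv' : ((τ.symm ⟨v, hv⟩ : ↥S) : G) ∈ vPlus S V := c.vPlus_inv τ.symm ⟨v, hv⟩ v.2
    refine ⟨⟨_, ⟨_, hv'⟩, rfl⟩, ?_⟩
    show ((τ (⁅s, τ.symm ⟨v, hv⟩⁆) : ↥S) : G) = _
    rw [map_commutatorElement, τ.apply_symm_apply]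
    rfl
  set C := closure T
  have hCD : C ≤ D := (closure_le D).2 hTD
  have hCinv : AutInv S C :=
    AutInv.of_closure (fun s hs => hs.1) fun τ s hs => subset_closure (hTinv τ s hs)
  have hUC : U₀ ≤ C := fun u hu => by
    refine subset_closure ⟨c.setup.le_S (c.uExc_le_D hu), lt_of_le_of_lt (Nat.card_mono (Set.toFinite _) ?_) hlt⟩
    rintro _ ⟨v, rfl⟩
    show ⁅u, (v : G)⁆ ∈ Z₀
    rw [← commutatorElement_inv]
    exact inv_mem (c.comm_U0_D hu (c.vPlus_le v.2))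
  have hCn : C.Normal := c.normal_of_residual (hCinv.conj (hCD.trans c.setup.le_S)) fun r hr x hx => by
    rw [← commutatorElement_inv]
    exact inv_mem (hUC (commutator_mem_commutator (hCD hx) hr))
  refine c.uExc_not_le_V ?_
  rw [le_bot_iff.1 (hUC.trans (c.nochar C (hCD.trans c.setup.le_S) hCn hCinv.char).le)]
  exact bot_le

/-- Nondegeneracy of the form. -/
theorem comm_onto {u : G} (hu : u ∈ U₀) (huV : u ∉ V) {z : G} (hz : z ∈ Z₀) :
    ∃ w ∈ U₀, ⁅u, w⁆ = z := by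
  obtain ⟨ρ, φ, h⟩ := c.exists_top
  obtain ⟨Θ, hΘ, hrange⟩ := c.exists_form h
  obtain ⟨a, rfl⟩ := hrange.ge hz
  set v := Multiplicative.toAdd (φ ⟨u, hu⟩) with hv
  have hv0 : v ≠ 0 := fun e => huV ((h.ker ⟨u, hu⟩).1 (Multiplicative.toAdd.injective e)).2
  obtain ⟨M, hM1, hM2⟩ := exists_to_first hv0
  obtain ⟨w, hw⟩ := h.surj (Multiplicative.ofAdd (M⁻¹.1 *ᵥ ![0, Multiplicative.toAdd a]))
  refine ⟨w, w.2, ?_⟩
  rw [hΘ ⟨u, hu⟩ w, hw, toAdd_ofAdd, ← hv, ← hM2, mulVec_mulVec, ← Matrix.SpecialLinearGroup.coe_mul,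
    mul_inv_cancel, Matrix.SpecialLinearGroup.coe_one, one_mulVec]
  rfl

theorem mem_of_centralizes {u : G} (hu : u ∈ U₀) (h : ∀ w ∈ U₀, u * w = w * u) : u ∈ U₀ ⊓ V := by
  refine ⟨hu, by_contra fun huV => ?_⟩
  have hcard := c.card_zExc
  have hle : Z₀ ≤ ⊥ := fun z hz => by
    obtain ⟨w, hw, rfl⟩ := c.comm_onto hu huV hz
    exact mem_bot.2 (commutatorElement_eq_one_iff_mul_comm.2 (h w hw))
  rw [le_bot_iff.1 hle, card_bot] at hcard
  exact c.setup.one_lt.ne hcard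

/-- An element of the top layer which `S` moves into `Z₀` only. -/
theorem exists_low : ∃ u ∈ U₀, u ∉ V ∧ ∀ s ∈ S, ⁅s, u⁆ ∈ Z₀ := by
  obtain ⟨σ, v, hv, hout⟩ : ∃ (σ : ↥S ≃* ↥S) (v : ↥S), (v : G) ∈ V ∧
      ((σ v : ↥S) : G) ∉ (U₀ ⊓ V) ⊔ K₀ := by
    by_contra hno
    push Not at hno
    haveI := c.normalK
    have hle : vPlus S V ≤ (U₀ ⊓ V) ⊔ K₀ := (closure_le _).2 (by
      rintro _ ⟨σ, v, hv, rfl⟩; exact hno σ v hv)
    have hS := c.vPlus_le.trans c.setup.le_S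
    have hN : (vPlus S V).Normal := c.normal_of_residual (c.vPlus_inv.conj hS) fun r hr x hx => by
      obtain ⟨a, ha, k, hk, rfl⟩ := mem_sup_of_normal_right.1 (hle hx)
      refine c.V_le_vPlus ?_
      rw [show ⁅r, a * k⁆ = ⁅r, a⁆ * (a * ⁅r, k⁆ * a⁻¹) by simp only [commutatorElement_def]; group,
        show ⁅r, k⁆ = 1 from commutatorElement_eq_one_iff_mul_comm.2 (c.resFix_comm hr hk),
        mul_one, mul_inv_cancel, mul_one, commutatorElement_def]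
      exact mul_mem (c.normalV.conj_mem a ha.2 r) (inv_mem ha.2)
    exact c.V_ne_bot (le_bot_iff.1
      (c.V_le_vPlus.trans (c.nochar _ hS hN c.vPlus_inv.char).le))
  set d := ((σ v : ↥S) : G)
  obtain ⟨u, hu, k, hk, hd⟩ := c.decompD (c.aut_V_le (σ := σ) hv)
  have huV : u ∉ V := fun h => hout (show d ∈ _ by
    rw [show d = u * k from hd.symm]; exact mul_mem_sup ⟨hu, h⟩ hk)
  refine ⟨u, hu, huV, fun s hs => ?_⟩
  set O : Set G := Set.range fun t : ↥S => ((t * σ v * t⁻¹ : ↥S) : G)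
  have hO : Nat.card O ≤ p ^ n := by
    haveI := c.normalD
    rw [← c.setup.relIndex_D, relIndex, index_eq_card]
    let f : (↥S ⧸ D.subgroupOf S) → G := Quotient.lift (fun t : ↥S => ((σ (t * v * t⁻¹) : ↥S) : G))
      fun a b hab => by
        have hab' : a⁻¹ * b ∈ D.subgroupOf S := QuotientGroup.leftRel_apply.1 hab
        have e : b * v * b⁻¹ = a * v * a⁻¹ := by
          obtain ⟨d', hd', rfl⟩ : ∃ d' ∈ D.subgroupOf S, a * d' = b := ⟨_, hab', mul_inv_cancel_left a b⟩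
          have hc : d' * v = v * d' := Subtype.ext (c.comm_V hv hd').symm
          rw [mul_assoc a d', hc, _root_.mul_inv_rev]
          group
        show ((σ (a * v * a⁻¹) : ↥S) : G) = ((σ (b * v * b⁻¹) : ↥S) : G)
        rw [e]
    refine (Nat.card_mono (Set.finite_range f) ?_).trans (Finite.card_range_le f)
    rintro _ ⟨t, rfl⟩
    refine ⟨QuotientGroup.mk (σ.symm t), ?_⟩
    show ((σ (σ.symm t * v * (σ.symm t)⁻¹) : ↥S) : G) = _
    rw [map_mul, map_mul, map_inv, σ.apply_symm_apply]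
  have hsub : Set.range (fun z : ↥(Z₀) => (z : G) * d) ⊆ O := by
    rintro _ ⟨z, rfl⟩
    obtain ⟨w, hw, hwz⟩ := c.comm_onto hu huV (inv_mem z.2)
    refine ⟨⟨w, c.setup.le_S (c.uExc_le_D hw)⟩, ?_⟩
    show w * d * w⁻¹ = (z : G) * d
    rw [show d = u * k from hd.symm, show w * (u * k) * w⁻¹ = ⁅u, w⁆⁻¹ * u * (w * k * w⁻¹) by
      simp only [commutatorElement_def]; group, c.uExc_comm_resFix hw hk, mul_inv_cancel_right, hwz,
      inv_inv, mul_assoc]
  have heq : Set.range (fun z : ↥(Z₀) => (z : G) * d) = O := by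
    refine Set.eq_of_subset_of_ncard_le hsub ?_ (Set.toFinite _)
    rw [← Nat.card_coe_set_eq, ← Nat.card_coe_set_eq,
      Nat.card_range_of_injective (fun a b h => Subtype.ext (mul_right_cancel h)), c.card_zExc]
    exact hO
  obtain ⟨z, hz⟩ : s * d * s⁻¹ ∈ Set.range (fun z : ↥(Z₀) => (z : G) * d) := by
    rw [heq]; exact ⟨⟨s, hs⟩, rfl⟩
  have hsd : ⁅s, d⁆ ∈ Z₀ := by
    rw [commutatorElement_def, ← hz, mul_inv_cancel_right]
    exact z.2
  have hkk : ⁅s, k⁆ ∈ K₀ := by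
    rw [commutatorElement_def]
    exact mul_mem (c.normalK.conj_mem k hk s) (inv_mem hk)
  rw [show d = u * k from hd.symm, show ⁅s, u * k⁆ = ⁅s, u⁆ * (u * ⁅s, k⁆ * u⁻¹) by
    simp only [commutatorElement_def]; group, c.uExc_comm_resFix hu hkk, mul_inv_cancel_right] at hsd
  have h2 := (U₀).mul_mem ((U₀).inv_mem (c.comm_mem_U0 hu s)) (c.zExc_le_uExc hsd)
  rw [inv_mul_cancel_left] at h2
  have h3 := (Z₀).mul_mem hsd ((Z₀).inv_mem (c.uExc_inf_resFix.le ⟨h2, hkk⟩))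
  rwa [mul_inv_cancel_right] at h3

/-- The fixed line of `S` on the top layer. -/
theorem fixed_line {ρ : G →* SLtwo F} {φ : U₀ →* Multiplicative (Fin 2 → F)}
    (h : Coords F D U₀ (U₀ ⊓ V) ρ φ) {u : U₀} (hu : (u : G) ∉ V)
    (hfix : ∀ s ∈ S, ⁅s, (u : G)⁆ ∈ U₀ ⊓ V) :
    ∀ t ∈ S, ∀ x : U₀, ∃ a : F, (ρ t).1 *ᵥ Multiplicative.toAdd (φ x) - Multiplicative.toAdd (φ x) =
      a • Multiplicative.toAdd (φ u) := by
  intro t ht x
  exact (fix_vector (fun e => hu ((h.ker u).1 (Multiplicative.toAdd.injective e)).2)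
    ((h.comm_mem_iff t u (c.conj_U0 u.2 t)).1 (hfix t ht))).1 _

/-- Two steps from the top land in the middle. -/
theorem two_steps {a b x : G} (ha : a ∈ S) (hb : b ∈ S) (hx : x ∈ U₀) : ⁅a, ⁅b, x⁆⁆ ∈ U₀ ⊓ V := by
  obtain ⟨ρ, φ, h⟩ := c.exists_top
  obtain ⟨u, hu, huV, hlow⟩ := c.exists_low
  have hfix : ∀ s ∈ S, ⁅s, u⁆ ∈ U₀ ⊓ V := fun s hs => c.zExc_le_middle (hlow s hs)
  have hy := c.comm_mem_U0 hx b
  refine (h.comm_mem_iff a ⟨_, hy⟩ (c.conj_U0 hy a)).2 ?_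
  obtain ⟨k, hk⟩ := c.fixed_line h (u := ⟨u, hu⟩) huV hfix b hb ⟨x, hx⟩
  rw [h.comm_val b ⟨x, hx⟩ (c.conj_U0 hx b) hy, hk, mulVec_smul,
    (h.comm_mem_iff a ⟨u, hu⟩ (c.conj_U0 hu a)).1 (hfix a ha)]

/-- Fixed vectors of the top layer lift to elements moved into `Z₀` only. -/
theorem lift_fixed {x : G} (hx : x ∈ U₀) (hfx : ∀ t ∈ S, ⁅t, x⁆ ∈ U₀ ⊓ V) :
    ∃ y ∈ U₀, (∀ s ∈ S, ⁅s, y⁆ ∈ Z₀) ∧ y⁻¹ * x ∈ U₀ ⊓ V := by
  haveI := c.normalU0
  haveI := c.normalV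
  by_cases hxV : x ∈ U₀ ⊓ V
  · refine ⟨1, one_mem _, fun s _ => ?_, by simpa using hxV⟩
    rw [commutatorElement_one_right]
    exact one_mem _
  obtain ⟨ρ, φ, h⟩ := c.exists_top
  obtain ⟨u, hu, huV, hlow⟩ := c.exists_low
  haveI := c.charF
  set v₀ := Multiplicative.toAdd (φ ⟨u, hu⟩) with hv₀
  set v := Multiplicative.toAdd (φ ⟨x, hx⟩) with hv
  have hv0 : v₀ ≠ 0 := fun e => huV ((h.ker ⟨u, hu⟩).1 (Multiplicative.toAdd.injective e)).2
  have hvne : v ≠ 0 := fun e => hxV ((h.ker ⟨x, hx⟩).1 (Multiplicative.toAdd.injective e))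
  have hfix₀ : ∀ t ∈ S, (ρ t).1 *ᵥ v₀ = v₀ := fun t ht =>
    (h.comm_mem_iff t ⟨u, hu⟩ (c.conj_U0 hu t)).1 (c.zExc_le_middle (hlow t ht))
  have hfixv : ∀ t ∈ S, (ρ t).1 *ᵥ v = v := fun t ht =>
    (h.comm_mem_iff t ⟨x, hx⟩ (c.conj_U0 hx t)).1 (hfx t ht)
  -- `v` lies on the line of `v₀`
  obtain ⟨a, hva⟩ : ∃ a : F, v = a • v₀ := by
    by_contra hno
    push Not at hno
    obtain ⟨t, ht, htD⟩ := c.exists_notMem_D
    refine htD (h.mem_D c.normalU0 fun y hy => (h.comm_mem_iff t ⟨y, hy⟩ (c.conj_U0 hy t)).2 ?_)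
    obtain ⟨a, ha⟩ := (fix_vector hvne (hfixv t ht)).1 (Multiplicative.toAdd (φ ⟨y, hy⟩))
    obtain ⟨b, hb⟩ := (fix_vector hv0 (hfix₀ t ht)).1 (Multiplicative.toAdd (φ ⟨y, hy⟩))
    by_cases ha0 : a = 0
    · rw [ha0, zero_smul] at ha
      exact sub_eq_zero.1 ha
    · refine absurd ?_ (hno (a⁻¹ * b))
      rw [mul_smul, ← hb, ha, smul_smul, inv_mul_cancel₀ ha0, one_smul]
  -- the stabiliser of `v₀` is `S`
  let H : Subgroup G :=
    { carrier := {g | (ρ g).1 *ᵥ v₀ = v₀}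
      one_mem' := by
        show (ρ 1).1 *ᵥ v₀ = v₀
        rw [map_one, Matrix.SpecialLinearGroup.coe_one, one_mulVec]
      mul_mem' := fun {a b} ha hb => by
        show (ρ (a * b)).1 *ᵥ v₀ = v₀
        rw [map_mul, Matrix.SpecialLinearGroup.coe_mul, ← mulVec_mulVec, hb, ha]
      inv_mem' := fun {a} ha => by
        show (ρ a⁻¹).1 *ᵥ v₀ = v₀
        conv_lhs => rw [← ha]
        rw [mulVec_mulVec, ← Matrix.SpecialLinearGroup.coe_mul, ← map_mul, inv_mul_cancel, map_one,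
          Matrix.SpecialLinearGroup.coe_one, one_mulVec] }
  have hHS : H = S := by
    obtain ⟨P, hP⟩ := c.setup.sylow
    have hH : IsPGroup p H := by
      intro g
      have h1 : (g : G) ^ p ∈ D := by
        rw [← h.kerρ, MonoidHom.mem_ker, map_pow]
        exact pow_eq_one_of_fix hv0 g.2
      obtain ⟨k, hk⟩ := c.isPGroupD ⟨_, h1⟩
      exact ⟨1 + k, Subtype.ext (by
        rw [SubgroupClass.coe_pow, pow_add, pow_one, pow_mul]
        simpa using congrArg Subtype.val hk)⟩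
    rw [← hP]
    exact P.3 hH (fun t ht => hfix₀ t (hP ▸ ht))
  obtain ⟨M, hM⟩ := exists_mulVec_eq hv0 hvne
  obtain ⟨g, rfl⟩ := h.surjρ M
  refine ⟨g * u * g⁻¹, c.conj_U0 hu g, fun s hs => ?_, ?_⟩
  · have hg : g⁻¹ * s * g ∈ S := hHS.le (show (ρ (g⁻¹ * s * g)).1 *ᵥ v₀ = v₀ by
      rw [map_mul, map_mul, Matrix.SpecialLinearGroup.coe_mul, Matrix.SpecialLinearGroup.coe_mul,
        ← mulVec_mulVec, hM, ← mulVec_mulVec, hfixv s hs, ← hM, mulVec_mulVec,
        ← Matrix.SpecialLinearGroup.coe_mul, ← map_mul, inv_mul_cancel, map_one,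
        Matrix.SpecialLinearGroup.coe_one, one_mulVec])
    rw [show ⁅s, g * u * g⁻¹⁆ = g * ⁅g⁻¹ * s * g, u⁆ * g⁻¹ by simp only [commutatorElement_def]; group]
    exact c.normalZ.conj_mem _ (hlow _ hg) g
  · refine (h.ker (⟨g * u * g⁻¹, c.conj_U0 hu g⟩⁻¹ * ⟨x, hx⟩)).1 ?_
    rw [map_mul, map_inv, inv_mul_eq_one]
    exact Multiplicative.toAdd.injective (by rw [h.equiv g ⟨u, hu⟩ (c.conj_U0 hu g)]; exact hM)

/-- If one outside element kills the image of the middle part, the middle part is fixed. -/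
theorem middle_fixed {α s : G} (hα : α ∈ V) (hs : s ∈ S) (hsD : s ∉ D) (h : ⁅s, α⁆ ∈ Z₀) :
    ∀ t ∈ S, ⁅t, α⁆ = 1 := fun t ht =>
  commutatorElement_eq_one_iff_mul_comm.2 (mem_centralizer_iff.1
    ((c.setup.comm_central c.small hs hα (c.zExc_le_fixG h).2).resolve_right hsD).2 t ht)

/-- The two layers: a step killed by one outside element is killed by all. -/
theorem step_killed {a b x : G} (ha : a ∈ S) (hb : b ∈ S) (hbD : b ∉ D) (hx : x ∈ U₀)
    (h : ⁅b, ⁅a, x⁆⁆ ∈ Z₀) : ∀ s ∈ S, ⁅s, ⁅a, x⁆⁆ ∈ Z₀ := by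
  obtain ⟨y, hy, hlow, hα⟩ := c.lift_fixed (c.comm_mem_U0 hx a) fun t ht => c.two_steps ht ha hx
  set α := y⁻¹ * ⁅a, x⁆
  have e : ⁅a, x⁆ = y * α := (mul_inv_cancel_left _ _).symm
  have hs : ∀ {s}, s ∈ S → ⁅s, ⁅a, x⁆⁆ = ⁅s, y⁆ * ⁅s, α⁆ := fun {s} hs => by
    rw [e, show ⁅s, y * α⁆ = ⁅s, y⁆ * (y * ⁅s, α⁆ * y⁻¹) by simp only [commutatorElement_def]; group,
      ← c.comm_V (c.setup.quad c.small hs hα.2).1 (c.uExc_le_D hy), mul_inv_cancel_right]
  have h1 : ⁅b, α⁆ ∈ Z₀ := by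
    rw [hs hb] at h
    have h2 := (Z₀).mul_mem ((Z₀).inv_mem (hlow b hb)) h
    rwa [inv_mul_cancel_left] at h2
  intro s hsS
  rw [hs hsS, c.middle_fixed hα.2 hb hbD h1 s hsS, mul_one]
  exact hlow s hsS

/-- The steps commute modulo `Z₀`. -/
theorem steps_comm {a b x : G} (ha : a ∈ S) (hb : b ∈ S) (hx : x ∈ U₀) (h : ⁅a, ⁅b, x⁆⁆ ∈ Z₀) :
    ⁅b, ⁅a, x⁆⁆ ∈ Z₀ := by
  haveI := c.normalZ
  set q := QuotientGroup.mk' (Z₀)
  have hid : ∀ a b : G, ⁅a, ⁅b, x⁆⁆ =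
      (a * b * x * (a * b)⁻¹) * (a * x⁻¹ * a⁻¹) * x * (b * x⁻¹ * b⁻¹) := fun a b => by
    simp only [commutatorElement_def]; group
  have hab : q (a * b * x * (a * b)⁻¹) = q (b * a * x * (b * a)⁻¹) := by
    set w := b * a * x * (b * a)⁻¹
    have h1 : a * b * x * (a * b)⁻¹ = ⁅⁅a, b⁆, w⁆ * w := by
      simp only [w, commutatorElement_def]; group
    rw [h1, map_mul, show q ⁅⁅a, b⁆, w⁆ = 1 from (QuotientGroup.eq_one_iff _).2
      (c.comm_U0_D (c.conj_U0 hx _) (c.setup.comm_mem ha hb)), one_mul]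
  have e : q ⁅b, ⁅a, x⁆⁆ = q ⁅a, ⁅b, x⁆⁆ := by
    have hm : ∀ r₁ r₂ r₃ r₄ : G, q (r₁ * r₂ * r₃ * r₄) = q r₁ * q r₂ * q r₃ * q r₄ :=
      fun _ _ _ _ => by simp only [map_mul]
    rw [hid a b, hid b a, hm (a * b * x * (a * b)⁻¹), hm (b * a * x * (b * a)⁻¹), hab]
    have c1 := c.comm_quot (c.conj_U0 (inv_mem hx) a) hx
    have c2 := c.comm_quot (c.conj_U0 (inv_mem hx) b) hx
    have c3 := c.comm_quot (c.conj_U0 (inv_mem hx) b) (c.conj_U0 (inv_mem hx) a)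
    simp only [mul_assoc (G := G ⧸ Z₀)]
    congr 1
    rw [← c1.eq, ← c2.eq, ← mul_assoc, ← mul_assoc, c3.eq]
  refine (QuotientGroup.eq_one_iff _).1 ?_
  show q _ = 1
  rw [e]
  exact (QuotientGroup.eq_one_iff _).2 h

/-- No element of `S` outside `D` is quadratic on `[D,R]` modulo its derived group. -/
theorem quad_ne {b : G} (hb : b ∈ S) (hbD : b ∉ D) : ∃ u ∈ U₀, ⁅b, ⁅b, u⁆⁆ ∉ Z₀ := by
  by_contra hno
  push Not at hno
  have hall : ∀ a ∈ S, ∀ s ∈ S, ∀ x ∈ U₀, ⁅s, ⁅a, x⁆⁆ ∈ Z₀ := fun a ha s hs x hx =>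
    c.step_killed ha hb hbD hx
      (c.steps_comm ha hb hx (c.step_killed hb hb hbD hx (hno x hx) a ha)) s hs
  haveI := c.normalK
  refine c.no_triple fun t ht t' ht' u hu => ?_
  obtain ⟨u₀, hu₀, k, hk, rfl⟩ := c.decompD hu
  set q := QuotientGroup.mk' (K₀)
  refine (QuotientGroup.eq_one_iff _).1 ?_
  show q _ = 1
  rw [map_commutatorElement, map_commutatorElement, map_mul, show q k = 1 from
    (QuotientGroup.eq_one_iff _).2 hk, mul_one, ← map_commutatorElement, ← map_commutatorElement,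
    ← commutatorElement_inv]
  exact (QuotientGroup.eq_one_iff _).2
    (inv_mem (c.zExc_le_resFix (hall t (c.shape.hXS ht) t' (c.shape.hXS ht') u₀ hu₀)))

end ExcCtx

end Cfsg.Agent.Lib.MinPush94
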