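import Mathlib
import Cfsg.Prelude.Def_BaumannBlocks
import Cfsg.Agent.Lib.RankOnePush.Factors
import Cfsg.Agent.Lib.RankOnePush.ShapeBridge
import Cfsg.Agent.Lib.MinPush94.ExcForm
import Cfsg.Agent.Lib.PReduced.SylowInf
import Cfsg.Agent.Lib.PGroup.Frattini
/-!
The second case of rank one pushing up: the structure of `[O_p(G), O^p(G)]`.
-/

set_option autoImplicit false
set_option linter.unusedSectionVars false

namespace Cfsg.Agent.Lib.MinPush94

open Subgroup Matrix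
open Cfsg.Agent.Lib Cfsg.Agent.Lib.RankOnePush
open Cfsg.Agent.Lib.SL2 (SLtwo PSLtwo)
open scoped commutatorElement

variable {G : Type*} [Group G] [Finite G] {p : ℕ} [Fact p.Prime] {F : Type} [Field F] [Fintype F] {n : ℕ}

/-- The structure of the second case. -/
structure Exceptional (p : ℕ) (S D V : Subgroup G) (F : Type) [Field F] [Fintype F] (n : ℕ) : Prop where
  three : p = 3
  res : ⁅uExc p D, Cfsg.pResidual p G⁆ = uExc p D
  core : Cfsg.pResidual p G ⊓ D = uExc p D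
  omega : Cfsg.omegaOneCenter p (uExc p D) = ⁅V, Cfsg.pResidual p G⁆ ⊔ zExc p D
  fixed : Cfsg.omegaOneCenter p (uExc p D) ⊓ centralizer (Cfsg.pResidual p G : Set G) = zExc p D
  cent : Cfsg.pResidual p G ⊓ centralizer (Cfsg.pResidual p G : Set G) = zExc p D
  frat : (frattini ↥(uExc p D)).map (uExc p D).subtype = zExc p D
  card : Nat.card ↥(zExc p D) = p ^ n
  top : Cfsg.ActsAsSL2OnSection F (commutator (Matrix.SpecialLinearGroup (Fin 2) F))
    (Cfsg.pResidual p G) (uExc p D) (Cfsg.omegaOneCenter p (uExc p D))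
  bot : Cfsg.ActsAsSL2OnSection F (commutator (Matrix.SpecialLinearGroup (Fin 2) F))
    (Cfsg.pResidual p G) (Cfsg.omegaOneCenter p (uExc p D)) (zExc p D)
  quad : ∀ b ∈ S, b ∉ centralizer (Cfsg.omegaOneCenter p (uExc p D) : Set G) →
    ¬ ⁅⁅uExc p D, zpowers b⁆, zpowers b⁆ ≤ zExc p D
  cover : ∀ N : Subgroup G, N.Normal → N ≤ D → ¬ ⁅N, Cfsg.pResidual p G⁆ ≤ V →
    ⁅V, Cfsg.pResidual p G⁆ ≤ N ⊔ resFix p D

/-- The residual is generated by its own `p'`-elements. -/
theorem pResidual_self : Cfsg.pResidual p ↥(Cfsg.pResidual p G) = ⊤ := by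
  refine le_antisymm le_top (closure_closure_coe_preimage.symm.le.trans (closure_mono fun x hx => ?_))
  show (orderOf x).Coprime p
  rw [← orderOf_injective (Subgroup.subtype _) Subtype.val_injective x]
  exact hx

/-- A natural section gives the action of the residual. -/
theorem Coords.acts [CharP F p] {D A B : Subgroup G} (hA : A.Normal) (hBA : B ≤ A) {ρ : G →* SLtwo F}
    {φ : A →* Multiplicative (Fin 2 → F)} (h : Coords F D A B ρ φ) :
    Cfsg.ActsAsSL2OnSection F (commutator (Matrix.SpecialLinearGroup (Fin 2) F))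
      (Cfsg.pResidual p G) A B := by
  refine ⟨?_, hBA, ρ.comp (Cfsg.pResidual p G).subtype, φ, range_comp_residual ρ h.surjρ, h.surj,
    h.ker, fun e a => ⟨⟨_, hA.conj_mem a a.2 e⟩, rfl, h.equiv e a _⟩⟩
  rw [normalizer_eq_top_iff.2 hA]
  exact le_top

variable {S D V U Q X : Subgroup G} {ψ : G →* PSLtwo F}

namespace ExcCtx

variable (c : ExcCtx p S D V U Q X n ψ)

include c

local notation "R₀" => Cfsg.pResidual p G
local notation "K₀" => resFix p D
local notation "U₀" => uExc p D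
local notation "Z₀" => zExc p D

theorem omega_eq : Cfsg.omegaOneCenter p (U₀) = U₀ ⊓ V := by
  show Subgroup.closure _ = _
  refine le_antisymm ((closure_le _).2 fun x hx => c.mem_of_centralizes hx.1.1 fun w hw =>
    (mem_centralizer_iff.1 hx.1.2 w hw).symm) fun x hx => subset_closure ⟨⟨hx.1, ?_⟩, c.pow_U0 hx.1⟩
  exact mem_centralizer_iff.2 fun w hw => (c.comm_V hx.2 (c.uExc_le_D hw)).symm

theorem zExc_le_centralizer : Z₀ ≤ centralizer (R₀ : Set G) :=
  c.zExc_le_resFix.trans inf_le_right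

theorem fixed_eq : (U₀ ⊓ V) ⊓ centralizer (R₀ : Set G) = Z₀ :=
  le_antisymm (fun _ hx => c.uExc_inf_resFix.le ⟨hx.1.1, c.uExc_le_D hx.1.1, hx.2⟩)
    (le_inf c.zExc_le_middle c.zExc_le_centralizer)

theorem frat_eq : (frattini ↥(U₀)).map (U₀).subtype = Z₀ := by
  refine le_antisymm (PFrattini.frattini_map_subtype_le le_rfl fun x hx => by
    rw [c.pow_U0 hx]; exact one_mem _) ?_
  show ⁅U₀, U₀⁆ ≤ _
  rw [← map_subtype_commutator]
  exact Subgroup.map_mono (PFrattini.commutator_le_frattini (c.isPGroupD.to_le c.uExc_le_D))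

theorem quad_final {b : G} (hb : b ∈ S) (hbW : b ∉ centralizer ((U₀ ⊓ V : Subgroup G) : Set G)) :
    ¬ ⁅⁅U₀, zpowers b⁆, zpowers b⁆ ≤ Z₀ := by
  intro hle
  have hbD : b ∉ D := fun h => hbW (mem_centralizer_iff.2 fun a ha => c.comm_V ha.2 h)
  obtain ⟨u, hu, hne⟩ := c.quad_ne hb hbD
  refine hne ?_
  have h1 : ⁅⁅u, b⁆, b⁆ ∈ Z₀ :=
    hle (commutator_mem_commutator (commutator_mem_commutator hu (mem_zpowers b)) (mem_zpowers b))
  rw [show ⁅b, ⁅b, u⁆⁆ = ⁅b, u⁆ * ⁅⁅u, b⁆, b⁆ * ⁅b, u⁆⁻¹ by simp only [commutatorElement_def]; group]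
  exact c.normalZ.conj_mem _ h1 _

theorem resFix_le_Q : K₀ ≤ Q := by
  haveI := c.normalV
  haveI := c.normalU0
  obtain ⟨hc, hnc⟩ := c.top_chief
  obtain ⟨hcT, hncT⟩ := c.lift_factor le_rfl le_rfl hc hnc
  obtain ⟨-, hdec, -⟩ := c.setup.factor_facts c.small c.shape le_sup_right
    (sup_le c.uExc_le_D c.small.le) hcT hncT
  intro k hk
  obtain ⟨u', hu', v, hv, rfl⟩ := hdec k hk.1
  obtain ⟨u, hu, v', hv', rfl⟩ := mem_sup_of_normal_right.1 hu'
  have hv'' : v' * v ∈ Q := Q.mul_mem (c.shape.hVQ hv') hv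
  rw [mul_assoc]
  refine Q.mul_mem (c.top_fix_Q hu fun t ht => ?_) hv''
  obtain ⟨x, hx, d, hd, rfl⟩ := c.setup.decomp c.shape ht
  rw [show ⁅x * d, u⁆ = x * ⁅d, u⁆ * x⁻¹ * ⁅x, u⁆ by simp only [commutatorElement_def]; group]
  refine mul_mem ((inferInstance : (U₀ ⊓ V : Subgroup G).Normal).conj_mem _
    (c.zExc_le_middle (c.comm_U0_D hu hd)) x) ?_
  set k' := ⁅x, u * v' * v⁆
  have hk' : k' ∈ K₀ := by
    simp only [k', commutatorElement_def]
    exact (K₀).mul_mem (c.normalK.conj_mem _ hk x) ((K₀).inv_mem hk)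
  have hz : ⁅x, v' * v⁆ ∈ fixS V S := c.shape.hXQ x hx _ hv''
  obtain ⟨w, hw, z, hz', hwz⟩ := mem_sup_of_normal_left.1 (c.V_le (inv_mem hz.1))
  have e : ⁅x, u⁆ = w * (k' * z) := by
    rw [← mul_assoc, c.uExc_comm_resFix (c.vR_le hw).1 hk', mul_assoc, hwz]
    simp only [k']
    rw [show ⁅x, u * v' * v⁆ = ⁅x, u⁆ * (u * ⁅x, v' * v⁆ * u⁻¹) by
      simp only [commutatorElement_def]; group, ← c.comm_V hz.1 (c.uExc_le_D hu), mul_inv_cancel_right,
      mul_inv_cancel_right]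
  have hkz : k' * z ∈ Z₀ := c.uExc_inf_resFix.le ⟨by
    have h1 := (U₀).mul_mem ((U₀).inv_mem (c.vR_le hw).1) (c.comm_mem_U0 hu x)
    rwa [e, inv_mul_cancel_left] at h1,
    mul_mem hk' (c.setup.fixG_le_resFix c.small c.shape hz')⟩
  rw [e]
  exact mul_mem (c.vR_le hw) (c.zExc_le_middle hkz)

theorem X_comm_resFix {x k : G} (hx : x ∈ X) (hk : k ∈ K₀) : ⁅x, k⁆ ∈ fixG V := by
  refine c.setup.resFix_inf_le c.small c.shape ⟨?_, (c.shape.hXQ x hx k (c.resFix_le_Q hk)).1⟩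
  rw [commutatorElement_def]
  exact (K₀).mul_mem (c.normalK.conj_mem _ hk x) ((K₀).inv_mem hk)

theorem mem_D_of_centDer {s : G} (hs : s ∈ S) (h : s ∈ centralizer (⁅S, S⁆ : Subgroup G)) : s ∈ D := by
  by_contra hsD
  obtain ⟨u, hu, hne⟩ := c.quad_ne hs hsD
  refine hne ?_
  rw [commutatorElement_eq_one_iff_mul_comm.2 (mem_centralizer_iff.1 h _
    (commutator_mem_commutator hs (c.setup.le_S (c.uExc_le_D hu)))).symm]
  exact one_mem _

theorem centDer_comm {s t : G} (hs : s ∈ S ⊓ centralizer ((⁅S, S⁆ : Subgroup G) : Set G))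
    (ht : t ∈ S ⊓ centralizer ((⁅S, S⁆ : Subgroup G) : Set G)) : s * t = t * s := by
  set T := S ⊓ centralizer ((⁅S, S⁆ : Subgroup G) : Set G) with hT
  have hTinv : AutInv S T := fun σ y hy => ⟨(σ y).2, mem_centralizer_iff.2 fun x hx => by
    have hle : ⁅S, S⁆ ≤ centralizer ({((σ y : ↥S) : G)} : Set G) := commutator_le.2 fun a ha b hb => by
      refine mem_centralizer_singleton_iff.2 ?_
      have h1 : σ.symm ⁅(⟨a, ha⟩ : S), ⟨b, hb⟩⁆ * y = y * σ.symm ⁅(⟨a, ha⟩ : S), ⟨b, hb⟩⁆ := by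
        rw [map_commutatorElement]
        exact Subtype.ext (mem_centralizer_iff.1 hy.2 _
          (commutator_mem_commutator (σ.symm ⟨a, ha⟩).2 (σ.symm ⟨b, hb⟩).2))
      have h2 := congrArg σ h1
      rw [map_mul, map_mul, σ.apply_symm_apply] at h2
      exact congrArg Subtype.val h2
    exact mem_centralizer_singleton_iff.1 (hle hx)⟩
  have hTD : T ≤ D := fun y hy => c.mem_D_of_centDer hy.1 hy.2
  have hle : ⁅T, T⁆ ≤ K₀ := commutator_le.2 fun a ha b hb =>
    c.setup.comm_mem_resFix c.small c.shape (hTD ha) (hTD hb)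
  have hinv : AutInv S ⁅T, T⁆ := by
    rw [Subgroup.commutator_def]
    refine AutInv.of_closure ?_ fun σ y hy => ?_
    · rintro _ ⟨a, ha, b, hb, rfl⟩
      exact S.mul_mem (S.mul_mem (S.mul_mem ha.1 hb.1) (S.inv_mem ha.1)) (S.inv_mem hb.1)
    · obtain ⟨a, ha, b, hb, e⟩ := hy
      refine subset_closure ⟨_, hTinv σ ⟨a, ha.1⟩ ha, _, hTinv σ ⟨b, hb.1⟩ hb, ?_⟩
      have e' : ⁅(⟨a, ha.1⟩ : S), ⟨b, hb.1⟩⁆ = y := Subtype.ext e
      rw [← e', map_commutatorElement]
      rfl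
  have hbot := c.kill (hle.trans (inf_le_left.trans c.setup.le_S)) hinv hle
  exact commutatorElement_eq_one_iff_mul_comm.1
    (mem_bot.1 (hbot.le (commutator_mem_commutator hs ht)))

/-- The factor fixed by the residual of an element of the residual centralises the derived group. -/
theorem resFix_part {x u k : G} (hx : x ∈ X) (hu : u ∈ U₀) (hk : k ∈ K₀) (he : x * (u * k) ∈ R₀) :
    k ∈ S ⊓ centralizer ((⁅S, S⁆ : Subgroup G) : Set G) := by
  refine ⟨c.setup.le_S hk.1, ?_⟩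
  have hkk : ∀ k' ∈ K₀, ⁅k, k'⁆ ∈ center G := fun k' hk' => by
    have hk'' : k * k' * k⁻¹ ∈ K₀ := c.normalK.conj_mem k' hk' k
    have h1 : x * (k * k' * k⁻¹) * x⁻¹ = k' := by
      have h2 := c.resFix_comm he hk'
      calc x * (k * k' * k⁻¹) * x⁻¹ = x * (u * (k * k' * k⁻¹) * u⁻¹) * x⁻¹ := by
            rw [c.uExc_comm_resFix hu hk'', mul_inv_cancel_right]
        _ = x * (u * k) * k' * (x * (u * k))⁻¹ := by group
        _ = k' := by rw [h2, mul_inv_cancel_right]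
    rw [show ⁅k, k'⁆ = (k * k' * k⁻¹) * k'⁻¹ by rw [commutatorElement_def]]
    conv => arg 2; arg 2; rw [← h1]
    rw [show k * k' * k⁻¹ * (x * (k * k' * k⁻¹) * x⁻¹)⁻¹ = ⁅x, k * k' * k⁻¹⁆⁻¹ by
      simp only [commutatorElement_def]; group]
    exact inv_mem (c.X_comm_resFix hx hk'').2
  haveI := c.normalV
  haveI := c.normalU0
  haveI := c.normalK
  haveI := c.normalD
  set L := U₀ ⊔ fixG V ⊔ ⁅K₀, K₀⁆
  have hL : L ≤ centralizer ({k} : Set G) := by
    refine sup_le (sup_le (fun y hy => ?_) (fun y hy => ?_)) (commutator_le.2 fun a ha b hb => ?_)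
    · exact mem_centralizer_singleton_iff.2 (c.uExc_comm_resFix hy hk)
    · exact mem_centralizer_singleton_iff.2 (mem_center_iff.1 hy.2 k).symm
    · refine mem_centralizer_singleton_iff.2 ?_
      have hz : ∀ {d : G}, d ∈ center G → ∀ g, Commute d g := fun hd g => (mem_center_iff.1 hd g).symm
      have h1 : k * ⁅a, b⁆ * k⁻¹ = ⁅a, b⁆ := by
        rw [conjugate_commutatorElement, show k * a * k⁻¹ = ⁅k, a⁆ * a by
          simp only [commutatorElement_def]; group, show k * b * k⁻¹ = ⁅k, b⁆ * b by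
          simp only [commutatorElement_def]; group,
          commutatorElement_mul_central (hz (hkk a ha) _) (hz (hkk a ha) _) (hz (hkk a ha) _)
            (hz (hkk b hb) _) (hz (hkk b hb) _)]
      calc ⁅a, b⁆ * k = k * ⁅a, b⁆ * k⁻¹ * k := by rw [h1]
        _ = k * ⁅a, b⁆ := by group
  set q := QuotientGroup.mk' L
  have hone : ∀ {a b : G}, ⁅a, b⁆ ∈ L → Commute (q a) (q b) := fun h => by
    rw [← commutatorElement_eq_one_iff_commute, ← map_commutatorElement]
    exact (QuotientGroup.eq_one_iff _).2 h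
  have hform : ∀ a ∈ S, ∃ y ∈ X, ∃ l ∈ K₀, q a = q y * q l := fun a ha => by
    obtain ⟨y, hy, d, hd, rfl⟩ := c.setup.decomp c.shape ha
    obtain ⟨v, hv, l, hl, rfl⟩ := c.decompD hd
    refine ⟨y, hy, l, hl, ?_⟩
    rw [map_mul, map_mul, show q v = 1 from (QuotientGroup.eq_one_iff _).2
      (mem_sup_left (mem_sup_left hv)), one_mul]
  show k ∈ centralizer ((⁅S, S⁆ : Subgroup G) : Set G)
  rw [mem_centralizer_iff]
  intro y hy
  have hSL : ⁅S, S⁆ ≤ L := commutator_le.2 fun a ha b hb => by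
    obtain ⟨y, hy, l, hl, ea⟩ := hform a ha
    obtain ⟨y', hy', l', hl', eb⟩ := hform b hb
    refine (QuotientGroup.eq_one_iff _).1 ?_
    show q _ = 1
    rw [map_commutatorElement, commutatorElement_eq_one_iff_commute, ea, eb]
    have cyy : Commute (q y) (q y') := (show Commute y y' from c.shape.commX y hy y' hy').map q
    have cxk : ∀ {y l : G}, y ∈ X → l ∈ K₀ → Commute (q y) (q l) := fun hy hl =>
      hone (mem_sup_left (mem_sup_right (c.X_comm_resFix hy hl)))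
    exact ((cyy.mul_right (cxk hy hl')).mul_left
      ((cxk hy' hl).symm.mul_right (hone (mem_sup_right (commutator_mem_commutator hl hl')))))
  exact mem_centralizer_singleton_iff.1 (hL (hSL hy))

/-- The residual meets `D` in `[D,R]`. -/
theorem core_eq : R₀ ⊓ D = U₀ := by
  refine le_antisymm (fun z hz => ?_) (le_inf c.uExc_le_R c.uExc_le_D)
  haveI := c.normalU0
  haveI : (R₀).Normal := inferInstance
  set q := QuotientGroup.mk' ((U₀).subgroupOf (R₀))
  have hqs : Function.Surjective q := QuotientGroup.mk'_surjective _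
  obtain ⟨Ps, hPs⟩ := c.setup.sylow
  set P := ((S ⊓ R₀).subgroupOf (R₀)).map q
  have hgen : Cfsg.pResidual p (↥(R₀) ⧸ (U₀).subgroupOf (R₀)) = ⊤ := by
    rw [← map_pResidual q hqs, pResidual_self, map_top_of_surjective q hqs]
  have hPp : IsPGroup p P :=
    ((c.setup.isPGroup.to_le inf_le_left).comap_subtype (K := R₀)).map q
  have hidx : ¬ p ∣ P.index := fun hd => by
    have h1 := (PReduced.isSylowIn_inf_normal Ps (R₀)).2.2
    rw [hPs] at h1
    exact h1 (hd.trans (index_map_dvd _ hqs))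
  have hq : ∀ {a b : ↥(R₀)}, ⁅(a : G), (b : G)⁆ ∈ U₀ → Commute (q a) (q b) := fun {a b} h => by
    rw [← commutatorElement_eq_one_iff_commute, ← map_commutatorElement]
    exact (QuotientGroup.eq_one_iff _).2 h
  have hab : ∀ a ∈ P, ∀ b ∈ P, a * b = b * a := by
    rintro _ ⟨e, he, rfl⟩ _ ⟨e', he', rfl⟩
    obtain ⟨x, hx, d, hd, hxd⟩ := c.setup.decomp c.shape (show (e : G) ∈ S from he.1)
    obtain ⟨x', hx', d', hd', hxd'⟩ := c.setup.decomp c.shape (show (e' : G) ∈ S from he'.1)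
    obtain ⟨u, hu, k, hk, rfl⟩ := c.decompD hd
    obtain ⟨u', hu', k', hk', rfl⟩ := c.decompD hd'
    have hkk : k * k' = k' * k := c.centDer_comm (c.resFix_part hx hu hk (hxd.symm ▸ e.2))
      (c.resFix_part hx' hu' hk' (hxd'.symm ▸ e'.2))
    refine (hq ?_).eq
    set r := QuotientGroup.mk' (U₀)
    refine (QuotientGroup.eq_one_iff _).1 ?_
    show r _ = 1
    rw [map_commutatorElement, commutatorElement_eq_one_iff_commute]
    have e1 : r (e : G) = r x * r k := by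
      rw [← hxd, map_mul, map_mul, show r u = 1 from (QuotientGroup.eq_one_iff _).2 hu, one_mul]
    have e2 : r (e' : G) = r x' * r k' := by
      rw [← hxd', map_mul, map_mul, show r u' = 1 from (QuotientGroup.eq_one_iff _).2 hu', one_mul]
    have cXX : Commute (r x) (r x') := (show Commute x x' from c.shape.commX x hx x' hx').map r
    have cKK : Commute (r k) (r k') := (show Commute k k' from hkk).map r
    have cEK : Commute (r (e : G)) (r k') := (show Commute (e : G) k' from c.resFix_comm e.2 hk').map r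
    have cEK' : Commute (r (e' : G)) (r k) := (show Commute (e' : G) k from c.resFix_comm e'.2 hk).map r
    rw [show r x = r (e : G) * (r k)⁻¹ by rw [e1, mul_inv_cancel_right],
      show r x' = r (e' : G) * (r k')⁻¹ by rw [e2, mul_inv_cancel_right]] at cXX
    have h4 := cXX.eq
    have lhs : r (e : G) * (r k)⁻¹ * (r (e' : G) * (r k')⁻¹) =
        r (e : G) * r (e' : G) * ((r k)⁻¹ * (r k')⁻¹) := by
      rw [mul_assoc (r (e : G)), ← mul_assoc (r k)⁻¹, ← cEK'.inv_right.eq]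
      group
    have rhs : r (e' : G) * (r k')⁻¹ * (r (e : G) * (r k)⁻¹) =
        r (e' : G) * r (e : G) * ((r k)⁻¹ * (r k')⁻¹) := by
      rw [mul_assoc (r (e' : G)), ← mul_assoc (r k')⁻¹, ← cEK.inv_right.eq, cKK.inv_inv.eq]
      group
    rw [lhs, rhs] at h4
    exact mul_right_cancel h4
  have h1 := central_eq_one hgen hPp hidx hab (z := q ⟨z, hz.1⟩)
    (mem_map_of_mem q ⟨c.setup.le_S hz.2, hz.1⟩) fun g => by
      obtain ⟨g, rfl⟩ := hqs g
      refine (hq ?_).eq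
      rw [← commutatorElement_inv]
      exact inv_mem (commutator_mem_commutator hz.2 g.2)
  exact (QuotientGroup.eq_one_iff (⟨z, hz.1⟩ : ↥(R₀))).1 h1

theorem cent_eq : R₀ ⊓ centralizer (R₀ : Set G) = Z₀ := by
  refine le_antisymm (fun z hz => ?_) (le_inf (c.zExc_le_uExc.trans c.uExc_le_R) c.zExc_le_centralizer)
  have hzD : z ∈ D := c.cent (mem_centralizer_iff.2 fun d hd => by
    obtain ⟨u, hu, k, hk, rfl⟩ := c.decompD hd
    have h1 : Commute z u := (mem_centralizer_iff.1 hz.2 u (c.uExc_le_R hu)).symm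
    have h2 : Commute z k := c.resFix_comm hz.1 hk
    exact (h1.mul_right h2).eq.symm)
  exact c.uExc_inf_resFix.le ⟨c.core_eq.le ⟨hz.1, hzD⟩, hzD, hz.2⟩

theorem cover_eq {N : Subgroup G} (hN : N.Normal) (hND : N ≤ D) (hne : ¬ ⁅N, R₀⁆ ≤ V) :
    ⁅V, R₀⁆ ≤ N ⊔ K₀ := by
  haveI := hN
  haveI := c.normalU0
  haveI := c.normalV
  obtain ⟨hc, -⟩ := c.top_chief
  have hsup : (N ⊓ U₀) ⊔ (U₀ ⊓ V) = U₀ := by
    rcases hc.2.2.2 ((N ⊓ U₀) ⊔ (U₀ ⊓ V)) inferInstance le_sup_right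
      (sup_le inf_le_right inf_le_left) with e | e
    · refine absurd (fun x hx => ?_) hne
      exact (e.le (mem_sup_left ⟨commutator_le_left N _ hx, commutator_mono hND le_rfl hx⟩)).2
    · exact e
  obtain ⟨b, hb, hbD⟩ := c.exists_notMem_D
  obtain ⟨u, hu, hne'⟩ := c.quad_ne hb hbD
  obtain ⟨m, hm, a, ha, rfl⟩ := mem_sup_of_normal_left.1 (hsup.ge hu)
  set w := ⁅b, ⁅b, m⁆⁆
  have hc1 := c.setup.quad c.small hb ha.2
  have hw : ⁅b, ⁅b, m * a⁆⁆ = w := by
    rw [show ⁅b, m * a⁆ = ⁅b, m⁆ * (m * ⁅b, a⁆ * m⁻¹) by simp only [commutatorElement_def]; group,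
      ← c.comm_V hc1.1 (c.uExc_le_D hm.2), mul_inv_cancel_right,
      show ⁅b, ⁅b, m⁆ * ⁅b, a⁆⁆ = w * (⁅b, m⁆ * ⁅b, ⁅b, a⁆⁆ * ⁅b, m⁆⁻¹) by
        simp only [w, commutatorElement_def]; group,
      show ⁅b, ⁅b, a⁆⁆ = 1 from commutatorElement_eq_one_iff_mul_comm.2
        (mem_centralizer_iff.1 hc1.2 b hb), mul_one, mul_inv_cancel, mul_one]
  rw [hw] at hne'
  have hwA : w ∈ U₀ ⊓ V := c.two_steps hb hb hm.2
  have hwN : w ∈ N := by
    have h1 : ∀ {y : G}, y ∈ N → ⁅b, y⁆ ∈ N := fun hy => by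
      rw [commutatorElement_def]; exact mul_mem (hN.conj_mem _ hy b) (inv_mem hy)
    exact h1 (h1 hm.1)
  rcases c.setup.eq_fixG_or_eq c.small (N := (N ⊓ V) ⊔ fixG V) le_sup_right
    (sup_le inf_le_right inf_le_left) with e | e
  · exact absurd (c.uExc_inf_resFix.le ⟨hwA.1, c.setup.fixG_le_resFix c.small c.shape
      (e.le (mem_sup_left ⟨hwN, hwA.2⟩))⟩) hne'
  · exact ((commutator_le_left V _).trans e.ge).trans
      (sup_le (inf_le_left.trans le_sup_left)
        ((c.setup.fixG_le_resFix c.small c.shape).trans le_sup_right))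

theorem exceptional : Exceptional p S D V F n := by
  haveI := c.charF
  haveI := c.normalV
  haveI := c.normalU0
  obtain ⟨ρ, φ, ht⟩ := c.exists_top
  obtain ⟨ρ', φ', hb⟩ := c.exists_bot
  refine ⟨c.p_eq_three, c.uExc_residual, c.core_eq, c.omega_eq.trans c.middle_eq, ?_, c.cent_eq,
    c.frat_eq, c.card_zExc, ?_, ?_, ?_, fun N hN h1 h2 => c.cover_eq hN h1 h2⟩
  · rw [c.omega_eq]; exact c.fixed_eq
  · rw [c.omega_eq]; exact ht.acts c.normalU0 inf_le_left
  · rw [c.omega_eq]; exact hb.acts inferInstance c.zExc_le_middle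
  · rw [c.omega_eq]; exact fun b hb => c.quad_final hb

end ExcCtx

theorem exists_exceptional {S D V U Q X : Subgroup G} {ψ : G →* PSLtwo F}
    (s : RankOnePush.Setup p S D n ψ) (hDeq : D = Cfsg.pCore p G) (hcent : centralizer (D : Set G) ≤ D)
    (m : SmallModule p S D n V) (hV : V = normalClosure (omegaZ p S : Set G))
    (h : Shape p (p ^ n) ⊤ S D V U Q X) (halt : ¬ (U = V ∧ Q = D))
    (hd : ∀ Y : Subgroup G, Y ≤ S → Y.Normal → (Y.subgroupOf S).Characteristic → Y = ⊥) :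
    Exceptional p S D V F n :=
  ExcCtx.exceptional (⟨s, m, h, hDeq, hcent, hV, halt, hd⟩ : ExcCtx p S D V U Q X n ψ)

end Cfsg.Agent.Lib.MinPush94
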