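import Cfsg.Agent.Lib.MinPush94.Small
import Cfsg.Agent.Lib.BTBlock.Subn.Final

/-!
# The block structure from a split family
-/

set_option autoImplicit false
set_option linter.unusedSectionVars false

namespace Cfsg.Agent.Lib.MinPush94

open Subgroup SL2Recog FFMin FFComp
open Cfsg.Agent.Lib Cfsg.Agent.Lib.FocalChar
open scoped commutatorElement

universe u

variable {G : Type u} [Group G] [Finite G] {p : ℕ} [Fact p.Prime] {T M V : Subgroup G}
  {H W : Type u} [Group H] [Finite H] [AddCommGroup W] [Finite W] [DistribMulAction H W]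
  [FaithfulSMul H W] {f : G →* H} {j : W → G} {Wz Kc : Subgroup G} {TH : Sylow p H}

/-- The alternatives in the definition of a block. -/
def BlockKind (p : ℕ) (T E : Subgroup G) : Prop :=
    ((∃ (F : Type) (_ : Field F) (_ : Fintype F) (n : ℕ), Fintype.card F = p ^ n ∧
        Nonempty (↥E ⧸ Cfsg.pCore p ↥E ≃* ↥(commutator (Matrix.SpecialLinearGroup (Fin 2) F))) ∧
        Cfsg.ActsAsSL2OnSection F (commutator (Matrix.SpecialLinearGroup (Fin 2) F)) E
          (Cfsg.omegaOneCenter p (Cfsg.pCoreOf p E))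
          (Cfsg.omegaOneCenter p (Cfsg.pCoreOf p E) ⊓ centralizer (E : Set G)) ∧
        (Cfsg.pCoreOf p E = Cfsg.omegaOneCenter p (Cfsg.pCoreOf p E) ∨
          (p = 3 ∧
            Cfsg.ActsAsSL2OnSection F (commutator (Matrix.SpecialLinearGroup (Fin 2) F)) E
              (Cfsg.pCoreOf p E) (Cfsg.omegaOneCenter p (Cfsg.pCoreOf p E)) ∧
            ⁅Cfsg.pCoreOf p E, Cfsg.pCoreOf p E⁆ =
              Cfsg.omegaOneCenter p (Cfsg.pCoreOf p E) ⊓ centralizer (E : Set G) ∧
            (frattini ↥(Cfsg.pCoreOf p E)).map (Cfsg.pCoreOf p E).subtype =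
              Cfsg.omegaOneCenter p (Cfsg.pCoreOf p E) ⊓ centralizer (E : Set G) ∧
            E ⊓ centralizer (E : Set G) =
              Cfsg.omegaOneCenter p (Cfsg.pCoreOf p E) ⊓ centralizer (E : Set G) ∧
            Nat.card ↥(E ⊓ centralizer (E : Set G)) = 3 ^ n ∧
            ∀ b : G, b ∈ Cfsg.baumannSubgroupOf p T →
              b ∉ centralizer (Cfsg.omegaOneCenter p (Cfsg.pCoreOf p E) : Set G) →
              ¬ ⁅⁅Cfsg.pCoreOf p E, zpowers b⁆, zpowers b⁆ ≤ E ⊓ centralizer (E : Set G)))) ∨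
      (p = 2 ∧ ∃ m : ℕ,
        Nonempty (↥E ⧸ Cfsg.pCore p ↥E ≃* ↥(alternatingGroup (Fin (2 * m + 1)))) ∧
        Cfsg.ActsAsOddPermModuleOnSection (2 * m + 1) (alternatingGroup (Fin (2 * m + 1))) E
          (Cfsg.omegaOneCenter p (Cfsg.pCoreOf p E))
          (Cfsg.omegaOneCenter p (Cfsg.pCoreOf p E) ⊓ centralizer (E : Set G)) ∧
        Cfsg.pCoreOf p E = Cfsg.omegaOneCenter p (Cfsg.pCoreOf p E)))

/-- The alternatives in the block structure. -/
def BlockCut (p : ℕ) (T C E : Subgroup G) : Prop :=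
      (∃ (F : Type) (_ : Field F) (_ : Fintype F) (m : ℕ), 3 < p ^ m ∧ Fintype.card F = p ^ m ∧
          Nonempty (↥E ⧸ Cfsg.pCore p ↥E ≃* Matrix.SpecialLinearGroup (Fin 2) F) ∧
          C ⊓ E = E ⊓ normalizer ((T ⊓ E : Subgroup G) : Set G)) ∨
      (p = 2 ∧ ∃ m : ℕ, Nonempty (↥E ⧸ Cfsg.pCore p ↥E ≃* ↥(alternatingGroup (Fin (2 * m + 1)))) ∧
          Nonempty (↥(((C ⊓ E).subgroupOf E).map (QuotientGroup.mk' (Cfsg.pCore p ↥E))) ≃*
            ↥(alternatingGroup (Fin (2 * m))))) ∨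
      (p = 3 ∧ Nonempty (↥E ⧸ Cfsg.pCore p ↥E ≃* ↥(commutator (Matrix.SpecialLinearGroup (Fin 2) (ZMod 3)))) ∧
          ((C ⊓ E).subgroupOf E).map (QuotientGroup.mk' (Cfsg.pCore p ↥E)) =
            center (↥E ⧸ Cfsg.pCore p ↥E))

/-- What a member of a split family has to satisfy. -/
structure BlockAt (p : ℕ) (T M : Subgroup G) (f : G →* H) (W : Type u) [AddCommGroup W]
    [DistribMulAction H W] (TH : Subgroup H) (E : Subgroup H) : Prop where
  mem : ∃ D ∈ members p W TH, D ≤ E ∧ E ≤ (blk p f E).map f ⊔ D ∧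
    ∀ K : Subgroup H, K ≤ E → E ≤ normalizer (K : Set H) → D ≤ K → E ≤ K
  comm : ⁅Cfsg.pCoreOf p (blk p f E), blk p f E⁆ = Cfsg.pCoreOf p (blk p f E)
  coreQ : Cfsg.pCoreOf p (blk p f E) = blk p f E ⊓ Cfsg.pCore p G
  nontriv : Cfsg.pCoreOf p (blk p f E) ≠ ⊥
  kind : BlockKind p T (blk p f E)
  proj : ∀ e ∈ E, ∀ r : H, (∀ a ∈ E, a * r = r * a) → e * r ∈ M.map f → e ∈ M.map f
  inC : blk p f E ⊓ M ≤ Cfsg.cStarOf p T
  cut : BlockCut p T M (blk p f E)
  num : ∀ m : ℕ, Nonempty (↥(blk p f E) ⧸ Cfsg.pCore p ↥(blk p f E) ≃* ↥(alternatingGroup (Fin (2 * m + 1)))) →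
    ∃ n : ℕ, 2 * m + 1 = 2 ^ n + 1

theorem pResidualOf_blk (E : Subgroup H) : Cfsg.pResidualOf p (blk p f E) = blk p f E :=
  le_antisymm (map_subtype_le _) (blk_le fun x hx hxE =>
    ⟨⟨x, mem_blk_of_coprime hx hxE⟩, Subgroup.subset_closure
      (show (orderOf (⟨x, mem_blk_of_coprime hx hxE⟩ : ↥(blk p f E))).Coprime p by rwa [orderOf_mk]), rfl⟩)

theorem le_normalizer_blk (E : Subgroup H) {K : Subgroup G} (h : K.map f ≤ normalizer (E : Set H)) :
    K ≤ normalizer (blk p f E : Set G) := fun g hg => by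
  refine mem_normalizer_iff_map_conj_eq.2 ?_
  have h1 := blk_conj (p := p) (f := f) g E
  rw [show cnj (f g) E = E from mem_normalizer_iff_map_conj_eq.1 (h (mem_map_of_mem f hg))] at h1
  exact h1

theorem Env.omegaT_le (ev : Env p T M V Wz Kc f j) : Cfsg.omegaOneCenter p T ≤ Wz :=
  ev.model.omegaOneCenter_le_zMax.trans (ev.m2.W_eq ▸ le_sup_right)

theorem T_le_centralizer : T ≤ centralizer (Cfsg.omegaOneCenter p T : Set G) :=
  le_centralizer_iff.1 ((BTBlock.omegaOneCenter_props p T).2.1)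

theorem Env.blk_ne_centralizes (ev : Env p T M V Wz Kc f j) {ι : Type*} {E : ι → Subgroup H}
    (hs : Split W (TH : Subgroup H) E) (hTH : (TH : Subgroup H) = T.map f)
    (htop : (⨆ k, blk p f (E k)) ⊔ T = ⊤) (i : ι) :
    ⁅blk p f (E i), Cfsg.omegaOneCenter p T⁆ ≠ ⊥ := by
  intro h0
  refine ev.model.hyp0.nz ?_
  set Z := Cfsg.omegaOneCenter p T
  have hTZ : T ≤ centralizer (Z : Set G) := T_le_centralizer
  have hall : ∀ k, blk p f (E k) ≤ centralizer (Z : Set G) := by
    intro k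
    obtain ⟨t, ht, hte⟩ := hs.conj i k
    obtain ⟨g, hg, rfl⟩ := hTH ▸ ht
    rw [← hte, ← blk_conj g (E i)]
    rintro _ ⟨x, hx, rfl⟩
    have hxc : x ∈ centralizer (Z : Set G) := mem_centralizer_iff.2 fun z hz => by
      have h1 : ⁅x, z⁆ ∈ (⊥ : Subgroup G) := h0 ▸ commutator_mem_commutator hx hz
      exact (commutatorElement_eq_one_iff_mul_comm.1 (mem_bot.1 h1)).symm
    exact mul_mem (mul_mem (hTZ hg) hxc) (inv_mem (hTZ hg))
  have hc : centralizer (Z : Set G) = ⊤ := top_le_iff.1 (htop.ge.trans (sup_le (iSup_le hall) hTZ))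
  exact ⟨fun z hz g => by
    rw [show g * z * g⁻¹ = z by
      rw [← mem_centralizer_iff.1 (hc ▸ mem_top g) z hz, mul_inv_cancel_right]]
    exact hz⟩

/-- **The block structure of a split family.** -/
theorem Env.structure_of_family (ev : Env p T M V Wz Kc f j) (hTH : (TH : Subgroup H) = T.map f)
    {ι : Type u} [Finite ι] [Nonempty ι] {E : ι → Subgroup H} (hs : Split W (TH : Subgroup H) E)
    (hmemP : ∀ D ∈ members p W (TH : Subgroup H), D ≤ ⨆ i, E i)
    (hat : ∀ i, BlockAt p T M f W (TH : Subgroup H) (E i)) :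
    ∃ 𝓑 : Set (Subgroup G), Cfsg.HasBaumannBlockStructure p T 𝓑 ∧
      (∀ R ∈ 𝓑, ∀ m : ℕ,
        Nonempty (↥R ⧸ Cfsg.pCore p ↥R ≃* ↥(alternatingGroup (Fin (2 * m + 1)))) →
        ∃ n : ℕ, 2 * m + 1 = 2 ^ n + 1) ∧
      Cfsg.cStarOf p T = (Cfsg.cStarOf p T ⊓ sSup 𝓑) ⊔ T := by
  classical
  set R : ι → Subgroup G := fun i => blk p f (E i) with hR
  set Q := Cfsg.pCore p G with hQdef
  set B := bMax p T with hB
  haveI : Q.Normal := pCore_normal
  obtain ⟨P, hP⟩ := ev.model.hyp0.sylow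
  have hQT : Q ≤ T := ev.model.hyp0.pre.core_le
  have himg : B.map f = memSup p W (TH : Subgroup H) := ev.model.image_bMax hTH
  have hEn : ∀ i k, E k ≤ normalizer (E i : Set H) := fun i k => by
    rcases eq_or_ne i k with rfl | h
    · exact le_normalizer
    · exact fun x hx => centralizer_le_normalizer _
        (mem_centralizer_iff.2 fun y hy => hs.comm h y hy x hx)
  have hPn : ∀ i, B.map f ≤ normalizer (E i : Set H) := fun i =>
    himg.le.trans (sSup_le fun D hD => (hmemP D hD).trans (iSup_le (hEn i)))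
  have hEgen : ∀ i, E i ≤ (R i).map f ⊔ (TH : Subgroup H) := fun i => by
    obtain ⟨D, hD, -, h, -⟩ := (hat i).mem
    exact h.trans (sup_le_sup_left hD.2 _)
  -- together with `T` the blocks generate
  set N0 := ⨆ i, R i with hN0
  have htop : N0 ⊔ T = ⊤ := by
    refine top_le_iff.1 fun g _ => ?_
    have h1 : (⨆ i, E i) ⊔ (TH : Subgroup H) ≤ (N0 ⊔ T).map f := by
      refine sup_le (iSup_le fun i => (hEgen i).trans (sup_le (map_mono ?_) ?_)) ?_
      · exact (le_iSup R i).trans le_sup_left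
      all_goals exact hTH.le.trans (map_mono le_sup_right)
    obtain ⟨y, hy, hye⟩ := h1 (hs.top.ge (mem_top (f g)))
    have hq : y⁻¹ * g ∈ Q := by
      rw [hQdef, ← ev.ker, MonoidHom.mem_ker, map_mul, map_inv, hye, inv_mul_cancel]
    simpa using mul_mem hy (mem_sup_right (hQT hq) : y⁻¹ * g ∈ N0 ⊔ T)
  -- conjugation permutes the family
  have hperm : ∀ (h : H) (i : ι), ∃ k, cnj h (E i) = E k := by
    intro h
    have hcard : ∀ i k, Nat.card (E i) = Nat.card (E k) := fun i k => by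
      obtain ⟨t, -, ht⟩ := hs.conj i k
      rw [← ht, card_cnj]
    let S : Subgroup H :=
      { carrier := {h | (∀ i, ∃ k, cnj h (E i) = E k) ∧ ∀ i, ∃ k, cnj h⁻¹ (E i) = E k}
        one_mem' := ⟨fun i => ⟨i, cnj_one _⟩, fun i => ⟨i, by rw [inv_one, cnj_one]⟩⟩
        mul_mem' := fun {a b} ha hb => ⟨fun i => by
          obtain ⟨k, hk⟩ := hb.1 i
          obtain ⟨l, hl⟩ := ha.1 k
          exact ⟨l, by rw [← cnj_cnj, hk, hl]⟩, fun i => by
          obtain ⟨k, hk⟩ := ha.2 i
          obtain ⟨l, hl⟩ := hb.2 k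
          exact ⟨l, by rw [mul_inv_rev, ← cnj_cnj, hk, hl]⟩⟩
        inv_mem' := fun {a} ha => ⟨ha.2, by rw [inv_inv]; exact ha.1⟩ }
    have hT' : ∀ t ∈ (TH : Subgroup H), ∀ i, ∃ k, cnj t (E i) = E k := fun t ht i => by
      obtain ⟨k, hk⟩ := hs.perm t ht i
      exact ⟨k, Subgroup.eq_of_le_of_card_ge hk (by rw [card_cnj, hcard i k])⟩
    have hE' : ∀ i, ∀ x ∈ E i, ∀ k, cnj x (E k) = E k := fun i x hx k =>
      mem_normalizer_iff_map_conj_eq.1 (hEn k i hx)
    have hle : ⊤ ≤ S := hs.top.ge.trans (sup_le (iSup_le fun i x hx =>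
      ⟨fun k => ⟨k, hE' i x hx k⟩, fun k => ⟨k, hE' i _ (inv_mem hx) k⟩⟩)
      fun t ht => ⟨hT' t ht, hT' _ (inv_mem ht)⟩)
    exact (hle (mem_top h)).1
  have hconj : ∀ (g : G) (i : ι), ∃ k, (R i).map (MulAut.conj g).toMonoidHom = R k := fun g i => by
    obtain ⟨k, hk⟩ := hperm (f g) i
    exact ⟨k, by rw [hR]; simp only; rw [blk_conj, hk]⟩
  have hNn : N0.Normal := ⟨fun x hx g => by
    have h1 : N0.map (MulAut.conj g).toMonoidHom ≤ N0 := by
      rw [hN0, Subgroup.map_iSup]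
      exact iSup_le fun i => by obtain ⟨k, hk⟩ := hconj g i; exact hk.le.trans (le_iSup R k)
    exact h1 ⟨x, hx, rfl⟩⟩
  have hRn : ∀ i k, R k ≤ normalizer (R i : Set G) := fun i k =>
    le_normalizer_blk _ (((map_mono (blk_le_comap _)).trans (map_comap_le _ _)).trans (hEn i k))
  have hBn : ∀ i, B ≤ normalizer (R i : Set G) := fun i => le_normalizer_blk _ (hPn i)
  have hTp : IsPGroup p T := ev.model.hyp0.pgroup
  -- every member is a block
  have hblock : ∀ i, Cfsg.IsBaumannBlock p T (R i) := by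
    intro i
    refine ⟨pResidualOf_blk _, ?_, (hat i).comm, ev.blk_ne_centralizes hs hTH htop i, (hat i).kind⟩
    rw [baumann_eq]
    set X := ⁅R i, B⁆ with hX
    have hXR : X ≤ R i := Subgroup.commutator_le.2 fun r hr b hb => by
      rw [show ⁅r, b⁆ = r * (b * r⁻¹ * b⁻¹) by simp only [commutatorElement_def]; group]
      exact mul_mem hr ((mem_normalizer_iff.1 (hBn i hb) _).1 (inv_mem hr))
    have hBX : B ≤ normalizer (X : Set G) := BTBlock.le_normalizer_commutator_right _ _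
    have hRX : R i ≤ normalizer (X : Set G) := by
      rw [hX, commutator_comm]; exact BTBlock.le_normalizer_commutator_right _ _
    refine le_antisymm hXR ?_
    obtain ⟨D, hD, hDE, hgen, hnc⟩ := (hat i).mem
    have hDB : D ≤ B.map f := himg.ge.trans' (le_sSup hD)
    -- the image is everything
    set K := X.map f ⊔ D with hK
    have hXE : X.map f ≤ E i := (map_mono hXR).trans ((map_mono (blk_le_comap _)).trans (map_comap_le _ _))
    have hDn : D ≤ normalizer ((X.map f : Subgroup H) : Set H) :=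
      hDB.trans ((map_mono hBX).trans (Subgroup.le_normalizer_map f))
    have hKn : E i ≤ normalizer (K : Set H) := by
      refine hgen.trans (sup_le ?_ (le_sup_right.trans le_normalizer))
      rintro _ ⟨r, hr, rfl⟩
      refine mem_normalizer_iff_map_conj_eq.2 (Subgroup.eq_of_le_of_card_ge ?_
        (card_map_of_injective (MulAut.conj (f r)).injective).ge)
      rw [map_le_iff_le_comap]
      refine sup_le ?_ fun d hd => ?_
      · rintro _ ⟨x, hx, rfl⟩
        refine mem_sup_left ⟨r * x * r⁻¹, (mem_normalizer_iff.1 (hRX hr) x).1 hx, ?_⟩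
        simp
      · obtain ⟨b, hb, rfl⟩ := hDB hd
        show f r * f b * (f r)⁻¹ ∈ K
        rw [show f r * f b * (f r)⁻¹ = f ⁅r, b⁆ * f b by
          rw [← map_inv, ← map_mul, ← map_mul, ← map_mul, commutatorElement_def]; congr 1; group]
        exact mul_mem (mem_sup_left (mem_map_of_mem f (commutator_mem_commutator hr hb)))
          (mem_sup_right hd)
    have hEK : E i ≤ K := hnc K (sup_le hXE hDE) hKn le_sup_right
    refine blk_le fun x hxo hxE => ?_
    have h1 : f x ∈ X.map f := BTBlock.mem_of_coprime_of_sup hD.1.elem.isPGroup hDn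
      (sup_comm (X.map f) D ▸ hEK hxE) (hxo.coprime_dvd_left (orderOf_map_dvd f x))
    obtain ⟨y, hy, hye⟩ := h1
    have hq : y⁻¹ * x ∈ R i ⊓ Q := ⟨(R i).mul_mem ((R i).inv_mem (hXR hy)) (mem_blk_of_coprime hxo hxE), by
      rw [hQdef, ← ev.ker]; show f (y⁻¹ * x) = 1; rw [map_mul, map_inv, hye, inv_mul_cancel]⟩
    refine BTBlock.mem_of_coprime_of_sup ((PSolvable.pCore_isPGroup (G := G) (p := p)).to_le inf_le_right)
      (inf_le_left.trans hRX) ?_ hxo
    simpa using mul_mem (mem_sup_right hy : y ∈ (R i ⊓ Q) ⊔ X) (mem_sup_left hq)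
  have hnt : ∀ i, ¬ R i ≤ centralizer (R i : Set G) := fun i h => (hat i).nontriv (by
    rw [← (hat i).comm, commutator_eq_bot_iff_le_centralizer]
    exact (map_subtype_le _).trans h)
  have hsn : ∀ i, (R i).IsSubnormal := fun i => by
    refine .step (R i) N0 (le_iSup R i) hNn.isSubnormal ?_
    exact normal_subgroupOf_of_le_normalizer (iSup_le fun k => hRn i k)
  have hblockP : ∀ i, Cfsg.IsBaumannBlock p (P : Subgroup G) (R i) := fun i => hP.symm ▸ hblock i
  have hcommR : ∀ i k, R i ≠ R k → ⁅R i, R k⁆ = ⊥ := by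
    intro i k hne
    have hik : i ≠ k := fun h => hne (h ▸ rfl)
    rcases BTBlock.Subn.le_or_commute ev.model.hyp0.cent (hsn k) (hblockP k) (hblockP i) (hRn k i) with h | h
    · exfalso
      have h1 : (R i).map f ≤ E i ⊓ (⨆ l ∈ {l | l ≠ i}, E l) := le_inf
        ((map_mono (blk_le_comap _)).trans (map_comap_le _ _))
        (((map_mono (h.trans (blk_le_comap _))).trans (map_comap_le _ _)).trans
          (le_iSup₂ (f := fun l (_ : l ∈ {l | l ≠ i}) => E l) k hik.symm))
      rw [hs.inf_eq_bot] at h1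
      refine (hat i).nontriv ?_
      have h2 : R i ≤ Q := by rw [hQdef, ← ev.ker]; exact (Subgroup.map_eq_bot_iff _).1 (le_bot_iff.1 h1)
      have h3 : R i = ⊥ := by
        refine le_bot_iff.1 (blk_le fun x hx hxE => mem_bot.2 ?_)
        obtain ⟨a, ha⟩ := (IsPGroup.iff_orderOf.1 (PSolvable.pCore_isPGroup (G := G) (p := p)))
          ⟨x, h2 (mem_blk_of_coprime hx hxE)⟩
        rw [orderOf_mk] at ha
        exact orderOf_eq_one_iff.1 (Nat.eq_one_of_dvd_coprimes (hx.pow_right a) dvd_rfl (ha ▸ dvd_rfl))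
      exact le_bot_iff.1 ((map_subtype_le _).trans h3.le)
    · exact h
  -- the intersection with `M`
  have hdecM : ∀ (s : Finset ι), ∀ x ∈ ⨆ i ∈ s, R i, x ∈ M → x ∈ ⨆ i, (R i ⊓ M) := by
    intro s
    induction s using Finset.induction_on with
    | empty => intro x hx _; simp only [Finset.notMem_empty, iSup_false, iSup_bot, mem_bot] at hx
               rw [hx]; exact one_mem _
    | @insert i s his ih =>
      intro x hx hxM
      rw [Finset.iSup_insert, sup_comm] at hx
      have hn : (⨆ k ∈ s, R k) ≤ normalizer (R i : Set G) := iSup₂_le fun k _ => hRn i k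
      obtain ⟨r', hr', r, hr, rfl⟩ : ∃ a ∈ (⨆ k ∈ s, R k), ∃ b ∈ R i, b * a = x := by
        open scoped Pointwise in
        have h1 : x ∈ (R i : Set G) * ((⨆ k ∈ s, R k : Subgroup G) : Set G) := by
          rw [← coe_mul_of_right_le_normalizer_left _ _ hn, sup_comm]; exact hx
        obtain ⟨b, hb, a, ha, he⟩ := Set.mem_mul.1 h1
        exact ⟨a, ha, b, hb, he⟩
      have hfr : f r ∈ M.map f := by
        refine (hat i).proj _ (blk_le_comap _ hr) (f r') (fun a ha => ?_) (map_mul f r r' ▸ mem_map_of_mem f hxM)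
        have hle : (⨆ k ∈ s, R k).map f ≤ centralizer ({a} : Set H) := by
          rw [map_le_iff_le_comap]
          refine iSup₂_le fun k hk y hy => ?_
          exact mem_centralizer_singleton_iff.2
            (hs.comm (fun h => his (h ▸ hk) : i ≠ k) a ha (f y) (blk_le_comap _ hy)).symm
        exact (mem_centralizer_singleton_iff.1 (hle (mem_map_of_mem f hr'))).symm
      have hrM : r ∈ M := ev.model.mem_M hfr
      refine mul_mem (mem_iSup_of_mem i ⟨hr, hrM⟩) (ih r' hr' ?_)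
      simpa using mul_mem (inv_mem hrM) hxM
  have hMN : N0 ⊓ M ≤ ⨆ i, (R i ⊓ M) := fun x hx => by
    have : Fintype ι := Fintype.ofFinite ι
    refine hdecM Finset.univ x ?_ hx.2
    simpa using hx.1
  -- `C*` is the maximal subgroup
  set C : Subgroup G := Cfsg.cStarOf p T with hC
  have hTC : T ≤ C := T_le_centralizer.trans le_sup_left
  have hCM : C ≤ M := by
    refine sup_le ?_ (iSup_le fun X => ?_)
    · refine ev.model.hyp0.max _ T_le_centralizer fun h => ev.model.hyp0.nz ⟨fun z hz g => ?_⟩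
      rw [show g * z * g⁻¹ = z by
        rw [← mem_centralizer_iff.1 (h ▸ mem_top g) z hz, mul_inv_cancel_right]]
      exact hz
    · obtain ⟨X, h1, h2, h3⟩ := X
      rw [baumann_eq] at h1 h3
      exact ev.model.hyp0.normalizer_char_le h1 h2 h3
  have hMC : M ≤ C := by
    intro x hx
    have hn : T ≤ normalizer (N0 : Set G) := by rw [normalizer_eq_top_iff.2 hNn]; exact le_top
    obtain ⟨n, hn', t, ht, rfl⟩ : ∃ n ∈ N0, ∃ t ∈ T, n * t = x :=
      mem_sup_of_normal_left.1 (htop.ge (mem_top x))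
    refine mul_mem ?_ (hTC ht)
    have hnM : n ∈ M := by simpa using mul_mem hx (inv_mem (ev.model.hyp0.le ht))
    exact (iSup_le fun i => (hat i).inC) (hMN ⟨hn', hnM⟩)
  have hCeq : C = M := le_antisymm hCM hMC
  have hsSup : sSup (Set.range R) = N0 := sSup_range
  refine ⟨Set.range R, ⟨?_, ?_, ?_, ?_, ?_, ?_, ?_⟩, ?_, ?_⟩
  · rintro _ ⟨i, rfl⟩; exact hblock i
  · rintro _ ⟨i, rfl⟩ g
    obtain ⟨k, hk⟩ := hconj g i
    exact ⟨k, hk.symm⟩
  · rintro _ ⟨i, rfl⟩ _ ⟨k, rfl⟩ hne
    exact hcommR i k hne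
  · rw [hsSup]
    exact top_le_iff.1 (htop.ge.trans (sup_le le_sup_right (hTC.trans le_sup_left)))
  · intro F hF hFC
    by_contra hno
    push Not at hno
    refine hFC ?_
    have hFn : ∀ k, F ≤ normalizer (R k : Set G) := fun k => by
      have h1 := BTBlock.Subn.baumannSubgroup_le_normalizer ev.model.hyp0.cent
        (⟨P, hblockP k⟩ : BTBlock.Sub.IsBlock p (R k)) (hsn k)
      refine le_trans ?_ h1
      rw [← hF.2.1, Subgroup.commutator_le]
      intro x _ b hb
      have hle : Cfsg.baumannSubgroupOf p T ≤ Cfsg.baumannSubgroup p G :=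
        hP ▸ le_iSup (fun S : Sylow p G => Cfsg.baumannSubgroupOf p (S : Subgroup G)) P
      haveI := BTBlock.Subn.baumannSubgroup_normal (G := G) (p := p)
      rw [commutatorElement_def]
      exact mul_mem ((inferInstance : (Cfsg.baumannSubgroup p G).Normal).conj_mem b (hle hb) x) (inv_mem (hle hb))
    have hFc : F ≤ centralizer (N0 : Set G) := by
      rw [le_centralizer_iff]
      refine iSup_le fun k => ?_
      rcases BTBlock.Subn.le_or_commute ev.model.hyp0.cent (hsn k) (hblockP k) (hP.symm ▸ hF) (hFn k) with h | h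
      · exact absurd h (hno _ ⟨k, rfl⟩)
      · rw [le_centralizer_iff]
        exact commutator_eq_bot_iff_le_centralizer.1 h
    refine hFc.trans ?_
    rw [show Cfsg.cStarOf p T = M from hCeq]
    haveI := hNn
    intro x hx
    by_contra hxM
    obtain ⟨i⟩ := (inferInstance : Nonempty ι)
    refine hnt i (blk_le fun y hy hyE => ?_)
    exact centralizer_le (le_iSup R i) (ev.model.coprime_mem_of_normal inferInstance hx hxM hy)
  · rw [hsSup]
    refine le_antisymm ?_ (iSup₂_le ?_)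
    · rw [show Cfsg.cStarOf p T = M from hCeq]
      intro x hx
      have hle : (⨆ i, (R i ⊓ M)) ≤ ⨆ X ∈ Set.range R, M ⊓ X := iSup_le fun i =>
        le_iSup₂_of_le (R i) ⟨i, rfl⟩ (le_inf inf_le_right inf_le_left)
      exact hle (hMN ⟨hx.2, hx.1⟩)
    · rintro _ ⟨i, rfl⟩
      exact inf_le_inf_left C (le_iSup R i)
  · rintro _ ⟨i, rfl⟩
    rw [show Cfsg.cStarOf p T = M from hCeq]
    exact (hat i).cut
  · rintro _ ⟨i, rfl⟩ m hm
    exact (hat i).num m hm
  · rw [hsSup]
    refine le_antisymm ?_ (sup_le inf_le_left hTC)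
    intro x hx
    obtain ⟨n, hn', t, ht, rfl⟩ : ∃ n ∈ N0, ∃ t ∈ T, n * t = x :=
      mem_sup_of_normal_left.1 (htop.ge (mem_top x))
    refine mul_mem (mem_sup_left ⟨?_, hn'⟩) (mem_sup_right ht)
    simpa using mul_mem hx (inv_mem (hTC ht))

end Cfsg.Agent.Lib.MinPush94
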