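import Cfsg.Agent.Lib.RankOnePush.Resfix
import Cfsg.Agent.Lib.RankOnePush.ShapeBridge

/-!
# An image of the small module outside `D`
-/

set_option autoImplicit false
set_option linter.unusedSectionVars false

namespace Cfsg.Agent.Lib.MinPush94

open Subgroup
open Cfsg.Agent.Lib Cfsg.Agent.Lib.RankOnePush
open Cfsg.Agent.Lib.SL2 (PSLtwo)
open scoped commutatorElement

variable {G : Type*} [Group G] [Finite G] {p : ℕ} [hp : Fact p.Prime] {F : Type} [Field F] [Fintype F]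
  {n : ℕ} {S D V : Subgroup G} {ψ : G →* PSLtwo F}

/-- When the residual moves `D` into `V`, some automorphism of `S` throws `V` out of `D`; the image
is elementary abelian, covers `S / D` and its commutators with `S` lie in `[V, S]`. -/
theorem exists_twist (s : RankOnePush.Setup p S D n ψ) (m : SmallModule p S D n V)
    (hR : ∀ g ∈ Cfsg.pResidual p G, ∀ u ∈ D, ⁅g, u⁆ ∈ V) (hV : V ≠ ⊥)
    (hd : ∀ X : Subgroup G, X ≤ S → X.Normal → (X.subgroupOf S).Characteristic → X = ⊥) :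
    ∃ Y : Subgroup G, Y ≤ S ∧ Y ⊔ D = S ∧ (∀ y ∈ Y, y ^ p = 1) ∧
      (∀ a ∈ Y, ∀ b ∈ Y, a * b = b * a) ∧ ∀ y ∈ Y, ∀ x ∈ S, ⁅y, x⁆ ∈ ⁅V, S⁆ := by
  classical
  haveI := s.normalD
  set D' := D.subgroupOf S with hD'
  set V' := V.subgroupOf S with hV'
  have hVS : V ≤ S := m.le.trans s.le_S
  -- some image of `V` leaves `D`
  obtain ⟨σ, hσ⟩ : ∃ σ : ↥S ≃* ↥S, ¬ V'.map σ.toMonoidHom ≤ D' := by
    by_contra hno
    push Not at hno
    set N : Subgroup ↥S := ⨆ σ : ↥S ≃* ↥S, V'.map σ.toMonoidHom with hN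
    have hND : N ≤ D' := iSup_le hno
    have hNc : N.Characteristic := by
      refine characteristic_iff_map_le.2 fun φ => ?_
      rw [hN, Subgroup.map_iSup]
      refine iSup_le fun σ => ?_
      rw [map_map]
      exact le_iSup (fun τ : ↥S ≃* ↥S => V'.map τ.toMonoidHom) (σ.trans φ)
    set X := N.map S.subtype with hX
    have hXS : X ≤ S := map_subtype_le N
    have hVX : V ≤ X := fun v hv =>
      ⟨⟨v, hVS hv⟩, le_iSup (fun τ : ↥S ≃* ↥S => V'.map τ.toMonoidHom) (MulEquiv.refl _)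
        ⟨⟨v, hVS hv⟩, hv, rfl⟩, rfl⟩
    have hXn : X.Normal := by
      obtain ⟨P, hP⟩ := s.sylow
      rw [← normalizer_eq_top_iff, ← top_le_iff, ← residual_sup_sylow P, hP]
      refine sup_le (fun g hg => ?_) ?_
      · refine mem_normalizer_iff_map_conj_eq.2 (Subgroup.eq_of_le_of_card_ge ?_
          (card_map_of_injective (MulAut.conj g).injective).ge)
        rintro _ ⟨x, hx, rfl⟩
        obtain ⟨x', hx', rfl⟩ := hx
        show g * (x' : G) * g⁻¹ ∈ X
        rw [show g * (x' : G) * g⁻¹ = ⁅g, (x' : G)⁆ * x' by rw [commutatorElement_def]; group]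
        exact mul_mem (hVX (hR g hg x' (hND hx'))) ⟨x', hx', rfl⟩
      · exact (le_normalizer (H := S)).trans
          (Coprime.normalizer_le_normalizer_map_of_characteristic N)
    refine hV (le_bot_iff.1 ((hd X hXS hXn ?_) ▸ hVX))
    rwa [hX, subgroupOf, comap_map_eq_self_of_injective S.subtype_injective]
  set Y' := V'.map σ.toMonoidHom with hY'
  have hpow : ∀ y ∈ Y', y ^ p = 1 := by
    rintro _ ⟨v, hv, rfl⟩
    rw [← map_pow, show v ^ p = 1 from Subtype.ext (by simpa using m.pow v hv), map_one]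
  have hcomm : ∀ a ∈ Y', ∀ b ∈ Y', a * b = b * a := by
    rintro _ ⟨a, ha, rfl⟩ _ ⟨b, hb, rfl⟩
    rw [← map_mul, ← map_mul, show a * b = b * a from Subtype.ext (s.vcomm m ha hb)]
  set Fx := V' ⊓ centralizer ((⊤ : Subgroup ↥S) : Set ↥S) with hFx
  -- an element of `S` outside `D` fixes only the common fixed points
  have hfix : ∀ t : ↥S, t ∉ D' → ∀ v ∈ V', t * v = v * t → v ∈ Fx := fun t ht v hv htv => by
    have h1 := s.fix m t.2 ht hv (congrArg Subtype.val htv)
    exact ⟨hv, mem_centralizer_iff.2 fun x _ => Subtype.ext (mem_centralizer_iff.1 h1.2 x x.2)⟩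
  have hDV : ∀ d ∈ D', ∀ v ∈ V', d * v = v * d := fun d hd' v hv =>
    Subtype.ext (mem_centralizer_iff.1 (m.comm hd') v hv).symm
  obtain ⟨y₀, hy₀Y, hy₀D⟩ := SetLike.not_le_iff_exists.1 hσ
  obtain ⟨v₀, hv₀, hne⟩ : ∃ v ∈ V', y₀ * v ≠ v * y₀ := by
    by_contra hall
    push Not at hall
    refine hy₀D ?_
    have h1 : (y₀ : G) ∈ centralizer (V : Set G) ⊓ S := ⟨mem_centralizer_iff.2 fun v hv =>
      (congrArg Subtype.val (hall ⟨v, hVS hv⟩ hv)).symm, y₀.2⟩
    rwa [s.cent_inf m] at h1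
  have hle : Y' ⊓ D' ≤ Fx.map σ.toMonoidHom := by
    rintro y ⟨hyY, hyD⟩
    obtain ⟨u, hu, rfl⟩ := hyY
    refine mem_map_of_mem _ (hfix (σ.symm v₀) ?_ u hu ?_)
    · intro hD
      obtain ⟨u₀, hu₀, he⟩ := hy₀Y
      refine hne ?_
      rw [← he, show v₀ = σ (σ.symm v₀) from (σ.apply_symm_apply v₀).symm, MulEquiv.coe_toMonoidHom,
        ← map_mul, ← map_mul, hDV _ hD _ hu₀]
    · apply σ.injective
      simp only [map_mul, MulEquiv.apply_symm_apply]
      exact (hDV _ hyD _ hv₀).symm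
  -- so the image covers `S / D`
  obtain ⟨w, hw, hgen⟩ := s.exists_weyl
  have hFV : Fx.relIndex V' = p ^ n := by
    have e : Fx = (fixS V S).subgroupOf S := by
      ext x
      simp only [hFx, mem_inf, mem_subgroupOf, mem_centralizer_iff]
      exact ⟨fun h => ⟨h.1, fun t ht => congrArg Subtype.val (h.2 ⟨t, ht⟩ (mem_top _))⟩,
        fun h => ⟨h.1, fun t _ => Subtype.ext (h.2 t t.2)⟩⟩
    rw [e, relIndex_subgroupOf hVS]
    exact (s.card_facts m hw hgen).2.2
  have hYtop : Y' ⊔ D' = ⊤ := by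
    refine Subgroup.eq_top_of_card_eq _ (le_antisymm (card_le_card_group _) ?_)
    have h1 : p ^ n ≤ (Y' ⊓ D').relIndex Y' := by
      rw [← hFV, ← relIndex_map_map_of_injective Fx V' (f := σ.toMonoidHom) σ.injective]
      exact relIndex_le_of_le_left hle index_ne_zero_of_finite
    have h2 : Nat.card D' * p ^ n = Nat.card ↥S := by
      rw [← s.relIndex_D, hD', Subgroup.relIndex]
      exact card_mul_index _
    rw [inf_relIndex_left] at h1
    calc Nat.card ↥S = Nat.card D' * p ^ n := h2.symm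
      _ ≤ Nat.card D' * D'.relIndex Y' := Nat.mul_le_mul_left _ h1
      _ = Nat.card D' * D'.relIndex (Y' ⊔ D') := by rw [relIndex_sup_right]
      _ = Nat.card ↥(Y' ⊔ D') := by
        rw [← relIndex_bot_left, relIndex_mul_relIndex _ _ _ bot_le le_sup_right, relIndex_bot_left]
  -- commutators
  have hle1 : ⁅V', (⊤ : Subgroup ↥S)⁆ ≤ ⁅Y', (⊤ : Subgroup ↥S)⁆ := by
    refine commutator_le.2 fun v hv x _ => ?_
    obtain ⟨y, hy, d, hd', rfl⟩ := mem_sup_of_normal_right.1 (hYtop ▸ mem_top x)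
    have e : ⁅v, y * d⁆ = ⁅v, y⁆ := by
      rw [show ⁅v, y * d⁆ = ⁅v, y⁆ * (y * ⁅v, d⁆ * y⁻¹) by simp only [commutatorElement_def]; group,
        show ⁅v, d⁆ = 1 from commutatorElement_eq_one_iff_mul_comm.2 (hDV d hd' v hv).symm]
      group
    rw [e, ← commutatorElement_inv]
    exact inv_mem (commutator_mem_commutator hy (mem_top v))
  have hcw : ⁅Y', (⊤ : Subgroup ↥S)⁆ = ⁅V', (⊤ : Subgroup ↥S)⁆ := by
    refine (Subgroup.eq_of_le_of_card_ge hle1 ?_).symm
    rw [hY', show (⊤ : Subgroup ↥S) = (⊤ : Subgroup ↥S).map σ.toMonoidHom from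
      (map_top_of_surjective _ σ.surjective).symm, ← map_commutator,
      card_map_of_injective σ.injective, map_top_of_surjective _ σ.surjective]
  refine ⟨Y'.map S.subtype, map_subtype_le Y', ?_, ?_, ?_, ?_⟩
  · conv_lhs => rw [← map_subgroupOf_eq_of_le s.le_S, ← hD', ← Subgroup.map_sup, hYtop]
    rw [← MonoidHom.range_eq_map, Subgroup.range_subtype]
  · rintro _ ⟨y, hy, rfl⟩
    rw [← map_pow, hpow y hy, map_one]
  · rintro _ ⟨a, ha, rfl⟩ _ ⟨b, hb, rfl⟩
    rw [← map_mul, ← map_mul, hcomm a ha b hb]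
  · rintro _ ⟨y, hy, rfl⟩ x hx
    have h1 : ⁅y, (⟨x, hx⟩ : ↥S)⁆ ∈ ⁅V', (⊤ : Subgroup ↥S)⁆ :=
      hcw ▸ commutator_mem_commutator hy (mem_top _)
    have h2 := mem_map_of_mem S.subtype h1
    rw [map_commutator, map_subgroupOf_eq_of_le hVS, ← MonoidHom.range_eq_map,
      Subgroup.range_subtype, map_commutatorElement] at h2
    exact h2

end Cfsg.Agent.Lib.MinPush94
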