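import Cfsg.Agent.Lib.MinPush94.Rank
import Cfsg.Agent.Lib.MinPush94.Twist

/-!
# Elementary abelian lifts of the members
-/

set_option autoImplicit false
set_option linter.unusedSectionVars false

namespace Cfsg.Agent.Lib.MinPush94

open Subgroup SL2Recog FFMin FFComp
open scoped Pointwise
open Cfsg.Agent.Lib Cfsg.Agent.Lib.FocalChar
open Cfsg.Agent.Lib.SL2 (PSLtwo)
open scoped commutatorElement

universe u

variable {G : Type u} [Group G] [Finite G] {p : ℕ} [Fact p.Prime] {T M V : Subgroup G}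
  {H W : Type u} [Group H] [Finite H] [AddCommGroup W] [Finite W] [DistribMulAction H W]
  [FaithfulSMul H W] {f : G →* H} {j : W → G} {Wz Kc : Subgroup G}
  {TH : Sylow p H} {D X : Subgroup H} {L : Subgroup G}
  {F : Type} [Field F] [Fintype F] {n : ℕ}

/-- The subgroup of `V` belonging to a subgroup of `W`. -/
def jImg (j : W → G) (U : AddSubgroup W) : Subgroup G := closure (j '' (U : Set W))

theorem Model.mem_jImg (c : Model p T M V f j) {U : AddSubgroup W} {x : G} :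
    x ∈ jImg j U ↔ ∃ w ∈ U, j w = x := by
  refine ⟨fun h => ?_, fun ⟨w, hw, e⟩ => subset_closure ⟨w, hw, e⟩⟩
  induction h using closure_induction with
  | mem x hx => exact hx
  | one => exact ⟨0, zero_mem U, c.jzero⟩
  | mul x y _ _ hx hy =>
    obtain ⟨a, ha, rfl⟩ := hx
    obtain ⟨b, hb, rfl⟩ := hy
    exact ⟨a + b, add_mem ha hb, c.jadd a b⟩
  | inv x _ hx =>
    obtain ⟨a, ha, rfl⟩ := hx
    exact ⟨-a, neg_mem ha, c.jneg a⟩

theorem Model.comm_eq (c : Model p T M V f j) (g : G) (w : W) : ⁅g, j w⁆ = j (dev (f g) w) := by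
  rw [c.j_dev, commutatorElement_def]

/-- An elementary abelian lift of the member `D` in `B(T)`. -/
structure Lift (p : ℕ) (T : Subgroup G) (f : G →* H) (j : W → G) (D Os : Subgroup H) (Y : Subgroup G) :
    Prop where
  le : Y ≤ bMax p T
  pow : ∀ y ∈ Y, y ^ p = 1
  comm : ∀ a ∈ Y, ∀ b ∈ Y, a * b = b * a
  img : ∀ y ∈ Y, ∃ d ∈ D, ∃ o ∈ Os, f y = d * o
  cover : ∀ b ∈ bMax p T, ∃ y ∈ Y, ∃ e ∈ bMax p T, f e ∈ Os ∧ y * e = b
  commB : ∀ y ∈ Y, ∀ x ∈ bMax p T, ⁅y, x⁆ ∈ jImg j (devSpan W D)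

/-- The part of `L` over the other members lies in the core of `L`. -/
theorem Loc.mem_core (lc : Loc (W := W) p T M V Wz f (TH : Subgroup H) D X L)
    (hker : f.ker = Cfsg.pCore p G) {x : G} (hx : x ∈ L)
    (hfx : f x ∈ others p W (TH : Subgroup H) D) : (⟨x, hx⟩ : ↥L) ∈ Cfsg.pCore p ↥L := by
  set Os := others p W (TH : Subgroup H) D with hOs
  have hOp : IsPGroup p Os := TH.2.to_le (sSup_le fun D' hD' => hD'.1.2)
  set K := Os.comap (f.comp L.subtype) with hK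
  have hKp : IsPGroup p K := hOp.comap_of_ker_isPGroup _ (by
    rw [← MonoidHom.comap_ker, hker]
    exact (PSolvable.pCore_isPGroup (G := G) (p := p)).comap_subtype)
  have hKn : K.Normal := by
    refine ⟨fun k hk g => ?_⟩
    obtain ⟨e, he, o, ho, heo⟩ := lc.slot.decomp (lc.img.le (mem_map_of_mem f g.2))
    show f ((g : G) * k * (g : G)⁻¹) ∈ Os
    rw [map_mul, map_mul, map_inv, heo, show e * o * f k * (e * o)⁻¹ = e * (o * f k * o⁻¹) * e⁻¹ by group,
      lc.slot.comm e he _ (mul_mem (mul_mem ho (show f (k : G) ∈ Os from hk)) (inv_mem ho)),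
      mul_inv_cancel_right]
    exact mul_mem (mul_mem ho hk) (inv_mem ho)
  exact @PSolvable.le_pCore _ _ p K hKn hKp ⟨x, hx⟩ hfx

theorem Loc.exists_lift (lc : Loc (W := W) p T M V Wz f (TH : Subgroup H) D X L)
    (c : Model p T M V f j) (m2 : Module2 p T V Wz Kc) (hker : f.ker = Cfsg.pCore p G)
    (hTH : (TH : Subgroup H) = T.map f) {ψ : ↥L →* PSLtwo F} {U Q' X' : Subgroup ↥L}
    (rk : Rk p (bMax p T) L F n ψ U Q' X')
    (halt : U = normalClosure (RankOnePush.omegaZ p ((bMax p T).subgroupOf L) : Set ↥L)) :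
    ∃ Y : Subgroup G, Lift p T f j D (others p W (TH : Subgroup H) D) Y := by
  classical
  set Os := others p W (TH : Subgroup H) D with hOs
  set B := bMax p T with hB
  set VL := normalClosure (RankOnePush.omegaZ p (B.subgroupOf L) : Set ↥L) with hVL
  haveI := rk.small.normal
  have hVne : VL ≠ ⊥ := fun h => rk.small.ncov (by
    rw [show normalClosure (RankOnePush.omegaZ p ((bMax p T).subgroupOf L) : Set ↥L) = ⊥ from h, show centralizer ((⊥ : Subgroup ↥L) : Set ↥L) = ⊤ from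
      eq_top_iff.2 fun g _ => mem_centralizer_iff.2 fun z hz => by
        rw [mem_bot.1 hz, one_mul, mul_one], top_sup_eq])
  obtain ⟨Y, hYB, hYD, hYp, hYc, hYS⟩ := exists_twist rk.setup rk.small
    (fun g hg u hu => halt.le (rk.setup.residual_U rk.small rk.shape hg u hu)) hVne rk.nochar
  have himg : B.map f = memSup p W (TH : Subgroup H) := c.image_bMax hTH
  have hdec : ∀ b ∈ B, ∃ d ∈ D, ∃ o ∈ Os, f b = d * o := fun b hb => by
    have h1 : f b ∈ Os ⊔ D := lc.slot.sup.symm ▸ himg.le (mem_map_of_mem f hb)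
    have hn : D ≤ normalizer (Os : Set H) := fun d hd => centralizer_le_normalizer _
      (mem_centralizer_iff.2 fun o ho => (lc.slot.comm d (mem_sup_left hd) o ho).symm)
    have h2 : f b ∈ (Os : Set H) * (D : Set H) := by
      rw [← coe_mul_of_right_le_normalizer_left _ _ hn]; exact h1
    obtain ⟨o, ho, d, hd, he⟩ := Set.mem_mul.1 h2
    exact ⟨d, hd, o, ho, by rw [← he, lc.slot.comm d (mem_sup_left hd) o ho]⟩
  -- `[V_L, B]` lies in the commutator space of `D`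
  have hW : ⁅VL, B.subgroupOf L⁆ ≤ (jImg j (devSpan W D)).subgroupOf L := by
    refine commutator_le.2 fun v hv s hs => ?_
    rw [← commutatorElement_inv]
    refine inv_mem ?_
    obtain ⟨d, hd, o, ho, hdo⟩ := hdec s hs
    obtain ⟨b, hb, hbd⟩ : d ∈ B.map f := himg.ge (lc.slot.sup ▸ mem_sup_right hd)
    have he : f (b⁻¹ * (s : G)) ∈ Os := by
      rw [map_mul, map_inv, hbd, hdo, inv_mul_cancel_left]; exact ho
    have hbL : b ∈ L := lc.bMax_le hb
    have hcore := lc.mem_core hker (mul_mem (inv_mem hbL) s.2) he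
    have hfix := mem_centralizer_iff.1 (rk.small.comm hcore) v hv
    have e : ⁅s, v⁆ = ⁅(⟨b, hbL⟩ : ↥L), v⁆ := by
      set z : ↥L := ⟨b⁻¹ * (s : G), mul_mem (inv_mem hbL) s.2⟩
      rw [show s = ⟨b, hbL⟩ * z from Subtype.ext (mul_inv_cancel_left b (s : G)).symm,
        commutatorElement_def, commutatorElement_def, mul_inv_rev,
        show (⟨b, hbL⟩ : ↥L) * z * v * (z⁻¹ * (⟨b, hbL⟩ : ↥L)⁻¹) =
          ⟨b, hbL⟩ * (z * v * z⁻¹) * (⟨b, hbL⟩ : ↥L)⁻¹ by group, ← hfix, mul_inv_cancel_right]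
    rw [mem_subgroupOf, e]
    obtain ⟨v', hv', hvv⟩ := lc.comm_wz (lc.vl_le m2 hv) hbL
    obtain ⟨w, rfl⟩ := c.jsurj v' hv'
    show ⁅b, (v : G)⁆ ∈ _
    rw [hvv, c.comm_eq, hbd]
    exact c.mem_jImg.2 ⟨_, dev_mem_devSpan hd w, rfl⟩
  refine ⟨Y.map L.subtype, fun y hy => ?_, ?_, ?_, fun y hy => ?_, fun b hb => ?_, fun y hy x hx => ?_⟩
  · obtain ⟨y', hy', rfl⟩ := hy
    exact hYB hy'
  · rintro _ ⟨y, hy, rfl⟩
    rw [← map_pow, hYp y hy, map_one]
  · rintro _ ⟨a, ha, rfl⟩ _ ⟨b, hb, rfl⟩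
    rw [← map_mul, ← map_mul, hYc a ha b hb]
  · obtain ⟨y', hy', rfl⟩ := hy
    exact hdec _ (hYB hy')
  · haveI := rk.setup.normalD
    obtain ⟨y, hy, e, he, hye⟩ :=
      mem_sup_of_normal_right.1 (hYD.ge (show (⟨b, lc.bMax_le hb⟩ : ↥L) ∈ B.subgroupOf L from hb))
    refine ⟨y, mem_map_of_mem _ hy, e, (rk.setup.le_S he : (e : G) ∈ B), ?_, congrArg Subtype.val hye⟩
    obtain ⟨d, hd, o, ho, hdo⟩ := hdec e (rk.setup.le_S he : (e : G) ∈ B)
    obtain ⟨x, hxX, hxM, hxP⟩ := lc.slot.move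
    obtain ⟨g, hg, hgx⟩ := lc.img.ge (mem_sup_left (mem_sup_right hxX) : x ∈ (D ⊔ X) ⊔ Os)
    have hge : (⟨g, hg⟩ : ↥L) * e * (⟨g, hg⟩ : ↥L)⁻¹ ∈ Cfsg.pCore p ↥L :=
      rk.setup.normalD.conj_mem e he _
    obtain ⟨d', hd', o', ho', hdo'⟩ := hdec (g * (e : G) * g⁻¹) (rk.setup.le_S hge)
    rw [map_mul, map_mul, map_inv, hgx, hdo] at hdo'
    have hxd : x * d * x⁻¹ = d' := by
      have h1 : d'⁻¹ * (x * d * x⁻¹) = o' * o⁻¹ := by
        rw [← mul_inv_cancel_right (x * d * x⁻¹) o, show x * d * x⁻¹ * o = x * (d * o) * x⁻¹ by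
          rw [mul_assoc _ x⁻¹ o, lc.slot.comm _ (inv_mem (mem_sup_right hxX)) o ho]; group, hdo']
        group
      refine (inv_mul_eq_one.1 (lc.slot.disj _ ?_ (h1 ▸ mul_mem ho' (inv_mem ho)))).symm
      exact mul_mem (mem_sup_left (inv_mem hd')) (mul_mem (mul_mem (mem_sup_right hxX)
        (mem_sup_left hd)) (inv_mem (mem_sup_right hxX)))
    have hne : cnj x D ≠ D := by
      intro hD
      refine hxP ?_
      rw [← lc.slot.sup]
      refine (le_of_eq ?_ : cnj x (Os ⊔ D) ≤ Os ⊔ D).trans ?_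
      · rw [show cnj x (Os ⊔ D) = cnj x Os ⊔ cnj x D from Subgroup.map_sup _ _ _, hD,
          cnj_eq_of_comm (fun a ha b hb => (lc.slot.comm b hb a ha).symm) (mem_sup_right hxX)]
      · rw [lc.slot.sup]
        exact (sSup_le fun D' hD' => hD'.2).trans (hTH.le.trans (map_mono c.hyp0.le))
    have hd1 : d' = 1 := mem_bot.1 (c.std.tame.inf_eq_bot (lc.slot.mem.1.cnj x) lc.slot.mem.1 hne ▸
      ⟨hxd ▸ mem_map_of_mem _ hd, hd'⟩)
    have : d = 1 := by
      rw [hd1, mul_inv_eq_one, mul_eq_left] at hxd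
      exact hxd
    show f e ∈ Os
    rw [hdo, this, one_mul]
    exact ho
  · obtain ⟨y', hy', rfl⟩ := hy
    have h1 := hYS y' hy' ⟨x, lc.bMax_le hx⟩ hx
    exact mem_subgroupOf.1 (hW h1)

end Cfsg.Agent.Lib.MinPush94
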