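import Cfsg.Agent.Lib.MinPush94.LinFacts

/-!
# Elementary facts on two dimensional linear groups
-/

set_option autoImplicit false
set_option linter.unusedSectionVars false

namespace Cfsg.Agent.Lib.MinPush94

open Subgroup
open Cfsg.Agent.Lib
open Cfsg.Agent.Lib.SL2 (SLtwo)
open scoped commutatorElement

variable {F : Type} [Field F] [Fintype F]

set_option synthInstance.maxSize 1024 in
set_option synthInstance.maxHeartbeats 200000 in
/-- The facts on `SL₂` of the field with three elements. -/
theorem sl2_three_dec :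
    (∀ s d : S2427.G3, s ^ 4 = 1 → d ^ 3 = 1 → d ≠ 1 → s * d = d * s → ∀ h, h * s = s * h) ∧
    (∀ s : S2427.G3, s ^ 4 = 1 → (∀ t : S2427.G3, t ^ 4 = 1 → s * t = t * s) → ∀ h, h * s = s * h) := by
  refine ⟨?_, ?_⟩ <;> decide +kernel

/-- The facts on `SL₂` of a field with three elements. -/
theorem sl2_three (hF : Fintype.card F = 3) :
    (∀ s d : SLtwo F, s ∈ commutator (SLtwo F) → d ^ 3 = 1 → d ≠ 1 → s * d = d * s → ∀ h, h * s = s * h) ∧
    (∀ s ∈ commutator (SLtwo F), (∀ t ∈ commutator (SLtwo F), s * t = t * s) → ∀ h, h * s = s * h) ∧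
    Nonempty (↥(commutator (SLtwo F)) ≃*
      ↥(commutator (Matrix.SpecialLinearGroup (Fin 2) (ZMod 3)))) := by
  classical
  haveI : Fact (Nat.Prime 3) := ⟨Nat.prime_three⟩
  let e : F ≃+* ZMod 3 := (ZMod.ringEquivOfPrime F Nat.prime_three hF).symm
  let es : SLtwo F →* S2427.G3 := Matrix.SpecialLinearGroup.map e.toRingHom
  have hinj : Function.Injective es := fun a b h => by
    refine Matrix.SpecialLinearGroup.ext _ _ fun i j => e.injective ?_
    exact congrFun (congrFun (congrArg Subtype.val h) i) j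
  have hsurj : Function.Surjective es := fun b => by
    refine ⟨Matrix.SpecialLinearGroup.map e.symm.toRingHom b, ?_⟩
    exact Matrix.SpecialLinearGroup.ext _ _ fun i j => e.apply_symm_apply _
  have h4 : ∀ s ∈ commutator (SLtwo F), s ^ 4 = 1 := fun s hs => by
    have h := congrArg Subtype.val ((BTBlock.Sub.isQEight_commutator_SL2 hF).2.1 ⟨s, hs⟩)
    simpa using h
  obtain ⟨h1, h2⟩ := sl2_three_dec
  refine ⟨fun s d hs hd hd1 hc h => hinj ?_, fun s hs hall h => hinj ?_, ?_⟩
  · rw [map_mul, map_mul]
    refine h1 _ (es d) (by rw [← map_pow, h4 s hs, map_one]) (by rw [← map_pow, hd, map_one])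
      (fun he => hd1 (hinj (he.trans (map_one es).symm))) (by rw [← map_mul, ← map_mul, hc]) _
  · rw [map_mul, map_mul]
    refine h2 _ (by rw [← map_pow, h4 s hs, map_one]) (fun t ht => ?_) _
    obtain ⟨u, rfl⟩ := hsurj t
    rw [← map_mul, ← map_mul, hall u ?_]
    rw [← pResidual_SL2 (p := 3) (n := 1) (by rw [hF, pow_one]) (by omega)]
    refine Subgroup.subset_closure (show (orderOf u).Coprime 3 from ?_)
    exact Nat.Coprime.coprime_dvd_left
      (orderOf_dvd_of_pow_eq_one (hinj (by rw [map_pow, ht, map_one]) : u ^ 4 = 1)) (by decide)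
  · have hmap : (commutator (SLtwo F)).map es = commutator S2427.G3 := by
      rw [_root_.commutator_def, _root_.commutator_def, map_commutator, map_top_of_surjective _ hsurj]
    exact ⟨((commutator (SLtwo F)).equivMapOfInjective es hinj).trans (MulEquiv.subgroupCongr hmap)⟩

/-- In characteristic two, an element of order dividing four has order dividing two. -/
theorem sl2_sq_eq_one [CharP F 2] {g : SLtwo F} (hg : g ^ 4 = 1) : g * g = 1 := by
  set A : Matrix (Fin 2) (Fin 2) F := (g : Matrix (Fin 2) (Fin 2) F) with hA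
  have hdet : A 0 0 * A 1 1 - A 0 1 * A 1 0 = 1 := by
    rw [← Matrix.det_fin_two]; exact g.2
  set t := A 0 0 + A 1 1 with ht
  have h2 : (2 : F) = 0 := CharTwo.two_eq_zero
  have hsq : A * A = t • A + 1 := by
    ext i k
    fin_cases i <;> fin_cases k <;>
      simp [Matrix.mul_apply, Fin.sum_univ_two, Matrix.one_apply, ht, smul_eq_mul]
    · linear_combination -hdet - h2
    · ring
    · ring
    · linear_combination -hdet - h2
  by_cases h0 : t = 0
  · refine Subtype.ext ?_
    rw [Matrix.SpecialLinearGroup.coe_mul, ← hA, hsq, h0, zero_smul, zero_add,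
      Matrix.SpecialLinearGroup.coe_one]
  exfalso
  have h4 : A * A * (A * A) = 1 := by
    have h' : g * g * (g * g) = 1 := by rw [← hg, pow_succ, pow_succ, pow_two, ← mul_assoc]
    have := congrArg Subtype.val h'
    simpa [hA] using this
  -- so `t • A + 1` vanishes
  have hz : t • A + 1 = 0 := by
    have e1 : (t • A + 1) * (t • A + 1) = (t * t) • (A * A) + 1 := by
      simp only [add_mul, mul_add, smul_mul_smul_comm, one_mul, mul_one]
      have : t • A + t • A = 0 := by rw [← two_smul F, h2, zero_smul]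
      calc (t * t) • (A * A) + t • A + (t • A + 1) = (t * t) • (A * A) + (t • A + t • A) + 1 := by abel
        _ = _ := by rw [this, add_zero]
    rw [hsq, e1] at h4
    have e2 : (t * t) • (A * A) = 0 := add_eq_right.1 h4
    rw [← hsq]
    exact (smul_eq_zero.1 e2).resolve_left (mul_ne_zero h0 h0)
  have h1 : (1 : Matrix (Fin 2) (Fin 2) F) = 0 := by
    rw [← h4, hsq, hz, zero_mul]
  exact one_ne_zero h1

/-- A special linear group is an alternating group only in the smallest cases. -/
theorem eq_of_equiv_alt {p n : ℕ} [Fact p.Prime] (hF : Fintype.card F = p ^ n) (hq : 2 < Fintype.card F)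
    {k : ℕ} (eq : ↥(commutator (SLtwo F)) ≃* ↥(alternatingGroup (Fin (2 * k + 1)))) :
    ∃ m : ℕ, 2 * k + 1 = 2 ^ m + 1 := by
  classical
  have hc := Nat.card_congr eq.toEquiv
  have h8 : 8 ≤ Nat.card ↥(commutator (SLtwo F)) := by
    rcases Nat.lt_or_ge (Fintype.card F) 4 with h4 | h4
    · rw [(BTBlock.Sub.isQEight_commutator_SL2 (F := F) (by omega)).1]
    · rw [BTBlock.Subn.eq_top_of_four_le h4, card_top, Classical.LowRank.natCard_SL_two]
      have h16 : 16 ≤ Fintype.card F ^ 2 := by nlinarith
      calc 8 ≤ 4 * 2 := le_rfl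
        _ ≤ Fintype.card F * (Fintype.card F ^ 2 - 1) := Nat.mul_le_mul h4 (by omega)
  rcases (show k = 0 ∨ k = 1 ∨ k = 2 ∨ 3 ≤ k by omega) with rfl | rfl | rfl | hk
  · exfalso
    have e1 : Nat.card ↥(alternatingGroup (Fin (2 * 0 + 1))) = 1 := by
      rw [Nat.card_eq_fintype_card]; rfl
    omega
  · exact ⟨1, rfl⟩
  · exact ⟨2, rfl⟩
  exfalso
  haveI : Nontrivial (Fin (2 * k + 1)) := Fin.nontrivial_iff_two_le.2 (by omega)
  haveI : IsSimpleGroup ↥(alternatingGroup (Fin (2 * k + 1))) :=
    alternatingGroup.isSimpleGroup (by rw [Nat.card_eq_fintype_card, Fintype.card_fin]; omega)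
  have hbig : 60 ≤ Nat.card ↥(alternatingGroup (Fin (2 * k + 1))) := by
    have h1 := two_mul_nat_card_alternatingGroup (α := Fin (2 * k + 1))
    rw [Nat.card_perm, Nat.card_eq_fintype_card (α := Fin _), Fintype.card_fin] at h1
    have h2 : 120 ≤ (2 * k + 1).factorial :=
      le_trans (by decide : 120 ≤ (5 : ℕ).factorial) (Nat.factorial_le (by omega))
    omega
  have h4 : 4 ≤ Fintype.card F := by
    by_contra hlt
    rw [(BTBlock.Sub.isQEight_commutator_SL2 (F := F) (by omega)).1] at hc
    omega
  let e' : SLtwo F ≃* ↥(alternatingGroup (Fin (2 * k + 1))) :=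
    (Subgroup.topEquiv.symm.trans (MulEquiv.subgroupCongr (BTBlock.Subn.eq_top_of_four_le h4).symm)).trans eq
  by_cases hp : p = 2
  · subst hp
    haveI : CharP F 2 := charP_of_card_eq_prime_pow hF
    let σ : Equiv.Perm (Fin 6) := Equiv.swap 0 1 * Equiv.swap 1 2 * Equiv.swap 2 3 * Equiv.swap 4 5
    have hσ : Equiv.Perm.sign σ = 1 ∧ σ ^ 4 = 1 ∧ σ * σ ≠ 1 := by decide
    let ee : Fin 6 ≃ {x : Fin (2 * k + 1) // (x : ℕ) < 6} :=
      { toFun := fun i => ⟨⟨i, by omega⟩, i.isLt⟩
        invFun := fun x => ⟨(x.1 : ℕ), x.2⟩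
        left_inv := fun _ => rfl
        right_inv := fun _ => rfl }
    let E := Equiv.Perm.extendDomainHom ee
    have hmem : E σ ∈ alternatingGroup (Fin (2 * k + 1)) := by
      rw [Equiv.Perm.mem_alternatingGroup]
      show Equiv.Perm.sign (σ.extendDomain ee) = 1
      rw [Equiv.Perm.sign_extendDomain]; exact hσ.1
    set a : ↥(alternatingGroup (Fin (2 * k + 1))) := ⟨E σ, hmem⟩
    have ha4 : a ^ 4 = 1 := Subtype.ext (by
      show (E σ) ^ 4 = 1
      rw [← map_pow, hσ.2.1, map_one])
    have h := sl2_sq_eq_one (g := e'.symm a) (by rw [← map_pow, ha4, map_one])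
    rw [← map_mul, ← map_one e'.symm] at h
    have h' : E (σ * σ) = E 1 := by
      rw [map_mul, map_one]; exact congrArg Subtype.val (e'.symm.injective h)
    exact hσ.2.2 (Equiv.Perm.extendDomainHom_injective ee h')
  · have hz : (-1 : SLtwo F) ∈ center (SLtwo F) := mem_center_iff.2 fun g => by
      rw [mul_neg_one, neg_one_mul]
    rcases (inferInstance : (center ↥(alternatingGroup (Fin (2 * k + 1)))).Normal).eq_bot_or_eq_top
      with h | h
    · have h1 : e' (-1) ∈ center ↥(alternatingGroup (Fin (2 * k + 1))) := mem_center_iff.2 fun g => by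
        obtain ⟨u, rfl⟩ := e'.surjective g
        rw [← map_mul, ← map_mul, mem_center_iff.1 hz u]
      rw [h, mem_bot] at h1
      have h2 : (-1 : SLtwo F) = 1 := e'.injective (h1.trans (map_one e').symm)
      have h3 := congrFun (congrFun (congrArg Subtype.val h2) 0) 0
      simp at h3
      haveI : CharP F p := charP_of_card_eq_prime_pow hF
      exact hp (CharP.eq F inferInstance
        (CharTwo.of_one_ne_zero_of_two_eq_zero (R := F) one_ne_zero (by linear_combination -h3)))
    · have hcomm : commutator (SLtwo F) = ⊥ := by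
        rw [_root_.commutator_def, commutator_eq_bot_iff_le_centralizer]
        intro x _
        refine mem_centralizer_iff.2 fun y _ => e'.injective ?_
        rw [map_mul, map_mul]
        exact mem_center_iff.1 (h ▸ mem_top (e' x)) (e' y)
      rw [hcomm, Subgroup.card_bot] at h8
      omega

end Cfsg.Agent.Lib.MinPush94
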