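import Cfsg.Agent.Lib.MinPush94.Linear
import Cfsg.Agent.Lib.MinPush94.LinArith
import Cfsg.Agent.Lib.MinPush94.Family

/-!
# A linear block as a member of the block family
-/

set_option autoImplicit false
set_option linter.unusedSectionVars false

namespace Cfsg.Agent.Lib.MinPush94

open Subgroup SL2Recog FFMin FFComp
open Cfsg.Agent.Lib Cfsg.Agent.Lib.FocalChar
open Cfsg.Agent.Lib.SL2 (SLtwo)
open scoped commutatorElement

universe u

variable {G : Type u} [Group G] [Finite G] {p : ℕ} [Fact p.Prime] {T M V : Subgroup G}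
  {H W : Type u} [Group H] [Finite H] [AddCommGroup W] [Finite W] [DistribMulAction H W]
  [FaithfulSMul H W] {f : G →* H} {j : W → G} {Wz Kc : Subgroup G}
  {TH : Sylow p H} {D X : Subgroup H}
  {F : Type} [Field F] [Fintype F] {n : ℕ}

theorem Env.blockAt_lin (ev : Env p T M V Wz Kc f j) (hTH : (TH : Subgroup H) = T.map f)
    (sl : Slot p W (TH : Subgroup H) (M.map f) D X) (np : NatPair F W D X)
    (lb : LinBase p f (D ⊔ X) F n np.ρ) (ld : LinData p T (blk p f (D ⊔ X)) F n) :
    BlockAt p T M f W (TH : Subgroup H) (D ⊔ X) := by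
  classical
  set E := D ⊔ X with hE
  set R := blk p f E with hR
  set Cm := commutator (SLtwo F) with hCm
  set Os := others p W (TH : Subgroup H) D with hOs
  set P := memSup p W (TH : Subgroup H) with hPdef
  set B := bMax p T with hB
  have hc := ev.model.std
  have hM := ev.model.umax
  have hTM : (TH : Subgroup H) ≤ M.map f := hTH.le.trans (map_mono ev.model.hyp0.le)
  have hDM : D ≤ M.map f := sl.mem.2.trans hTM
  have hPT : P ≤ (TH : Subgroup H) := sSup_le fun D' hD' => hD'.2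
  obtain ⟨θ, hθr, hθ1, hθe⟩ := lb.quot
  have hRE : ∀ x : ↥R, f (x : G) ∈ E := fun x => blk_le_comap E x.2
  have hθρ : ∀ x : ↥R, θ x = np.ρ ⟨f (x : G), hRE x⟩ := fun x => hθe x ⟨_, hRE x⟩ rfl
  have hθs : ∀ h : ↥E, np.ρ h ∈ Cm → ∃ x : ↥R, f (x : G) = h := fun h hh => by
    obtain ⟨x, hx⟩ := hθr.ge hh
    rw [hθρ] at hx
    exact ⟨x, congrArg Subtype.val (np.ρ.injective hx)⟩
  have hb0 : Base p W (members p W (TH : Subgroup H) \ {D}) TH D := ⟨sl.mem, rfl⟩
  have hEc : E ≤ cent (members p W (TH : Subgroup H) \ {D}) :=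
    sup_le (hb0.inSlot hc).le_cent sl.part.slot.le_cent
  -- elements of `E` in `M` normalise `D`
  have hfixD : ∀ h ∈ E, h ∈ M.map f → cnj h D = D := by
    intro h hh hhM
    by_contra hne
    obtain ⟨a, ha, he⟩ := sl.part.eq_translate hc hM hTM sl.mem ((hb0.inSlot hc).conj (hEc hh)) hne
    refine sl.part.not_le ?_
    have h1 := cnj_mono a⁻¹ (he ▸ cnj_le_of_mem hhM hDM : cnj a X ≤ M.map f)
    rw [cnj_cnj, inv_mul_cancel, cnj_one] at h1
    exact h1.trans (cnj_le_of_mem (inv_mem (hDM ha)) le_rfl)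
  have hinM : ∀ h ∈ E, cnj h D = D → h ∈ M.map f := fun h hh he => by_contra fun hne =>
    InSlot.cnj_not_le hc hb0 hM hTM (hEc hh) hne (he.le.trans hDM)
  have hfixP : ∀ h ∈ E, h ∈ M.map f → cnj h P = P := by
    intro h hh hhM
    rw [hPdef, ← sl.sup, show cnj h (Os ⊔ D) = cnj h Os ⊔ cnj h D from Subgroup.map_sup _ _ _,
      hfixD h hh hhM, cnj_eq_of_comm (fun a ha b hb => (sl.comm b hb a ha).symm) hh]
  -- the preimage of the group generated by the members
  set S0 := P.comap f with hS0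
  have hkT : f.ker ≤ T := ev.ker.le.trans ev.model.hyp0.pre.core_le
  have hTf : (TH : Subgroup H).comap f = T := by
    rw [hTH, Subgroup.comap_map_eq, sup_eq_left.2 hkT]
  have hS0T : S0 ≤ T := (comap_mono hPT).trans hTf.le
  have hBS : B ≤ S0 := map_le_iff_le_comap.1 (ev.model.image_bMax hTH).le
  have hcnjS : ∀ x : G, cnj (f x) P = P → S0.map (MulAut.conj x).toMonoidHom ≤ S0 := by
    rintro x hx _ ⟨y, hy, rfl⟩
    show f (x * y * x⁻¹) ∈ P
    rw [← hx, map_mul, map_mul, map_inv]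
    exact mem_map_of_mem _ hy
  -- `E` meets `P` in `D`
  have hPE : ∀ e ∈ E, e ∈ P → e ∈ D := by
    intro e he heP
    have hn : D ≤ normalizer (Os : Set H) := fun d hd => centralizer_le_normalizer _
      (mem_centralizer_iff.2 fun o ho => (sl.comm d (mem_sup_left hd) o ho).symm)
    obtain ⟨o, ho, d, hd, rfl⟩ : ∃ o ∈ Os, ∃ d ∈ D, o * d = e := by
      open scoped Pointwise in
      have h1 : e ∈ (Os : Set H) * (D : Set H) := by
        rw [← coe_mul_of_right_le_normalizer_left _ _ hn]; exact sl.sup.ge heP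
      exact Set.mem_mul.1 h1
    rw [sl.disj o (by simpa using mul_mem he (inv_mem (mem_sup_left hd : d ∈ E))) ho, one_mul]
    exact hd
  have hTP : ∀ e ∈ E, e ∈ (TH : Subgroup H) → e ∈ P := by
    intro e he heT
    exact sl.maxP ((TH : Subgroup H) ⊓ (E ⊔ Os)) inf_le_right (TH.2.to_le inf_le_left)
      (le_inf hPT (sl.sup.ge.trans (sup_le le_sup_right (le_sup_left.trans le_sup_left))))
      ⟨heT, mem_sup_left he⟩
  obtain ⟨d0, hd0, hd01⟩ := exists_ne_one sl.mem.1.ne_bot
  have hquot := ld.quot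
  obtain ⟨equot⟩ := ld.quot
  refine ⟨⟨D, sl.mem, le_sup_left, ?_, ?_⟩, ld.comm, ?_, ?_,
    Or.inl ⟨F, inferInstance, inferInstance, n, ld.card, hquot, ld.acts, ld.alt⟩, ?_, ?_, ?_, ?_⟩
  · -- generation
    intro e he
    rcases Nat.lt_or_ge (Fintype.card F) 4 with h4 | h4
    · have h3 : Fintype.card F = 3 := by have := lb.big; omega
      have hp3 : p = 3 := by
        have hn : n ≠ 0 := fun h0 => by have := lb.card; rw [h0, pow_zero] at this; omega
        exact (Nat.prime_dvd_prime_iff_eq Fact.out Nat.prime_three).1 (h3 ▸ lb.card ▸ dvd_pow_self p hn)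
      subst hp3
      obtain ⟨h8, h4', -⟩ := BTBlock.Sub.isQEight_commutator_SL2 (F := F) h3
      set s := np.ρ ⟨d0, mem_sup_left hd0⟩ with hs
      have hs3 : s ^ 3 = 1 := by
        rw [hs, ← map_pow, show (⟨d0, _⟩ : ↥E) ^ 3 = 1 from Subtype.ext (sl.mem.1.elem.2 d0 hd0), map_one]
      have hidx : Cm.index = 3 := by
        have h := Cm.index_mul_card
        rw [hCm] at h ⊢
        rw [h8, Classical.LowRank.natCard_SL_two, h3] at h
        omega
      have hJ : Cm ⊔ zpowers s = ⊤ := by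
        rw [← Subgroup.index_eq_one]
        have hd := Subgroup.index_dvd_of_le (le_sup_left : Cm ≤ Cm ⊔ zpowers s)
        rw [hidx] at hd
        rcases (Nat.dvd_prime Nat.prime_three).1 hd with h | h
        · exact h
        exfalso
        have hsCm : s ∈ Cm := by
          have hle : Cm = Cm ⊔ zpowers s := Subgroup.eq_of_le_of_card_ge le_sup_left (by
            have e1 := Cm.index_mul_card
            have e2 := (Cm ⊔ zpowers s).index_mul_card
            rw [hidx, ← e2, h] at e1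
            omega)
          exact hle ▸ mem_sup_right (mem_zpowers s)
        have h4s : s ^ 4 = 1 := congrArg Subtype.val (h4' ⟨s, hsCm⟩)
        have h1 : s = 1 := by rwa [pow_succ, hs3, one_mul] at h4s
        exact hd01 (congrArg Subtype.val ((map_eq_one_iff np.ρ np.ρ.injective).1 h1))
      have hle : (⊤ : Subgroup (SLtwo F)) ≤ (((R.map f) ⊔ D).subgroupOf E).map np.ρ.toMonoidHom := by
        rw [← hJ]
        refine sup_le (fun t ht => ?_) (zpowers_le.2 ⟨_, mem_sup_right hd0, rfl⟩)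
        obtain ⟨x, hx⟩ := hθs (np.ρ.symm t) (by rw [MulEquiv.apply_symm_apply]; exact ht)
        exact ⟨np.ρ.symm t, mem_sup_left ⟨x, x.2, hx⟩, np.ρ.apply_symm_apply t⟩
      obtain ⟨y, hy, hye⟩ := hle (mem_top (np.ρ ⟨e, he⟩))
      have hye' : y = (⟨e, he⟩ : ↥E) := np.ρ.injective hye
      subst hye'
      exact hy
    · obtain ⟨x, hx⟩ := hθs ⟨e, he⟩ (by rw [hCm, BTBlock.Subn.eq_top_of_four_le h4]; exact mem_top _)
      exact mem_sup_left ⟨x, x.2, hx⟩
  · -- normal closure
    intro K hKE hKn hDK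
    refine sup_le hDK ?_
    obtain ⟨b, hb, -, hbP⟩ := sl.move
    have hne : cnj b D ≠ D := by
      intro hD
      refine hbP ?_
      rw [← sl.sup, show cnj b (Os ⊔ D) = cnj b Os ⊔ cnj b D from Subgroup.map_sup _ _ _, hD,
        cnj_eq_of_comm (fun a ha c hc' => (sl.comm c hc' a ha).symm) (mem_sup_right hb), sl.sup]
      exact hPT.trans hTM
    obtain ⟨a, ha, he⟩ := sl.part.eq_translate hc hM hTM sl.mem
      ((hb0.inSlot hc).conj (hEc (mem_sup_right hb))) hne
    have hK1 : cnj a X ≤ K :=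
      he ▸ (cnj_mono b hDK).trans (mem_normalizer_iff_map_conj_eq.1 (hKn (mem_sup_right hb))).le
    have h1 := cnj_mono a⁻¹ hK1
    rw [cnj_cnj, inv_mul_cancel, cnj_one] at h1
    exact h1.trans (cnj_le_of_mem (inv_mem (hDK ha)) le_rfl)
  · rw [Cfsg.pCoreOf, lb.core, Subgroup.subgroupOf_map_subtype, inf_comm]
  · intro h
    obtain ⟨-, -, -, ψ, -, hsurj, hk, -⟩ := ld.acts
    obtain ⟨u, hu⟩ := hsurj (Multiplicative.ofAdd (Pi.single 0 1))
    have hu0 : (u : G) = 1 := by
      have h1 : (u : G) ∈ Cfsg.pCoreOf p R := (BTBlock.omegaOneCenter_props p _).1 u.2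
      exact mem_bot.1 (h.le h1)
    rw [show u = 1 from Subtype.ext hu0, map_one] at hu
    have h2 := congrFun (congrArg Multiplicative.toAdd hu) 0
    simp at h2
  · -- projection
    intro e he r hr hM'
    refine by_contra fun hne => InSlot.cnj_not_le hc hb0 hM hTM (hEc he) hne ?_
    have h1 : cnj r D = D := by
      refine Subgroup.eq_of_le_of_card_ge ?_ (card_cnj r D).ge
      rintro _ ⟨d, hd, rfl⟩
      show r * d * r⁻¹ ∈ D
      rw [← hr d (mem_sup_left hd), mul_inv_cancel_right]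
      exact hd
    have h2 := cnj_le_of_mem hM' hDM
    rwa [← cnj_cnj, h1] at h2
  · -- inside the join of normalisers
    rintro x ⟨hxR, hxM⟩
    have hP := hfixP (f x) (hRE ⟨x, hxR⟩) (mem_map_of_mem f hxM)
    have hperm : ∀ y : G, cnj (f y) P = P → ∀ A ∈ maxEl p T, A.map (MulAut.conj y).toMonoidHom ∈ maxEl p T := by
      intro y hy A hA
      refine ⟨((map_mono ((maxEl_le_bMax hA).trans hBS)).trans (hcnjS y hy)).trans hS0T,
        el_map _ hA.2.1, fun Y hY hYe => (hA.2.2 Y hY hYe).trans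
          (card_map_of_injective (MulAut.conj y).injective).ge⟩
    have hP' : cnj (f x⁻¹) P = P := by
      conv_lhs => rw [← hP]
      rw [cnj_cnj, ← map_mul, inv_mul_cancel, map_one, cnj_one]
    have hz : ∀ y : G, (∀ A ∈ maxEl p T, A.map (MulAut.conj y⁻¹).toMonoidHom ∈ maxEl p T) →
        ∀ z ∈ zMax p T, y * z * y⁻¹ ∈ zMax p T := by
      intro y hy z hz
      have hA : ∀ A ∈ maxEl p T, y * z * y⁻¹ ∈ A := fun A hA => by
        obtain ⟨a, ha, hae⟩ := zMax_le (hy A hA) hz
        rw [← hae]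
        simpa [mul_assoc] using ha
      obtain ⟨A, hA'⟩ := exists_maxEl (p := p) T
      exact ⟨hA'.1 (hA A hA'), mem_sInf.2 hA⟩
    have hn : x ∈ normalizer (B : Set G) := by
      refine mem_normalizer_iff_map_conj_eq.2 (Subgroup.eq_of_le_of_card_ge ?_
        (card_map_of_injective (MulAut.conj x).injective).ge)
      rintro _ ⟨b, hb, rfl⟩
      refine ⟨hS0T (hcnjS x hP (mem_map_of_mem _ (hBS hb))), mem_centralizer_iff.2 fun z hz' => ?_⟩
      have h1 := hz x⁻¹ (by rw [inv_inv]; exact hperm x hP) z hz'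
      rw [inv_inv] at h1
      have h2 := mem_centralizer_iff.1 hb.2 _ h1
      show z * (x * b * x⁻¹) = x * b * x⁻¹ * z
      calc z * (x * b * x⁻¹) = x * ((x⁻¹ * z * x) * b) * x⁻¹ := by group
        _ = x * (b * (x⁻¹ * z * x)) * x⁻¹ := by rw [h2]
        _ = x * b * x⁻¹ * z := by group
    refine mem_sup_right ?_
    rw [Cfsg.charNormalizersJoin]
    exact (le_iSup (fun C : {C : Subgroup G // C ≤ Cfsg.baumannSubgroupOf p T ∧ C ≠ ⊥ ∧
        (C.subgroupOf (Cfsg.baumannSubgroupOf p T)).Characteristic} => normalizer ((C : Subgroup G) : Set G))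
      ⟨B, (baumann_eq T).ge, ev.model.hyp0.bMax_ne_bot, by
        rw [baumann_eq, Subgroup.subgroupOf_self]; infer_instance⟩) hn
  · -- the intersection with `M`
    rcases Nat.lt_or_ge (Fintype.card F) 4 with h4 | h4
    · have h3 : Fintype.card F = 3 := by have := lb.big; omega
      have hp3 : p = 3 := by
        have hn : n ≠ 0 := fun h0 => by have := lb.card; rw [h0, pow_zero] at this; omega
        exact (Nat.prime_dvd_prime_iff_eq Fact.out Nat.prime_three).1 (h3 ▸ lb.card ▸ dvd_pow_self p hn)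
      subst hp3
      obtain ⟨k1, k2, ⟨eI⟩⟩ := sl2_three h3
      obtain ⟨-, h4', -⟩ := BTBlock.Sub.isQEight_commutator_SL2 (F := F) h3
      have hk : Cfsg.pCore 3 ↥R = θ.ker := by
        rw [lb.core]; ext x
        rw [MonoidHom.mem_ker, hθ1, mem_subgroupOf, ← ev.ker, MonoidHom.mem_ker]
      refine Or.inr (Or.inr ⟨rfl, ⟨equot.trans eI⟩, le_antisymm ?_ ?_⟩)
      · rintro _ ⟨x, hx, rfl⟩
        refine mem_center_iff.2 fun y => ?_
        obtain ⟨z, rfl⟩ := QuotientGroup.mk'_surjective _ y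
        set s := np.ρ ⟨f (x : G), hRE x⟩ with hs
        have hsC : s ∈ Cm := by rw [hs, ← hθρ]; exact hθr.le ⟨x, rfl⟩
        set d : ↥E := ⟨d0, mem_sup_left hd0⟩
        have hD := hfixD _ (hRE x) (mem_map_of_mem f hx.1)
        have hd' : f (x : G) * d0 * (f (x : G))⁻¹ ∈ D := hD.le (mem_map_of_mem _ hd0)
        have hc3 : ⁅s, np.ρ d⁆ ^ 3 = 1 := by
          rw [hs, ← map_commutatorElement, ← map_pow, ← map_one np.ρ]
          refine congrArg np.ρ (Subtype.ext ?_)
          show ⁅f (x : G), d0⁆ ^ 3 = 1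
          rw [commutatorElement_def]
          exact sl.mem.1.elem.2 _ (mul_mem hd' (inv_mem hd0))
        have hc4 : ⁅s, np.ρ d⁆ ^ 4 = 1 := congrArg Subtype.val (h4' ⟨⁅s, np.ρ d⁆, by
          rw [_root_.commutator_def]
          exact commutator_mem_commutator (mem_top _) (mem_top _)⟩)
        rw [pow_succ, hc3, one_mul] at hc4
        have hcen := k1 s (np.ρ d) hsC
          (by rw [← map_pow, show d ^ 3 = 1 from Subtype.ext (sl.mem.1.elem.2 d0 hd0), map_one])
          (fun he => hd01 (congrArg Subtype.val ((map_eq_one_iff np.ρ np.ρ.injective).1 he)))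
          (commutatorElement_eq_one_iff_mul_comm.1 hc4) (θ z)
        rw [← map_mul, ← map_mul]
        refine (QuotientGroup.eq.2 ?_)
        rw [hk, MonoidHom.mem_ker, map_mul, map_inv, map_mul, map_mul, show θ x = s from hθρ x, hcen,
          inv_mul_cancel]
      · intro y hy
        obtain ⟨x, rfl⟩ := QuotientGroup.mk'_surjective _ y
        refine ⟨x, ⟨?_, x.2⟩, rfl⟩
        refine ev.model.mem_M (hinM _ (hRE x) ?_)
        have hsall : ∀ t ∈ Cm, θ x * t = t * θ x := by
          intro t ht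
          obtain ⟨z, rfl⟩ := hθr.ge ht
          have h1 := mem_center_iff.1 hy (QuotientGroup.mk' _ z)
          rw [← map_mul, ← map_mul] at h1
          have h2 : (z * x)⁻¹ * (x * z) ∈ θ.ker := hk ▸ QuotientGroup.eq.1 h1
          rw [MonoidHom.mem_ker, map_mul, map_inv, inv_mul_eq_one, map_mul, map_mul] at h2
          exact h2.symm
        have hcen := k2 (θ x) (hθr.le ⟨x, rfl⟩) hsall
        refine Subgroup.eq_of_le_of_card_ge ?_ (card_cnj _ D).ge
        rintro _ ⟨d, hd, rfl⟩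
        have h1 : (⟨d, mem_sup_left hd⟩ : ↥E) * ⟨f (x : G), hRE x⟩ = ⟨f (x : G), hRE x⟩ * ⟨d, mem_sup_left hd⟩ :=
          np.ρ.injective (by rw [map_mul, map_mul, ← hθρ]; exact hcen _)
        show f (x : G) * d * (f (x : G))⁻¹ ∈ D
        rw [show f (x : G) * d = d * f (x : G) from (congrArg Subtype.val h1).symm, mul_inv_cancel_right]
        exact hd
    · have htop : Cm = ⊤ := BTBlock.Subn.eq_top_of_four_le h4
      refine Or.inl ⟨F, inferInstance, inferInstance, n, by have := lb.card; omega, lb.card,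
        ⟨equot.trans ((MulEquiv.subgroupCongr htop).trans Subgroup.topEquiv)⟩, le_antisymm ?_ ?_⟩
      · rintro x ⟨hxM, hxR⟩
        have hP := hfixP (f x) (hRE ⟨x, hxR⟩) (mem_map_of_mem f hxM)
        have he : T ⊓ R = S0 ⊓ R := le_antisymm (fun y hy => ⟨hTP _ (hRE ⟨y, hy.2⟩)
          (hTH.ge (mem_map_of_mem f hy.1)), hy.2⟩) (inf_le_inf_right _ hS0T)
        refine ⟨hxR, ?_⟩
        rw [he]
        refine mem_normalizer_iff_map_conj_eq.2 (Subgroup.eq_of_le_of_card_ge ?_
          (card_map_of_injective (MulAut.conj x).injective).ge)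
        rintro _ ⟨y, hy, rfl⟩
        exact ⟨hcnjS x hP (mem_map_of_mem _ hy.1), R.mul_mem (R.mul_mem hxR hy.2) (R.inv_mem hxR)⟩
      · rintro x ⟨hxR, hxn⟩
        refine ⟨ev.model.mem_M (hinM _ (hRE ⟨x, hxR⟩) ?_), hxR⟩
        refine Subgroup.eq_of_le_of_card_ge ?_ (card_cnj _ D).ge
        rintro _ ⟨d, hd, rfl⟩
        obtain ⟨y, hy⟩ := hθs ⟨d, mem_sup_left hd⟩ (htop ▸ mem_top _)
        have hyT : (y : G) ∈ T ⊓ R := ⟨hTf.le (show f (y : G) ∈ (TH : Subgroup H) from hy ▸ sl.mem.2 hd), y.2⟩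
        have h1 : x * y * x⁻¹ ∈ T ⊓ R := (mem_normalizer_iff.1 hxn y).1 hyT
        have h2 : f (x * y * x⁻¹) = f x * d * (f x)⁻¹ := by
          rw [map_mul, map_mul, map_inv, hy]
        show f x * d * (f x)⁻¹ ∈ D
        rw [← h2]
        exact hPE _ (hRE ⟨_, h1.2⟩) (hTP _ (hRE ⟨_, h1.2⟩) (hTH.ge (mem_map_of_mem f h1.1)))
  · intro k hk
    obtain ⟨eq⟩ := hk
    exact eq_of_equiv_alt lb.card lb.big (equot.symm.trans eq)

end Cfsg.Agent.Lib.MinPush94
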