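import Cfsg.Agent.Lib.MinPush94.Linear
import Cfsg.Agent.Lib.MinPush94.Exceptional
import Cfsg.Agent.Lib.PushingUp.Main
import Cfsg.Agent.Lib.Amalgam.CharP

/-!
# A linear block with two natural factors
-/

set_option autoImplicit false
set_option linter.unusedSectionVars false

namespace Cfsg.Agent.Lib.MinPush94

open Subgroup SL2Recog FFMin FFComp
open Cfsg.Agent.Lib Cfsg.Agent.Lib.FocalChar
open Cfsg.Agent.Lib.SL2 (SLtwo PSLtwo)
open scoped commutatorElement

universe u

/-- A natural action on a section is carried along an injective homomorphism. -/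
theorem acts_map {A B : Type*} [Group A] [Group B] {F : Type} [Field F]
    {R' : Subgroup (Matrix.SpecialLinearGroup (Fin 2) F)} {E U U₀ : Subgroup A} {ι : A →* B}
    (hι : Function.Injective ι) (h : Cfsg.ActsAsSL2OnSection F R' E U U₀) :
    Cfsg.ActsAsSL2OnSection F R' (E.map ι) (U.map ι) (U₀.map ι) := by
  obtain ⟨hn, hle, ρ, φ, hρ, hφ, hk, heq⟩ := h
  refine ⟨(Subgroup.map_mono hn).trans (Subgroup.le_normalizer_map ι), Subgroup.map_mono hle,
    ρ.comp (E.equivMapOfInjective ι hι).symm.toMonoidHom,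
    φ.comp (U.equivMapOfInjective ι hι).symm.toMonoidHom, ?_, ?_, fun u => ?_, fun e u => ?_⟩
  · rw [MonoidHom.range_comp, MonoidHom.range_eq_top.2 (E.equivMapOfInjective ι hι).symm.surjective,
      ← MonoidHom.range_eq_map, hρ]
  · exact hφ.comp (U.equivMapOfInjective ι hι).symm.surjective
  · obtain ⟨a, rfl⟩ := (U.equivMapOfInjective ι hι).surjective u
    rw [MonoidHom.comp_apply, MulEquiv.coe_toMonoidHom, MulEquiv.symm_apply_apply, hk,
      coe_equivMapOfInjective_apply, Subgroup.mem_map_iff_mem hι]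
  · obtain ⟨e, rfl⟩ := (E.equivMapOfInjective ι hι).surjective e
    obtain ⟨u, rfl⟩ := (U.equivMapOfInjective ι hι).surjective u
    obtain ⟨w, hw, hwφ⟩ := heq e u
    refine ⟨U.equivMapOfInjective ι hι w, ?_, ?_⟩
    · rw [coe_equivMapOfInjective_apply, hw, map_mul, map_mul, map_inv,
        coe_equivMapOfInjective_apply, coe_equivMapOfInjective_apply]
    · simp only [MonoidHom.comp_apply, MulEquiv.coe_toMonoidHom, MulEquiv.symm_apply_apply]
      exact hwφ

variable {G : Type u} [Group G] [Finite G] {p : ℕ} [Fact p.Prime] {T M V : Subgroup G}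
  {H W : Type u} [Group H] [Finite H] [AddCommGroup W] [Finite W] [DistribMulAction H W]
  [FaithfulSMul H W] {f : G →* H} {j : W → G} {Wz Kc : Subgroup G}
  {TH : Sylow p H} {D X : Subgroup H} {L : Subgroup G}
  {F : Type} [Field F] [Fintype F] {n : ℕ}

theorem Env.linData_exceptional (ev : Env p T M V Wz Kc f j)
    (lc : Loc (W := W) p T M V Wz f (TH : Subgroup H) D X L) (np : NatPair F W D X)
    (lb : LinBase p f (D ⊔ X) F n np.ρ)
    (ex : Exceptional p ((bMax p T).subgroupOf L) (Cfsg.pCore p ↥L)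
      (normalClosure (RankOnePush.omegaZ p ((bMax p T).subgroupOf L) : Set ↥L)) F n) :
    LinData p T (blk p f (D ⊔ X)) F n := by
  set R := blk p f (D ⊔ X) with hRdef
  set ι := L.subtype
  have hι : Function.Injective ι := L.subtype_injective
  set RL := Cfsg.pResidual p ↥L
  set U0 := uExc p (Cfsg.pCore p ↥L)
  set Z0 := zExc p (Cfsg.pCore p ↥L)
  have hres : RL.map ι = R := lc.residual_eq ev
  have hU0R : U0 ≤ RL := ex.core.ge.trans inf_le_left
  haveI := pCore_normal (G := G) (p := p)
  haveI := pCore_normal (G := ↥L) (p := p)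
  haveI := pCore_normal (G := ↥R) (p := p)
  -- the core of the residual
  have hcore : Cfsg.pCoreOf p R = U0.map ι := by
    refine le_antisymm ?_ fun x hx => ?_
    · rintro _ ⟨r, hr, rfl⟩
      rw [lb.core] at hr
      obtain ⟨y, hy, hyr⟩ := hres.ge r.2
      refine ⟨y, ex.core.le ⟨hy, ?_⟩, hyr⟩
      refine @PSolvable.le_pCore _ _ p ((Cfsg.pCore p G).subgroupOf L) inferInstance
        (PSolvable.pCore_isPGroup (G := G) (p := p)).comap_subtype y ?_
      refine mem_subgroupOf.2 ?_
      rw [show (y : G) = r from hyr]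
      exact mem_subgroupOf.1 hr
    · have hxR : x ∈ R := hres ▸ Subgroup.map_mono hU0R hx
      have hn : ((U0.map ι).subgroupOf R).Normal := by
        haveI : U0.Normal := inferInstance
        refine normal_subgroupOf_of_le_normalizer ?_
        rw [← hres]
        refine (Subgroup.map_mono ?_).trans (Subgroup.le_normalizer_map ι)
        rw [normalizer_eq_top_iff.2 inferInstance]
        exact le_top
      have hp' : IsPGroup p ((U0.map ι).subgroupOf R) :=
        (((PSolvable.pCore_isPGroup (G := ↥L) (p := p)).to_le (commutator_le_left _ _ : U0 ≤ _)).map ι).comap_subtype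
      exact ⟨⟨x, hxR⟩, @PSolvable.le_pCore _ _ p _ hn hp' _ (mem_subgroupOf.2 hx), rfl⟩
  have homega : Cfsg.omegaOneCenter p (Cfsg.pCoreOf p R) =
      (Cfsg.omegaOneCenter p U0).map ι := by rw [hcore, PushingUp.omegaOneCenter_map hι]
  have hfix : Cfsg.omegaOneCenter p (Cfsg.pCoreOf p R) ⊓ centralizer (R : Set G) = Z0.map ι := by
    rw [homega, ← hres, ← Amalgam.inf_centralizer_map _ _ hι, ex.fixed]
  have hcent : R ⊓ centralizer (R : Set G) = Z0.map ι := by
    rw [← hres, ← Amalgam.inf_centralizer_map _ _ hι, ex.cent]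
  obtain ⟨θ, hθr, hθ1, -⟩ := lb.quot
  have hk : θ.ker = Cfsg.pCore p ↥R := by
    rw [lb.core]
    ext x
    rw [MonoidHom.mem_ker, hθ1, mem_subgroupOf, ← ev.ker, MonoidHom.mem_ker]
  refine ⟨lb.card, lb.big, ⟨((QuotientGroup.quotientMulEquivOfEq hk.symm).trans
      (QuotientGroup.quotientKerEquivRange θ)).trans (MulEquiv.subgroupCongr hθr)⟩, ?_,
    Or.inr ⟨ex.three, ?_, ?_, ?_, ?_, ?_, ?_⟩, ?_⟩
  · rw [hfix, homega, ← hres]
    exact acts_map hι ex.bot
  · rw [homega, hcore, ← hres]
    exact acts_map hι ex.top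
  · rw [hfix, hcore, ← map_commutator]
  · rw [hfix, hcore]
    have hpow : ∀ x ∈ U0, x ^ p ∈ Z0 := fun x hx =>
      ex.frat.le ⟨⟨x, hx⟩ ^ p, PFrattini.pow_mem_frattini
        ((PSolvable.pCore_isPGroup (G := ↥L) (p := p)).to_le (commutator_le_left _ _)) _, rfl⟩
    refine le_antisymm (PFrattini.frattini_map_subtype_le (p := p) (map_commutator U0 U0 ι).ge ?_) ?_
    · rintro _ ⟨x, hx, rfl⟩
      exact ⟨x ^ p, hpow x hx, map_pow ι x p⟩
    · rw [show Z0.map ι = ⁅U0.map ι, U0.map ι⁆ from map_commutator U0 U0 ι, ← map_subtype_commutator]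
      exact Subgroup.map_mono (PFrattini.commutator_le_frattini
        (((PSolvable.pCore_isPGroup (G := ↥L) (p := p)).to_le (commutator_le_left _ _ : U0 ≤ _)).map ι))
  · rw [hcent, hfix]
  · rw [hcent, card_map_of_injective hι, ex.card, ex.three]
  · intro b hb hbW hle
    rw [baumann_eq] at hb
    have hbL : b ∈ L := lc.bMax_le hb
    refine ex.quad ⟨b, hbL⟩ (mem_subgroupOf.2 hb) (fun h => hbW ?_) ?_
    · rw [homega]
      refine mem_centralizer_iff.2 ?_
      rintro _ ⟨w, hw, rfl⟩
      exact congrArg Subtype.val (mem_centralizer_iff.1 h w hw)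
    · rw [← map_le_map_iff_of_injective hι, map_commutator, map_commutator, MonoidHom.map_zpowers]
      rw [hcent, hcore] at hle
      exact hle
  · rw [hcore, ← hres, ← map_commutator, ex.res]

end Cfsg.Agent.Lib.MinPush94
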