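import Cfsg.Agent.Lib.MinPush94.Small
import Cfsg.Agent.Lib.BTBlock.Subn.Section
import Cfsg.Agent.Lib.BTBlock.Sub.Facts

/-!
# The residual over a linear slot
-/

set_option autoImplicit false
set_option linter.unusedSectionVars false

namespace Cfsg.Agent.Lib.MinPush94

open Subgroup SL2Recog FFMin FFComp
open Cfsg.Agent.Lib Cfsg.Agent.Lib.FocalChar
open Cfsg.Agent.Lib.SL2 (SLtwo)
open scoped commutatorElement

universe u

variable {G : Type u} [Group G] [Finite G] {p : ℕ} [Fact p.Prime] {T M V : Subgroup G}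
  {H W : Type u} [Group H] [Finite H] [AddCommGroup W] [Finite W] [DistribMulAction H W]
  [FaithfulSMul H W] {f : G →* H} {j : W → G} {Wz Kc : Subgroup G}
  {TH : Sylow p H} {D X : Subgroup H} {L : Subgroup G}
  {F : Type} [Field F] [Fintype F] {n : ℕ}

/-- The rank one factor of a slot has no nontrivial normal `p`-subgroup. -/
theorem Slot.normal_p_eq_bot (sl : Slot p W (TH : Subgroup H) (M.map f) D X) (hc : Std p H W)
    (hTM : (TH : Subgroup H) ≤ M.map f) {K : Subgroup H}
    (hK : K ≤ D ⊔ X) (hp' : IsPGroup p K) (hn : D ⊔ X ≤ normalizer (K : Set H)) : K = ⊥ := by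
  set Os := others p W (TH : Subgroup H) D
  set P := memSup p W (TH : Subgroup H)
  have hPp : IsPGroup p P := TH.2.to_le (sSup_le fun D' hD' => hD'.2)
  have hPn : P ≤ normalizer (K : Set H) := by
    show memSup p W (TH : Subgroup H) ≤ _
    rw [← sl.sup]
    refine sup_le ((fun o ho => centralizer_le_normalizer _ (mem_centralizer_iff.2 fun k hk => ?_)))
      (le_sup_left.trans hn)
    exact sl.comm k (hK hk) o ho
  have hle : K ⊔ P ≤ P := sl.maxP _ (sup_le (hK.trans le_sup_left) (by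
      show memSup p W (TH : Subgroup H) ≤ _
      rw [← sl.sup]; exact sup_le le_sup_right (le_sup_left.trans le_sup_left)))
    (hp'.to_sup_of_normal_left' hPp hPn) le_sup_right
  have hKD : K ≤ D := by
    intro k hk
    have h1 : k ∈ Os ⊔ D := sl.sup.symm ▸ hle (mem_sup_left hk)
    have hn' : D ≤ normalizer (Os : Set H) := fun d hd => centralizer_le_normalizer _
      (mem_centralizer_iff.2 fun o ho => (sl.comm d (mem_sup_left hd) o ho).symm)
    obtain ⟨d, hd, o, ho, rfl⟩ : ∃ d ∈ D, ∃ o ∈ Os, k = d * o := by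
      open scoped Pointwise in
      have h2 : k ∈ (Os : Set H) * (D : Set H) := by
        rw [← coe_mul_of_right_le_normalizer_left _ _ hn']; exact h1
      obtain ⟨o, ho, d, hd, he⟩ := Set.mem_mul.1 h2
      exact ⟨d, hd, o, ho, by rw [← he, sl.comm d (mem_sup_left hd) o ho]⟩
    have h2 : o = 1 := sl.disj o (by
      have := mul_mem (inv_mem (mem_sup_left hd : d ∈ D ⊔ X)) (hK hk)
      rwa [inv_mul_cancel_left] at this) ho
    rw [h2, mul_one]; exact hd
  obtain ⟨x, hx, -, hxP⟩ := sl.move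
  have hne : cnj x D ≠ D := by
    intro hD
    refine hxP ?_
    rw [← sl.sup, show cnj x (Os ⊔ D) = cnj x Os ⊔ cnj x D from Subgroup.map_sup _ _ _, hD,
      cnj_eq_of_comm (fun a ha b hb => (sl.comm b hb a ha).symm) (mem_sup_right hx), sl.sup]
    exact (sSup_le fun D' hD' => hD'.2).trans hTM
  refine le_bot_iff.1 ?_
  rw [← hc.tame.inf_eq_bot (sl.mem.1.cnj x) sl.mem.1 hne]
  refine le_inf ?_ hKD
  exact (mem_normalizer_iff_map_conj_eq.1 (hn (mem_sup_right hx))).ge.trans (cnj_mono x hKD)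

/-- `O^p(SL₂)` is the derived group. -/
theorem pResidual_SL2 (hF : Fintype.card F = p ^ n) (hq : 2 < Fintype.card F) :
    Cfsg.pResidual p (SLtwo F) = commutator (SLtwo F) := by
  classical
  set R := Cfsg.pResidual p (SLtwo F)
  haveI : R.Characteristic := Transfer.pResidual_characteristic
  rcases Nat.lt_or_ge (Fintype.card F) 4 with h4 | h4
  · have h3 : Fintype.card F = 3 := by omega
    have hp3 : p = 3 := by
      have hn : n ≠ 0 := fun h0 => by rw [h0, pow_zero] at hF; omega
      exact (Nat.prime_dvd_prime_iff_eq Fact.out Nat.prime_three).1 (h3 ▸ hF ▸ dvd_pow_self p hn)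
    subst hp3
    obtain ⟨h8, -⟩ := BTBlock.Sub.isQEight_commutator_SL2 h3
    refine le_antisymm ?_ fun x hx => Subgroup.subset_closure ?_
    · show Cfsg.pResidual 3 (SLtwo F) ≤ _
      rw [Cfsg.pResidual, Subgroup.closure_le]
      intro x hx
      refine (QuotientGroup.eq_one_iff x).1 ?_
      have hidx : (commutator (SLtwo F)).index = 3 := by
        have h := (commutator (SLtwo F)).index_mul_card
        rw [h8, Classical.LowRank.natCard_SL_two, h3] at h
        omega
      have h1 : orderOf (QuotientGroup.mk' (commutator (SLtwo F)) x) ∣ 3 := by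
        rw [← hidx, Subgroup.index]; exact orderOf_dvd_natCard _
      exact orderOf_eq_one_iff.1 (Nat.eq_one_of_dvd_coprimes hx (orderOf_map_dvd (QuotientGroup.mk' (commutator (SLtwo F))) x) h1)
    · exact (show Nat.Coprime 8 3 by decide).coprime_dvd_left
        (h8 ▸ Subgroup.orderOf_dvd_natCard _ hx)
  · rw [BTBlock.Subn.eq_top_of_four_le h4]
    by_contra hne
    have hp' : IsPGroup p (SLtwo F ⧸ R) := Transfer.isPGroup_quotient_pResidual
    haveI : Nontrivial (SLtwo F ⧸ R) := QuotientGroup.nontrivial_iff.2 hne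
    haveI := hp'.isNilpotent
    have hlt := IsSolvable.commutator_lt_top_of_nontrivial (SLtwo F ⧸ R)
    refine hlt.ne ?_
    rw [_root_.commutator_def, ← map_top_of_surjective _ (QuotientGroup.mk'_surjective R),
      ← map_commutator, ← _root_.commutator_def, BTBlock.Subn.eq_top_of_four_le h4]

/-- The residual of `L` is the residual over the slot. -/
theorem Loc.residual_eq (lc : Loc (W := W) p T M V Wz f (TH : Subgroup H) D X L)
    (ev : Env p T M V Wz Kc f j) : Cfsg.pResidualOf p L = blk p f (D ⊔ X) := by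
  set R := Cfsg.pResidualOf p L with hR
  have hRL : R ≤ L := map_subtype_le _
  have hcl : R = Subgroup.closure {g : G | g ∈ L ∧ (orderOf g).Coprime p} := BTBlock.pResidualOf_eq_closure L
  refine le_antisymm ?_ (blk_le fun x hx hxE => ?_)
  · rw [hcl, Subgroup.closure_le]
    rintro x ⟨hxL, hxo⟩
    exact mem_blk_of_coprime hxo (lc.slot.mem_of_coprime (lc.img.le (mem_map_of_mem f hxL))
      (hxo.coprime_dvd_left (orderOf_map_dvd f x)))
  set Q := Cfsg.pCore p G
  set B := bMax p T
  have hLR : L ≤ normalizer (R : Set G) := fun l hl => by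
    refine mem_normalizer_iff_map_conj_eq.2 (Subgroup.eq_of_le_of_card_ge ?_
      (card_map_of_injective (MulAut.conj l).injective).ge)
    rw [hcl, MonoidHom.map_closure, Subgroup.closure_le]
    rintro _ ⟨g, ⟨hg, hgo⟩, rfl⟩
    refine Subgroup.subset_closure ⟨mul_mem (mul_mem hl hg) (inv_mem hl), ?_⟩
    exact (MulEquiv.orderOf_eq (MulAut.conj l) g).symm ▸ hgo
  have hQR : Q ≤ normalizer (R : Set G) := by
    intro q hq
    refine mem_normalizer_iff_map_conj_eq.2 (Subgroup.eq_of_le_of_card_ge ?_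
      (card_map_of_injective (MulAut.conj q).injective).ge)
    rw [hcl, MonoidHom.map_closure, Subgroup.closure_le]
    rintro _ ⟨g, ⟨hg, hgo⟩, rfl⟩
    show q * g * q⁻¹ ∈ Subgroup.closure _
    rw [← hcl, show q * g * q⁻¹ = ⁅q, g⁆ * g by simp only [commutatorElement_def]; group]
    have hgR : g ∈ R := hcl ▸ Subgroup.subset_closure ⟨hg, hgo⟩
    refine mul_mem ?_ hgR
    have he := lc.comm q hq g hg
    have hec : ⁅g, q⁆ ∈ Q ⊓ B := by rw [← commutatorElement_inv]; exact inv_mem he
    rw [← commutatorElement_inv]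
    refine inv_mem (mem_of_stable (d := q) hgo (hLR hg) (hLR (lc.bMax_le hec.2))
      ((IsPGroup.iff_orderOf.1 (PSolvable.pCore_isPGroup (G := G) (p := p))) ⟨_, hec.1⟩ |>.imp
        fun k hk => by rwa [orderOf_mk] at hk)
      (by simp only [commutatorElement_def]; group) ?_)
    rw [show g * ⁅g, q⁆ * g⁻¹ * ⁅g, q⁆⁻¹ = g * (⁅g, q⁆ * g⁻¹ * ⁅g, q⁆⁻¹) by group]
    exact mul_mem hgR ((mem_normalizer_iff.1 (hLR (lc.bMax_le hec.2)) _).1 (inv_mem hgR))
  have hTp : IsPGroup p T := ev.model.hyp0.pgroup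
  refine BTBlock.mem_of_coprime_of_sup (N := B ⊔ Q) (hTp.to_le (sup_le bMax_le_S ev.model.hyp0.pre.core_le))
    (sup_le (lc.bMax_le.trans hLR) hQR) ?_ hx
  obtain ⟨l, hl, hle⟩ := lc.img.ge (mem_sup_left hxE : f x ∈ (D ⊔ X) ⊔ others p W (TH : Subgroup H) D)
  have hq : l⁻¹ * x ∈ Q := by
    rw [show Q = f.ker from ev.ker.symm, MonoidHom.mem_ker, map_mul, map_inv, hle, inv_mul_cancel]
  have hlS : L ≤ B ⊔ Q ⊔ R := by
    intro y hy
    have hBp : IsPGroup p (B.subgroupOf L) :=
      (hTp.to_le bMax_le_S).of_equiv (subgroupOfEquivOfLe lc.bMax_le).symm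
    obtain ⟨P1, hP1⟩ := hBp.exists_le_sylow
    have hle' : (P1 : Subgroup ↥L) ≤ B.subgroupOf L := fun z hz =>
      mem_subgroupOf.2 (lc.sylow _ (map_subtype_le _) (P1.2.map _)
        (fun y hy => ⟨⟨y, lc.bMax_le hy⟩, hP1 hy, rfl⟩) (mem_map_of_mem L.subtype hz))
    have h1 : (⟨y, hy⟩ : ↥L) ∈ (B ⊔ Q ⊔ R).subgroupOf L :=
      ((Transfer.pResidual_sup_sylow P1).ge.trans (sup_le (fun z hz =>
        mem_subgroupOf.2 (mem_sup_right (show (z : G) ∈ R from mem_map_of_mem L.subtype hz))) fun z hz =>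
        mem_subgroupOf.2 (mem_sup_left (mem_sup_left (hle' hz))))) (mem_top _)
    exact h1
  simpa using mul_mem (hlS hl) (mem_sup_left (mem_sup_right hq) : l⁻¹ * x ∈ B ⊔ Q ⊔ R)

/-- The facts about the residual over a linear slot. -/
structure LinBase (p : ℕ) (f : G →* H) (E : Subgroup H) (F : Type) [Field F] [Fintype F]
    (n : ℕ) (ρ : ↥E ≃* SLtwo F) : Prop where
  card : Fintype.card F = p ^ n
  big : 2 < Fintype.card F
  quot : ∃ θ : ↥(blk p f E) →* SLtwo F, θ.range = commutator (SLtwo F) ∧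
    (∀ (x : ↥(blk p f E)), θ x = 1 ↔ f (x : G) = 1) ∧
    ∀ (x : ↥(blk p f E)) (h : ↥E), f (x : G) = h → θ x = ρ h
  core : Cfsg.pCore p ↥(blk p f E) = (Cfsg.pCore p G).subgroupOf (blk p f E)

theorem Env.linBase (ev : Env p T M V Wz Kc f j) (sl : Slot p W (TH : Subgroup H) (M.map f) D X)
    (hTM : (TH : Subgroup H) ≤ M.map f) (np : NatPair F W D X) (hF : Fintype.card F = p ^ n)
    (hq : 2 < Fintype.card F) : LinBase p f (D ⊔ X) F n np.ρ := by
  classical
  set R := blk p f (D ⊔ X)
  let θ : ↥R →* SLtwo F := np.ρ.toMonoidHom.comp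
    ((f.comp R.subtype).codRestrict (D ⊔ X) fun x => blk_le_comap _ x.2)
  have hθ1 : ∀ x : ↥R, θ x = 1 ↔ f (x : G) = 1 := fun x => by
    simp only [θ, MonoidHom.comp_apply, MulEquiv.coe_toMonoidHom, map_eq_one_iff np.ρ np.ρ.injective]
    exact ⟨fun h => congrArg Subtype.val h, fun h => Subtype.ext h⟩
  have hθe : ∀ (x : ↥R) (h : ↥(D ⊔ X)), f (x : G) = h → θ x = np.ρ h := fun x h he => by
    simp only [θ, MonoidHom.comp_apply, MulEquiv.coe_toMonoidHom]
    exact congrArg np.ρ (Subtype.ext he)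
  refine ⟨hF, hq, ⟨θ, ?_, hθ1, hθe⟩, ?_⟩
  · rw [← pResidual_SL2 hF hq]
    refine le_antisymm ?_ ?_
    · have hres : Cfsg.pResidual p ↥R = ⊤ := by
        refine eq_top_iff.2 fun x _ => ?_
        have hle : R ≤ (Cfsg.pResidual p ↥R).map R.subtype := blk_le fun g hg hgE =>
          ⟨⟨g, mem_blk_of_coprime hg hgE⟩, Subgroup.subset_closure
            (show (orderOf (⟨g, mem_blk_of_coprime hg hgE⟩ : ↥R)).Coprime p by rwa [orderOf_mk]), rfl⟩
        obtain ⟨y, hy, he⟩ := hle x.2
        rwa [← show y = x from Subtype.ext he]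
      rintro _ ⟨x, rfl⟩
      exact Transfer.map_pResidual_le θ ⟨x, hres ▸ mem_top x, rfl⟩
    · rw [Cfsg.pResidual, Subgroup.closure_le]
      intro s hs
      obtain ⟨g, hg⟩ := ev.surj ((np.ρ.symm s : ↥(D ⊔ X)) : H)
      obtain ⟨e, -, heo, hee⟩ := exists_coprime_preimage f (a := g)
        (by rw [hg, orderOf_coe, MulEquiv.orderOf_eq]; exact hs)
      refine ⟨⟨e, mem_blk_of_coprime heo (by rw [hee, hg]; exact SetLike.coe_mem _)⟩, ?_⟩
      rw [hθe _ (np.ρ.symm s) (hee.trans hg), MulEquiv.apply_symm_apply]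
  · haveI := pCore_normal (G := G) (p := p)
    haveI := pCore_normal (G := ↥R) (p := p)
    refine le_antisymm ?_ (@PSolvable.le_pCore _ _ p _ inferInstance
      (PSolvable.pCore_isPGroup (G := G) (p := p)).comap_subtype)
    set K := ((Cfsg.pCore p ↥R).map R.subtype).map f with hK
    have hK0 : K = ⊥ := by
      refine sl.normal_p_eq_bot ev.model.std hTM ?_ (((PSolvable.pCore_isPGroup).map _).map _) ?_
      · rintro _ ⟨_, ⟨x, -, rfl⟩, rfl⟩
        exact blk_le_comap _ x.2
      · intro h hh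
        obtain ⟨g, rfl⟩ := ev.surj h
        have hRn : g ∈ normalizer (R : Set G) := mem_normalizer_iff_map_conj_eq.2 (by
          have h1 := blk_conj (p := p) (f := f) g (D ⊔ X)
          rw [show cnj (f g) (D ⊔ X) = D ⊔ X from mem_normalizer_iff_map_conj_eq.1 (le_normalizer hh)] at h1
          exact h1)
        have hQn : g ∈ normalizer (((Cfsg.pCore p ↥R).map R.subtype : Subgroup G) : Set G) :=
          Coprime.normalizer_le_normalizer_map_of_characteristic (K := R) (Cfsg.pCore p ↥R)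
            (hC := PSolvable.pCore_characteristic) hRn
        exact Subgroup.le_normalizer_map f ⟨g, hQn, rfl⟩
    intro x hx
    refine mem_subgroupOf.2 (ev.ker ▸ MonoidHom.mem_ker.2 ?_)
    exact mem_bot.1 (hK0 ▸ mem_map_of_mem f (mem_map_of_mem R.subtype hx))

end Cfsg.Agent.Lib.MinPush94
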