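import Cfsg.Agent.Lib.MinPush94.LinFacts
import Cfsg.Agent.Lib.Transfer.Abelian

/-!
# A linear block with one natural factor
-/

set_option autoImplicit false
set_option linter.unusedSectionVars false

namespace Cfsg.Agent.Lib.MinPush94

open Subgroup SL2Recog FFMin FFComp
open Cfsg.Agent.Lib Cfsg.Agent.Lib.FocalChar
open Cfsg.Agent.Lib.SL2 (SLtwo PSLtwo)
open scoped commutatorElement

universe u

variable {G : Type u} [Group G] [Finite G] {p : ℕ} [Fact p.Prime] {T M V : Subgroup G}
  {H W : Type u} [Group H] [Finite H] [AddCommGroup W] [Finite W] [DistribMulAction H W]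
  [FaithfulSMul H W] {f : G →* H} {j : W → G} {Wz Kc : Subgroup G}
  {TH : Sylow p H} {D X : Subgroup H} {L : Subgroup G}
  {F : Type} [Field F] [Fintype F] {n : ℕ}

/-- A central `p`-subgroup of a group generated by elements of order prime to `p` with abelian
Sylow subgroup is trivial. -/
theorem central_eq_bot {Γ : Type*} [Group Γ] [Finite Γ] (hgen : Cfsg.pResidual p Γ = ⊤)
    (P : Sylow p Γ) (hP : ∀ a ∈ (P : Subgroup Γ), ∀ b ∈ (P : Subgroup Γ), a * b = b * a)
    {K : Subgroup Γ} (hKP : K ≤ P) (hK : K ≤ center Γ) : K = ⊥ := by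
  have hc : IsMulCommutative (P : Subgroup Γ) := ⟨⟨fun a b => Subtype.ext (hP a a.2 b b.2)⟩⟩
  have hKd : K ≤ commutator Γ := by
    intro x hx
    let π := QuotientGroup.mk' (commutator Γ)
    have hall : ∀ y : Γ ⧸ commutator Γ, (orderOf y).Coprime p := by
      intro y
      obtain ⟨g, rfl⟩ := QuotientGroup.mk'_surjective _ y
      have hg : g ∈ Cfsg.pResidual p Γ := hgen ▸ mem_top g
      induction hg using Subgroup.closure_induction with
      | mem z hz => exact hz.coprime_dvd_left (orderOf_map_dvd π z)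
      | one => rw [map_one, orderOf_one]; exact Nat.coprime_one_left p
      | mul a b _ _ ha hb =>
        rw [map_mul]
        refine (ha.mul_left hb).coprime_dvd_left (Commute.orderOf_mul_dvd_mul_orderOf ?_)
        exact (commutatorElement_eq_one_iff_commute.1 (by
          rw [← map_commutatorElement]
          exact (QuotientGroup.eq_one_iff _).2
            (commutator_mem_commutator (mem_top a) (mem_top b))))
      | inv a _ ha => rwa [map_inv, orderOf_inv]
    refine (QuotientGroup.eq_one_iff x).1 ?_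
    obtain ⟨k, hk⟩ := (IsPGroup.iff_orderOf.1 P.2) ⟨x, hKP hx⟩
    rw [orderOf_mk] at hk
    exact orderOf_eq_one_iff.1 (Nat.eq_one_of_dvd_coprimes ((hall (π x)).pow_right k) dvd_rfl
      (hk ▸ orderOf_map_dvd π x))
  refine le_bot_iff.1 ?_
  rw [← Transfer.inf_commutator_inf_center_eq_bot (P : Subgroup Γ) hc P.card_coprime_index]
  exact le_inf (le_inf hKP hKd) hK

/-- The action of `SL₂` through the residual, on the block of a slot. -/
theorem LinBase.gen {E : Subgroup H} {ρ : ↥E ≃* SLtwo F} (lb : LinBase p f E F n ρ)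
    (ev : Env p T M V Wz Kc f j) (π : W →+ (Fin 2 → F)) (hker : ∀ v, π v = 0 ↔ v ∈ fx W E)
    (hsmul : ∀ (e : ↥E) (v : W),
      π ((e : H) • v) = ((ρ e : SLtwo F) : Matrix (Fin 2) (Fin 2) F).mulVec (π v))
    (hspan : fx W E ⊔ devSpan W E = ⊤) :
    (∀ e ∈ E, ∀ v : W, j (dev e v) ∈ ⁅jImg j (devSpan W E), blk p f E⁆) ∧
    ∀ w : W, (∀ x ∈ blk p f E, f x • w = w) → w ∈ fx W E := by
  classical
  obtain ⟨θ, hθr, -, hθe⟩ := lb.quot
  have hpre : ∀ h : ↥E, ρ h ∈ commutator (SLtwo F) → ∃ x ∈ blk p f E, f x = h := fun h hh => by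
    obtain ⟨x, hx⟩ := hθr.ge hh
    refine ⟨x, x.2, ?_⟩
    have hxE : f (x : G) ∈ E := blk_le_comap E x.2
    rw [hθe x ⟨_, hxE⟩ rfl] at hx
    exact congrArg Subtype.val (ρ.injective hx)
  have hstep : ∀ (h : ↥E), ρ h ∈ commutator (SLtwo F) → ∀ v : W,
      j (dev (h : H) v) ∈ ⁅jImg j (devSpan W E), blk p f E⁆ := by
    intro h hh v
    obtain ⟨x, hx, hxh⟩ := hpre h hh
    obtain ⟨u, hu, w, hw, rfl⟩ := AddSubgroup.mem_sup.1 (hspan ▸ AddSubgroup.mem_top v)
    rw [dev_add, dev_eq_zero h.2 hu, zero_add, ← hxh, ← ev.model.comm_eq, ← commutatorElement_inv]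
    exact inv_mem (commutator_mem_commutator (ev.model.mem_jImg.2 ⟨w, hw, rfl⟩) hx)
  rcases Nat.lt_or_ge (Fintype.card F) 4 with h4 | h4
  · -- the central involution
    have hp2 : p ≠ 2 := fun h => by
      have h1 := lb.card
      have := lb.big
      rw [h] at h1
      have h3 : Fintype.card F = 3 := by omega
      rw [h3] at h1
      rcases n.eq_zero_or_pos with rfl | hn
      · norm_num at h1
      · have := dvd_pow_self 2 hn.ne'
        omega
    set z : SLtwo F := -1 with hz
    have hzc : z ∈ commutator (SLtwo F) := by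
      rw [← pResidual_SL2 lb.card lb.big]
      refine Subgroup.subset_closure ?_
      have hd : orderOf z ∣ 2 := orderOf_dvd_of_pow_eq_one (by rw [hz, neg_one_sq])
      exact ((Nat.coprime_primes Nat.prime_two Fact.out).2 (Ne.symm hp2)).coprime_dvd_left hd
    set e0 : ↥E := ρ.symm z with he0
    have hρe0 : ρ e0 = z := ρ.apply_symm_apply z
    have hcomm : ∀ e : ↥E, e0 * e = e * e0 := fun e => ρ.injective (by
      rw [map_mul, map_mul, hρe0, hz, neg_one_mul, mul_neg_one])
    have hee : e0 * e0 = 1 := ρ.injective (by rw [map_mul, hρe0, hz, neg_mul_neg, one_mul, map_one])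
    obtain ⟨m, hm⟩ : ∃ m : ℕ, ∀ w : W, (2 * m) • w = w := by
      refine ⟨(p + 1) / 2, fun w => ?_⟩
      obtain ⟨k, hk⟩ := (Nat.Prime.odd_of_ne_two (Fact.out : p.Prime) hp2)
      rw [show 2 * ((p + 1) / 2) = p + 1 by omega, succ_nsmul, ev.model.exp, zero_add]
    have hfix0 : ∀ w : W, (e0 : H) • w = w → w ∈ fx W E := by
      intro w hw
      refine (hker w).1 ?_
      have h := hsmul e0 w
      rw [hw, hρe0, hz, Matrix.SpecialLinearGroup.coe_neg, Matrix.SpecialLinearGroup.coe_one,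
        Matrix.neg_mulVec, Matrix.one_mulVec] at h
      funext i
      have h2 := congrFun h i
      rw [Pi.neg_apply] at h2
      have hne : (2 : F) ≠ 0 := fun h0 => by
        have hc2 : CharP F 2 := CharTwo.of_one_ne_zero_of_two_eq_zero one_ne_zero h0
        have hch : CharP F p := charP_of_card_eq_prime_pow lb.card
        exact hp2 (CharP.eq F hch hc2)
      exact (mul_eq_zero.1 (show (2 : F) * π w i = 0 by linear_combination h2)).resolve_left hne
    have hsplit : ∀ v : W, (e0 : H) • (v + m • dev (e0 : H) v) = v + m • dev (e0 : H) v := by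
      intro v
      rw [← dev_eq_zero_iff, dev_add, show dev (e0 : H) (m • dev (e0 : H) v) = m • dev (e0 : H) (dev (e0 : H) v)
        from map_nsmul (devHom W (e0 : H)) m _]
      have h2 : dev (e0 : H) (dev (e0 : H) v) = -(2 • dev (e0 : H) v) := by
        have h3 : (e0 : H) • (e0 : H) • v = v := by
          rw [← mul_smul, ← Subgroup.coe_mul, hee, Subgroup.coe_one, one_smul]
        simp only [dev, smul_sub, h3]
        abel
      rw [h2, smul_neg, ← mul_nsmul, hm, add_neg_cancel]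
    refine ⟨fun e he v => ?_, fun w hw => hfix0 w ?_⟩
    · have hb := hfix0 _ (hsplit v)
      have e1 : dev e v = dev (e0 : H) (-(m • dev e v)) := by
        have h0 : dev e (v + m • dev (e0 : H) v) = 0 := dev_eq_zero he hb
        have hcm : (e0 : H) * e = e * (e0 : H) := congrArg Subtype.val (hcomm ⟨e, he⟩)
        rw [dev_add, show dev e (m • dev (e0 : H) v) = m • dev e (dev (e0 : H) v) from
          map_nsmul (devHom W e) m _, ← dev_comm hcm v] at h0
        rw [show dev (e0 : H) (-(m • dev e v)) = -(m • dev (e0 : H) (dev e v)) from by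
          rw [show dev (e0 : H) (-(m • dev e v)) = devHom W (e0 : H) (-(m • dev e v)) from rfl,
            map_neg, map_nsmul]; rfl]
        exact eq_neg_of_add_eq_zero_left h0
      rw [e1]
      exact hstep e0 (hρe0 ▸ hzc) _
    · obtain ⟨x, hx, hxe⟩ := hpre e0 (hρe0 ▸ hzc)
      rw [← hxe]; exact hw x hx
  · have htop := BTBlock.Subn.eq_top_of_four_le h4
    refine ⟨fun e he v => hstep ⟨e, he⟩ (htop ▸ mem_top _) v, fun w hw e he => ?_⟩
    obtain ⟨x, hx, hxe⟩ := hpre ⟨e, he⟩ (htop ▸ mem_top _)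
    rw [← show f x = e from hxe]; exact hw x hx

/-- What is known about a linear block. -/
structure LinData (p : ℕ) (T : Subgroup G) (R : Subgroup G) (F : Type) [Field F] [Fintype F] (n : ℕ) :
    Prop where
  card : Fintype.card F = p ^ n
  big : 2 < Fintype.card F
  quot : Nonempty (↥R ⧸ Cfsg.pCore p ↥R ≃* ↥(commutator (Matrix.SpecialLinearGroup (Fin 2) F)))
  acts : Cfsg.ActsAsSL2OnSection F (commutator (Matrix.SpecialLinearGroup (Fin 2) F)) R
    (Cfsg.omegaOneCenter p (Cfsg.pCoreOf p R))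
    (Cfsg.omegaOneCenter p (Cfsg.pCoreOf p R) ⊓ centralizer (R : Set G))
  alt : Cfsg.pCoreOf p R = Cfsg.omegaOneCenter p (Cfsg.pCoreOf p R) ∨
    (p = 3 ∧
      Cfsg.ActsAsSL2OnSection F (commutator (Matrix.SpecialLinearGroup (Fin 2) F)) R
        (Cfsg.pCoreOf p R) (Cfsg.omegaOneCenter p (Cfsg.pCoreOf p R)) ∧
      ⁅Cfsg.pCoreOf p R, Cfsg.pCoreOf p R⁆ =
        Cfsg.omegaOneCenter p (Cfsg.pCoreOf p R) ⊓ centralizer (R : Set G) ∧
      (frattini ↥(Cfsg.pCoreOf p R)).map (Cfsg.pCoreOf p R).subtype =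
        Cfsg.omegaOneCenter p (Cfsg.pCoreOf p R) ⊓ centralizer (R : Set G) ∧
      R ⊓ centralizer (R : Set G) = Cfsg.omegaOneCenter p (Cfsg.pCoreOf p R) ⊓ centralizer (R : Set G) ∧
      Nat.card ↥(R ⊓ centralizer (R : Set G)) = 3 ^ n ∧
      ∀ b : G, b ∈ Cfsg.baumannSubgroupOf p T →
        b ∉ centralizer (Cfsg.omegaOneCenter p (Cfsg.pCoreOf p R) : Set G) →
        ¬ ⁅⁅Cfsg.pCoreOf p R, zpowers b⁆, zpowers b⁆ ≤ R ⊓ centralizer (R : Set G))
  comm : ⁅Cfsg.pCoreOf p R, R⁆ = Cfsg.pCoreOf p R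

/-- The residual moves the core of `L` into the enlarged module in case one. -/
theorem Loc.comm_over (lc : Loc (W := W) p T M V Wz f (TH : Subgroup H) D X L)
    (ev : Env p T M V Wz Kc f j) {ψ : ↥L →* PSLtwo F} {U Q X' : Subgroup ↥L}
    (rk : Rk p (bMax p T) L F n ψ U Q X')
    (halt : U = normalClosure (RankOnePush.omegaZ p ((bMax p T).subgroupOf L) : Set ↥L))
    {x d : G} (hx : x ∈ L) (hxo : (orderOf x).Coprime p) (hd : d ∈ L)
    (hfd : f d ∈ others p W (TH : Subgroup H) D) : ⁅x, d⁆ ∈ Wz := by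
  have h1 := rk.setup.residual_U rk.small rk.shape (g := ⟨x, hx⟩)
    (Subgroup.subset_closure (show (orderOf (⟨x, hx⟩ : ↥L)).Coprime p by rwa [orderOf_mk])) _
    (lc.mem_core ev.ker hd hfd)
  rw [halt] at h1
  simpa [commutatorElement_def] using lc.vl_le ev.m2 h1

theorem Env.linData (ev : Env p T M V Wz Kc f j) (hst : Stab p V)
    (lc : Loc (W := W) p T M V Wz f (TH : Subgroup H) D X L) (hTM : (TH : Subgroup H) ≤ M.map f)
    (np : NatPair F W D X) (lb : LinBase p f (D ⊔ X) F n np.ρ)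
    {Y : Subgroup G} (hY : Lift p T f j D (others p W (TH : Subgroup H) D) Y)
    (hover : ∀ x d : G, x ∈ L → (orderOf x).Coprime p → d ∈ L → f d ∈ others p W (TH : Subgroup H) D →
      ⁅x, d⁆ ∈ Wz) : LinData p T (blk p f (D ⊔ X)) F n := by
  classical
  set E := D ⊔ X with hE
  set Wi := jImg j (devSpan W E) with hWi
  set R := blk p f E with hR
  set Q := Cfsg.pCore p G with hQdef
  set B := bMax p T with hB
  have hspan : fx W E ⊔ devSpan W E = ⊤ :=
    NatPair.span ev.model.std (lc.slot.part.oppPair ev.model.std ev.model.umax hTM lc.slot.mem)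
  have hker : ∀ v, np.π v = 0 ↔ v ∈ fx W E := fun v => by rw [np.ker, hE, fx_sup]
  obtain ⟨hgen, hfix⟩ := lb.gen ev np.π hker np.smul hspan
  have hWQ : ∀ x ∈ Wi, f x = 1 := fun x hx =>
    MonoidHom.mem_ker.1 (ev.ker ▸ ev.model.module.leQ (ev.jImg_le_V _ hx) : x ∈ f.ker)
  have hRW : R ≤ normalizer (Wi : Set G) := (blk_le_comap E).trans (ev.le_normalizer_jImg E)
  have hWR : Wi ≤ normalizer (R : Set G) := fun g hg => by
    refine mem_normalizer_iff_map_conj_eq.2 ?_
    have h1 := blk_conj (p := p) (f := f) g E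
    rw [hWQ g hg, cnj_one] at h1
    exact h1
  have hcomm : ⁅Wi, R⁆ = Wi := by
    refine le_antisymm (Subgroup.commutator_le.2 fun w hw e he => ?_) ?_
    · rw [show ⁅w, e⁆ = w * (e * w⁻¹ * e⁻¹) by simp only [commutatorElement_def]; group]
      exact mul_mem hw ((mem_normalizer_iff.1 (hRW he) _).1 (inv_mem hw))
    · intro x hx
      obtain ⟨u, hu, rfl⟩ := ev.model.mem_jImg.1 hx
      induction hu using AddSubgroup.closure_induction with
      | mem u hu => obtain ⟨e, he, v, rfl⟩ := hu; exact hgen e he v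
      | zero => rw [ev.model.jzero]; exact one_mem _
      | add a b _ _ ha hb =>
        rw [ev.model.jadd]
        exact mul_mem (ha (subset_closure ⟨a, by assumption, rfl⟩)) (hb (subset_closure ⟨b, by assumption, rfl⟩))
      | neg a _ ha =>
        rw [ev.model.jneg]
        exact inv_mem (ha (subset_closure ⟨a, by assumption, rfl⟩))
  have hWleR : Wi ≤ R := by
    rw [← hcomm]
    refine Subgroup.commutator_le.2 fun w hw e he => ?_
    rw [commutatorElement_def]
    exact mul_mem ((mem_normalizer_iff.1 (hWR hw) e).1 he) (inv_mem he)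
  have hel : ∀ x ∈ Wi, x ∈ Wz := fun x hx => ev.m2.W_eq ▸ mem_sup_left (ev.jImg_le_V _ hx)
  -- the residual of `L`
  have hres := lc.residual_eq ev
  have hRL : R ≤ L := hres.ge.trans (map_subtype_le _)
  -- elements of order prime to `p` move the core and `Q` into the module
  have hstab : ∀ x : G, (orderOf x).Coprime p → f x ∈ E → ∀ a : G,
      a ∈ normalizer (Wi : Set G) → (∃ k : ℕ, orderOf ⁅x, a⁆ = p ^ k) → ⁅x, a⁆ ∈ normalizer (Wi : Set G) →
      ⁅x, ⁅x, a⁆⁆ ∈ Wi → ⁅x, a⁆ ∈ Wi := fun x hxo hxE a _ hk hn h2 =>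
    mem_of_stable (d := a) hxo (ev.le_normalizer_jImg E hxE) hn hk
      (by simp only [commutatorElement_def]; group) (by rwa [← commutatorElement_def])
  have hfix1 : ∀ {a : G}, f a = 1 → a ∈ normalizer (Wi : Set G) := fun {a} ha =>
    ev.le_normalizer_jImg E (show f a ∈ E by rw [ha]; exact one_mem E)
  have hpQ : ∀ {a : G}, a ∈ Q → ∃ k : ℕ, orderOf a = p ^ k := fun {a} ha =>
    ((IsPGroup.iff_orderOf.1 (PSolvable.pCore_isPGroup (G := G) (p := p))) ⟨a, ha⟩).imp
      fun k hk => by rwa [orderOf_mk] at hk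
  have hcQ : ∀ x : G, (orderOf x).Coprime p → f x ∈ E → ∀ q ∈ Q, ⁅x, q⁆ ∈ Wi := by
    intro x hxo hxE q hq
    obtain ⟨w, hw⟩ := ev.model.jsurj _ (hst x hxo q hq)
    have hq1 : ∀ {a}, a ∈ Q → f a = 1 := fun {a} ha => MonoidHom.mem_ker.1 (ev.ker ▸ ha : a ∈ f.ker)
    have hxq : ⁅x, q⁆ ∈ Q := ev.model.module.leQ (hst x hxo q hq)
    refine hstab x hxo hxE q (hfix1 (hq1 hq)) (hpQ hxq) (hfix1 (hq1 hxq)) ?_
    rw [← hw, ev.model.comm_eq]
    exact Subgroup.subset_closure ⟨_, dev_mem_devSpan hxE w, rfl⟩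
  have hWzQ : ∀ {a : G}, a ∈ Wz → f a = 1 := fun {a} ha => MonoidHom.mem_ker.1 (by
    rw [ev.model.ker]
    exact mem_centralizer_iff.2 fun v hv =>
      el_comm ev.m2.elW (ev.m2.W_eq ▸ mem_sup_left hv) ha)
  have hcD : ∀ x : G, (orderOf x).Coprime p → f x ∈ E → ∀ d ∈ B,
      f d ∈ others p W (TH : Subgroup H) D → ⁅x, d⁆ ∈ Wi := by
    intro x hxo hxE d hd hfd
    have hxR : x ∈ R := mem_blk_of_coprime hxo hxE
    have hxL : x ∈ L := hRL hxR
    have ha := hover x d hxL hxo (lc.bMax_le hd) hfd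
    have haQ : ⁅x, d⁆ ∈ Q := by rw [hQdef, ← ev.ker, MonoidHom.mem_ker]; exact hWzQ ha
    refine hstab x hxo hxE d ?_ (hpQ haQ) (hfix1 (hWzQ ha)) ?_
    · refine mem_normalizer_iff_map_conj_eq.2 (Subgroup.eq_of_le_of_card_ge ?_
        (card_map_of_injective (MulAut.conj d).injective).ge)
      rintro _ ⟨y, hy, rfl⟩
      refine ev.conj_mem_jImg (le_of_eq ?_) hy
      exact cnj_eq_of_comm (fun e he o ho => lc.slot.comm e he o ho) hfd
    · obtain ⟨v, hv, hev⟩ := lc.comm_wz ha hxL
      obtain ⟨w, rfl⟩ := ev.model.jsurj v hv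
      rw [hev, ev.model.comm_eq]
      exact Subgroup.subset_closure ⟨_, dev_mem_devSpan hxE w, rfl⟩
  -- the intersection with `Q`
  have hRQ : R ⊓ Q ≤ Wi := by
    haveI hWn : (Wi.subgroupOf R).Normal := normal_subgroupOf_of_le_normalizer hRW
    let π := QuotientGroup.mk' (Wi.subgroupOf R)
    have hgenR : Cfsg.pResidual p ↥R = ⊤ := by
      refine eq_top_iff.2 fun x _ => ?_
      have hle : R ≤ (Cfsg.pResidual p ↥R).map R.subtype := blk_le fun g hg hgE =>
        ⟨⟨g, mem_blk_of_coprime hg hgE⟩, Subgroup.subset_closure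
          (show (orderOf (⟨g, mem_blk_of_coprime hg hgE⟩ : ↥R)).Coprime p by rwa [orderOf_mk]), rfl⟩
      obtain ⟨y, hy, he⟩ := hle x.2
      rwa [← show y = x from Subtype.ext he]
    have hgenΓ : Cfsg.pResidual p (↥R ⧸ Wi.subgroupOf R) = ⊤ := by
      refine eq_top_iff.2 ?_
      rw [← map_top_of_surjective π (QuotientGroup.mk'_surjective _), ← hgenR]
      exact Transfer.map_pResidual_le π
    set K := (Q.subgroupOf R).map π with hK
    have hcK : K ≤ center _ := by
      rintro _ ⟨q, hq, rfl⟩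
      refine mem_center_iff.2 fun y => ?_
      obtain ⟨g, rfl⟩ := QuotientGroup.mk'_surjective _ y
      have hle : R ≤ ((centralizer ({π q} : Set _)).comap π).map R.subtype := blk_le fun x hxo hxE => by
        refine ⟨⟨x, mem_blk_of_coprime hxo hxE⟩, mem_centralizer_singleton_iff.2 ?_, rfl⟩
        rw [← commutatorElement_eq_one_iff_mul_comm, ← map_commutatorElement]
        exact (QuotientGroup.eq_one_iff _).2 (mem_subgroupOf.2
          (by simpa [commutatorElement_def] using hcQ x hxo hxE q hq))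
      obtain ⟨g', hg', hge⟩ := hle g.2
      rw [← show g' = g from Subtype.ext hge]
      exact mem_centralizer_singleton_iff.1 hg'
    -- a Sylow subgroup of the residual
    have hBp : IsPGroup p (B.subgroupOf L) :=
      (ev.model.hyp0.pgroup.to_le bMax_le_S).of_equiv (subgroupOfEquivOfLe lc.bMax_le).symm
    let P1 : Sylow p ↥L :=
      { toSubgroup := B.subgroupOf L
        isPGroup' := hBp
        is_maximal' := fun {Z} hZ hle => le_antisymm (fun x hx => mem_subgroupOf.2
          (lc.sylow _ (map_subtype_le Z) (hZ.map _)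
            (fun y hy => ⟨⟨y, lc.bMax_le hy⟩, hle hy, rfl⟩) (mem_map_of_mem L.subtype hx))) hle }
    haveI : (Cfsg.pResidual p ↥L).Characteristic := Transfer.pResidual_characteristic
    have hRLn : (R.subgroupOf L).Normal := by
      rw [show R = Cfsg.pResidualOf p L from hres.symm, Cfsg.pResidualOf, subgroupOf, comap_map_eq_self_of_injective L.subtype_injective]
      infer_instance
    obtain ⟨PR, hPR⟩ : ∃ PR : Sylow p ↥R, (PR : Subgroup ↥R) = B.subgroupOf R := by
      have hp0 : IsPGroup p (B.subgroupOf R) :=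
        (ev.model.hyp0.pgroup.to_le bMax_le_S).comap_subtype
      obtain ⟨PR, hPR⟩ := hp0.exists_le_sylow
      refine ⟨PR, (Subgroup.eq_of_le_of_card_ge hPR ?_).symm⟩
      obtain ⟨S, hS⟩ := (PR.2.map (inclusion hRL)).exists_le_sylow
      obtain ⟨l, hl⟩ := MulAction.exists_smul_eq ↥L S P1
      have hle : (PR : Subgroup ↥R).map (inclusion hRL) ≤ cnj l⁻¹ ((B ⊓ R).subgroupOf L) := by
        rintro _ ⟨x, hx, rfl⟩
        rw [mem_cnj, inv_inv, mem_subgroupOf]
        refine ⟨?_, ?_⟩
        · have h1 : l * inclusion hRL x * l⁻¹ ∈ (P1 : Subgroup ↥L) := by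
            rw [← hl, coe_smul_sylow, mem_cnj]
            simpa [mul_assoc] using hS (mem_map_of_mem _ hx)
          exact h1
        · exact (hRLn.conj_mem (inclusion hRL x) (show (x : G) ∈ R from x.2) l)
      calc Nat.card (PR : Subgroup ↥R) = Nat.card ((PR : Subgroup ↥R).map (inclusion hRL)) :=
            (card_map_of_injective (inclusion_injective hRL)).symm
        _ ≤ Nat.card ↥(cnj l⁻¹ ((B ⊓ R).subgroupOf L)) := card_le_of_le hle
        _ = Nat.card ↥(B.subgroupOf R) := by
          rw [card_cnj, Nat.card_congr (subgroupOfEquivOfLe (inf_le_right.trans hRL)).toEquiv,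
            ← inf_subgroupOf_right B R,
            Nat.card_congr (subgroupOfEquivOfLe (inf_le_right : B ⊓ R ≤ R)).toEquiv]
    have habel : ∀ a b : ↥R, (a : G) ∈ B → (b : G) ∈ B → ⁅(a : G), (b : G)⁆ ∈ Wi := by
      intro a b ha hb
      have hWiD : ∀ {y x}, y ∈ Y → x ∈ B → ⁅y, x⁆ ∈ Wi := fun {y x} hy hx =>
        Subgroup.closure_mono (Set.image_mono fun w hw => devSpan_le
          (fun d hd v => dev_mem_devSpan (mem_sup_left hd) v) hw) (hY.commB y hy x hx)
      have hnY : ∀ {y}, y ∈ Y → y ∈ normalizer (Wi : Set G) := fun {y} hy => by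
        obtain ⟨d, hd, o, ho, he⟩ := hY.img y hy
        refine mem_normalizer_iff_map_conj_eq.2 (Subgroup.eq_of_le_of_card_ge ?_
          (card_map_of_injective (MulAut.conj y).injective).ge)
        rintro _ ⟨z, hz, rfl⟩
        refine ev.conj_mem_jImg (le_of_eq ?_) hz
        rw [he, ← cnj_cnj, cnj_eq_of_comm (fun e he o ho => lc.slot.comm e he o ho) ho]
        exact mem_normalizer_iff_map_conj_eq.1 (le_normalizer (H := D ⊔ X) (mem_sup_left hd))
      obtain ⟨y, hy, d, hdB, hdo, hyd⟩ := hY.cover _ ha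
      obtain ⟨y', hy', d', hd'B, hd'o, hyd'⟩ := hY.cover _ hb
      have haC : ∀ e ∈ B, f e ∈ others p W (TH : Subgroup H) D → ⁅(a : G), e⁆ ∈ Wi := by
        intro e he hfe
        have hen : e ∈ normalizer (Wi : Set G) := by
          refine mem_normalizer_iff_map_conj_eq.2 (Subgroup.eq_of_le_of_card_ge ?_
            (card_map_of_injective (MulAut.conj e).injective).ge)
          rintro _ ⟨z, hz, rfl⟩
          exact ev.conj_mem_jImg (le_of_eq (cnj_eq_of_comm (fun u hu o ho => lc.slot.comm u hu o ho) hfe)) hz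
        let C : Subgroup G :=
          { carrier := {g | g ∈ normalizer (Wi : Set G) ∧ ⁅g, e⁆ ∈ Wi}
            one_mem' := ⟨one_mem _, by rw [commutatorElement_one_left]; exact one_mem _⟩
            mul_mem' := fun {g g'} hg hg' => ⟨mul_mem hg.1 hg'.1, by
              rw [show ⁅g * g', e⁆ = g * ⁅g', e⁆ * g⁻¹ * ⁅g, e⁆ by simp only [commutatorElement_def]; group]
              exact mul_mem ((mem_normalizer_iff.1 hg.1 _).1 hg'.2) hg.2⟩
            inv_mem' := fun {g} hg => ⟨inv_mem hg.1, by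
              rw [show ⁅g⁻¹, e⁆ = g⁻¹ * ⁅g, e⁆⁻¹ * g⁻¹⁻¹ by simp only [commutatorElement_def]; group]
              exact (mem_normalizer_iff.1 (inv_mem hg.1) _).1 (inv_mem hg.2)⟩ }
        exact ((blk_le fun x hxo hxE =>
          (⟨ev.le_normalizer_jImg E hxE, hcD x hxo hxE e he hfe⟩ : x ∈ C)) a.2 : (a : G) ∈ C).2
      have hay : ⁅(a : G), y'⁆ ∈ Wi := by
        rw [← hyd, show ⁅y * d, y'⁆ = y * ⁅d, y'⁆ * y⁻¹ * ⁅y, y'⁆ by
          simp only [commutatorElement_def]; group,
          commutatorElement_eq_one_iff_mul_comm.2 (hY.comm y hy y' hy'), mul_one, ← commutatorElement_inv]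
        exact (mem_normalizer_iff.1 (hnY hy) _).1 (inv_mem (hWiD hy' hdB))
      rw [show (b : G) = y' * d' from hyd'.symm, show ⁅(a : G), y' * d'⁆ = ⁅(a : G), y'⁆ * (y' * ⁅(a : G), d'⁆ * y'⁻¹) by
        simp only [commutatorElement_def]; group]
      exact mul_mem hay ((mem_normalizer_iff.1 (hnY hy') _).1 (haC d' hd'B hd'o))
    let PΓ : Sylow p (↥R ⧸ Wi.subgroupOf R) := PR.mapSurjective (QuotientGroup.mk'_surjective _)
    have hK0 : K = ⊥ := by
      refine central_eq_bot hgenΓ PΓ ?_ ?_ hcK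
      · rw [Sylow.coe_mapSurjective, hPR]
        rintro _ ⟨a, ha, rfl⟩ _ ⟨b, hb, rfl⟩
        rw [← commutatorElement_eq_one_iff_mul_comm, ← map_commutatorElement]
        exact (QuotientGroup.eq_one_iff _).2 (mem_subgroupOf.2
          (by simpa [commutatorElement_def] using habel a b ha hb))
      · rw [Sylow.coe_mapSurjective, hK]
        refine map_mono ?_
        haveI := pCore_normal (G := G) (p := p)
        exact (@PSolvable.le_pCore _ _ p (Q.subgroupOf R) inferInstance
          (PSolvable.pCore_isPGroup (G := G) (p := p)).comap_subtype).trans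
          (PSolvable.pCore_le_sylow PR)
    intro x hx
    have h1 : π ⟨x, hx.1⟩ ∈ K := mem_map_of_mem π (show (⟨x, hx.1⟩ : ↥R) ∈ Q.subgroupOf R from hx.2)
    rw [hK0, mem_bot] at h1
    exact mem_subgroupOf.1 ((QuotientGroup.eq_one_iff _).1 h1)
  -- conclusions
  have hcore : Cfsg.pCoreOf p R = Wi := by
    rw [Cfsg.pCoreOf, lb.core]
    refine le_antisymm ?_ fun x hx => ⟨⟨x, hWleR hx⟩, ev.model.module.leQ (ev.jImg_le_V _ hx), rfl⟩
    rintro _ ⟨x, hx, rfl⟩
    exact hRQ ⟨x.2, hx⟩
  have homega : Cfsg.omegaOneCenter p Wi = Wi := by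
    obtain ⟨h1, -, -⟩ := BTBlock.omegaOneCenter_props p Wi
    refine le_antisymm h1 fun x hx => Subgroup.subset_closure ⟨⟨hx, mem_centralizer_iff.2 fun y hy =>
      el_comm ev.m2.elW (hel y hy) (hel x hx)⟩, ev.m2.elW.2 x (hel x hx)⟩
  obtain ⟨θ, hθr, hθ1, hθe⟩ := lb.quot
  refine ⟨lb.card, lb.big, ?_, ?_, Or.inl (by rw [hcore, homega]), by rw [hcore, hcomm]⟩
  · have hk : θ.ker = Cfsg.pCore p ↥R := by
      rw [lb.core]
      ext x
      rw [MonoidHom.mem_ker, hθ1, mem_subgroupOf, ← ev.ker, MonoidHom.mem_ker]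
    exact ⟨((QuotientGroup.quotientMulEquivOfEq hk.symm).trans
      (QuotientGroup.quotientKerEquivRange θ)).trans (MulEquiv.subgroupCongr hθr)⟩
  · rw [hcore, homega]
    have hinv : ∀ u : ↥Wi, ∃ w ∈ devSpan W E, j w = u := fun u => ev.model.mem_jImg.1 u.2
    choose w hw hwu using hinv
    let ψ : ↥Wi →* Multiplicative (Fin 2 → F) :=
      { toFun := fun u => Multiplicative.ofAdd (np.π (w u))
        map_one' := by
          rw [show w 1 = 0 from ev.model.jinj (by rw [hwu, ev.model.jzero]; rfl), map_zero]; rfl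
        map_mul' := fun a b => by
          rw [show w (a * b) = w a + w b from ev.model.jinj (by rw [hwu, ev.model.jadd, hwu, hwu]; rfl),
            map_add]
          rfl }
    refine ⟨hRW, inf_le_left, θ, ψ, hθr, fun v => ?_, fun u => ?_, fun e u => ?_⟩
    · obtain ⟨x, hx⟩ := np.surj (Multiplicative.toAdd v)
      obtain ⟨a, ha, b, hb, rfl⟩ := AddSubgroup.mem_sup.1 (hspan ▸ AddSubgroup.mem_top x)
      refine ⟨⟨j b, Subgroup.subset_closure ⟨b, hb, rfl⟩⟩, ?_⟩
      show Multiplicative.ofAdd (np.π (w _)) = v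
      rw [show w _ = b from ev.model.jinj (hwu _)]
      rw [map_add, (hker a).2 ha, zero_add] at hx
      rw [hx]; rfl
    · show Multiplicative.ofAdd (np.π (w u)) = 1 ↔ _
      rw [← ofAdd_zero, Multiplicative.ofAdd.injective.eq_iff, hker]
      constructor
      · intro h
        refine ⟨u.2, mem_centralizer_iff.2 fun x hx => ?_⟩
        have h1 := h _ (blk_le_comap E hx)
        rw [ev.model.smul_eq_iff, hwu] at h1
        exact h1
      · intro h
        refine hfix _ fun x hx => ?_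
        rw [ev.model.smul_eq_iff, hwu]
        exact mem_centralizer_iff.1 h.2 x hx
    · have hm : (e : G) * u * (e : G)⁻¹ ∈ Wi := (mem_normalizer_iff.1 (hRW e.2) _).1 u.2
      refine ⟨⟨_, hm⟩, rfl, ?_⟩
      show np.π (w ⟨_, hm⟩) = _
      rw [show w ⟨_, hm⟩ = f (e : G) • w u from ev.model.jinj (by rw [hwu, ev.model.equiv, hwu]),
        np.smul ⟨f (e : G), blk_le_comap E e.2⟩, hθe e ⟨f (e : G), blk_le_comap E e.2⟩ rfl]
      rfl

end Cfsg.Agent.Lib.MinPush94
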