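import Cfsg.Agent.Lib.MinPush94.Setup
import Cfsg.Agent.Lib.PushingUp.Setup
import Cfsg.Agent.Lib.Transfer.PResidual

/-!
# A rank one subgroup over `B(T)` for each member
-/

set_option autoImplicit false
set_option linter.unusedSectionVars false

namespace Cfsg.Agent.Lib.MinPush94

open Subgroup SL2Recog FFMin FFComp
open Cfsg.Agent.Lib Cfsg.Agent.Lib.FocalChar
open scoped commutatorElement

universe u

variable {G : Type u} [Group G] [Finite G] {p : ℕ} [Fact p.Prime] {T M V : Subgroup G}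
  {H W : Type u} [Group H] [Finite H] [AddCommGroup W] [Finite W] [DistribMulAction H W]
  [FaithfulSMul H W] {f : G →* H} {j : W → G} {Wz Kc : Subgroup G}
  {TH : Sylow p H} {D X L : Subgroup H}

theorem pCore_normal : (Cfsg.pCore p G).Normal :=
  @Subgroup.normal_of_characteristic _ _ _ PSolvable.pCore_characteristic

namespace Model

variable (c : Model p T M V f j) (m2 : Module2 p T V Wz Kc)

include c

theorem core_le_T : Cfsg.pCore p G ≤ T := c.hyp0.pre.core_le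

include m2

theorem V_le_Wz : V ≤ Wz := m2.W_eq ▸ le_sup_left

theorem zMax_le_Wz : zMax p T ≤ Wz := m2.W_eq ▸ le_sup_right

/-- The part of `O_p` centralizing the enlarged module. -/
theorem core_inf_bMax : Cfsg.pCore p G ⊓ bMax p T = Cfsg.pCore p G ⊓ centralizer (Wz : Set G) := by
  refine le_antisymm (le_inf inf_le_left fun q hq => mem_centralizer_iff.2 fun w hw => ?_)
    fun q hq => ⟨hq.1, c.core_le_T hq.1, centralizer_le (c.zMax_le_Wz m2) hq.2⟩
  have hle : Wz ≤ centralizer ({q} : Set G) := by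
    rw [m2.W_eq]
    exact sup_le (fun v hv => mem_centralizer_singleton_iff.2
        (mem_centralizer_iff.1 (c.module.centV hq.1) v hv))
      fun z hz => mem_centralizer_singleton_iff.2 (mem_centralizer_iff.1 hq.2.2 z hz)
  exact mem_centralizer_singleton_iff.1 (hle hw)

theorem normal_core_inf_bMax : (Cfsg.pCore p G ⊓ bMax p T).Normal := by
  rw [c.core_inf_bMax m2]
  haveI := pCore_normal (G := G) (p := p)
  haveI := m2.normalW
  infer_instance

theorem V_le_core_inf_bMax : V ≤ Cfsg.pCore p G ⊓ bMax p T := by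
  rw [c.core_inf_bMax m2]
  exact le_inf c.module.leQ fun v hv => mem_centralizer_iff.2 fun w hw =>
    el_comm m2.elW hw (c.V_le_Wz m2 hv)

theorem coprime_mem_Kc {x : G} (hx : (orderOf x).Coprime p) : x ∈ Kc :=
  haveI := m2.normalK
  c.hyp0.pre.coprime_mem m2.top hx

end Model

/-- The rank one subgroup belonging to a member. -/
structure Loc (p : ℕ) (T M V Wz : Subgroup G) (f : G →* H) (TH : Subgroup H) (D X : Subgroup H)
    (L : Subgroup G) : Prop where
  slot : Slot p W TH (M.map f) D X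
  bMax_le : bMax p T ≤ L
  img : L.map f = (D ⊔ X) ⊔ others p W TH D
  notM : ¬ L ≤ M
  min : ∀ K : Subgroup G, K ≤ L → bMax p T ≤ K → ¬ K ≤ M → K = L
  comm : ∀ q ∈ Cfsg.pCore p G, ∀ x ∈ L, ⁅q, x⁆ ∈ Cfsg.pCore p G ⊓ bMax p T
  fixY : ∀ w ∈ Wz, ∃ v ∈ V, ∃ y : G, w = v * y ∧ ∀ x ∈ L, x * y = y * x
  sylow : ∀ Y : Subgroup G, Y ≤ L → IsPGroup p Y → bMax p T ≤ Y → Y ≤ bMax p T
  core_le : Cfsg.pCore p G ⊓ L ≤ bMax p T
  cent : centralizer (Cfsg.pCore p ↥L : Set ↥L) ≤ Cfsg.pCore p ↥L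

theorem Model.exists_loc (c : Model p T M V f j) (m2 : Module2 p T V Wz Kc)
    (hTH : (TH : Subgroup H) = T.map f) {D : Subgroup H}
    (hD : D ∈ members p W (TH : Subgroup H)) :
    ∃ (X : Subgroup H) (L : Subgroup G),
      Loc (W := W) p T M V Wz f (TH : Subgroup H) D X L := by
  classical
  have hTM : (TH : Subgroup H) ≤ M.map f := hTH.le.trans (map_mono c.hyp0.le)
  obtain ⟨X, sl⟩ := exists_slot c.std c.umax hTM hD
  refine ⟨X, ?_⟩
  set Q := Cfsg.pCore p G with hQ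
  haveI hQn : Q.Normal := pCore_normal
  haveI := c.module.normalV
  haveI := m2.normalW
  set B := bMax p T with hB
  set Z := zMax p T with hZ
  set P := memSup p W (TH : Subgroup H) with hP
  have himg : B.map f = P := c.image_bMax hTH
  obtain ⟨b, hbX, hbM, hbP⟩ := sl.move
  -- a lift of `b` in a conjugate of `B`
  obtain ⟨S, hS⟩ := sl.part.slot.mem.elem.isPGroup.exists_le_sylow
  obtain ⟨h, hh⟩ := MulAction.exists_smul_eq H S TH
  obtain ⟨k, hk⟩ := c.surj h⁻¹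
  have hXP : cnj h X ≤ P := le_sSup ⟨sl.part.slot.mem.cnj h, by
    rw [← hh, coe_smul_sylow]; exact cnj_mono h hS⟩
  obtain ⟨β, hβ, hβe⟩ : h * b * h⁻¹ ∈ B.map f := himg ▸ hXP (mem_map_of_mem _ hbX)
  set g := k * β * k⁻¹ with hg
  have hgb : f g = b := by
    rw [hg, map_mul, map_mul, map_inv, hk, hβe]; group
  -- every element of `zMax` is corrected to commute with `g`
  have hfix : ∀ z ∈ Z, ∃ a ∈ V, a ∈ Z ∧ g * (a⁻¹ * z) * g⁻¹ = a⁻¹ * z := by
    intro z hz
    have hz' : k⁻¹ * z * k ∈ Wz := by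
      simpa using m2.normalW.conj_mem z (c.zMax_le_Wz m2 hz) k⁻¹
    rw [m2.W_eq, mem_sup_of_normal_left] at hz'
    obtain ⟨v₀, hv₀, z₀, hz₀, hvz⟩ := hz'
    have hv₁ : k * v₀ * k⁻¹ ∈ V := c.module.normalV.conj_mem v₀ hv₀ k
    obtain ⟨w, hw⟩ := c.jsurj _ hv₁
    have hz1 : g * (k * z₀ * k⁻¹) * g⁻¹ = k * z₀ * k⁻¹ := by
      rw [hg, show k * β * k⁻¹ * (k * z₀ * k⁻¹) * (k * β * k⁻¹)⁻¹ = k * (β * z₀ * β⁻¹) * k⁻¹ by group,
        ← mem_centralizer_iff.1 hβ.2 z₀ hz₀, mul_inv_cancel_right]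
    obtain ⟨u, hu, hwu⟩ := sl.cover w
    have hdev : dev b w = dev b u := by
      have h1 : dev b (w - u) = 0 := dev_eq_zero hbX hwu
      rwa [FFMin.dev_sub, sub_eq_zero] at h1
    have hzeq : z = j w * (k * z₀ * k⁻¹) := by
      rw [hw, show k * v₀ * k⁻¹ * (k * z₀ * k⁻¹) = k * (v₀ * z₀) * k⁻¹ by group, hvz]; group
    have haZ : j u ∈ Z := c.module.fixP _ (c.jmem u) fun A hA => c.mem_fx_iff.1
      (fx_anti (le_memSup_of_off c.exp c.std.hyp (hTH ▸ map_mono hA.1) (c.off A hA).1 (c.off A hA).2) hu)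
    refine ⟨j u, c.jmem u, haZ, ?_⟩
    have e2 : g * j w * g⁻¹ = g * j u * g⁻¹ * (j u)⁻¹ * j w := by
      rw [← c.j_dev g u, hgb, ← hdev, ← hgb, c.j_dev g w, inv_mul_cancel_right]
    calc g * ((j u)⁻¹ * z) * g⁻¹
        = (g * j u * g⁻¹)⁻¹ * (g * j w * g⁻¹) * (g * (k * z₀ * k⁻¹) * g⁻¹) := by rw [hzeq]; group
      _ = (j u)⁻¹ * z := by rw [e2, hz1, hzeq]; group
  set N := B ⊔ B.map (MulAut.conj g).toMonoidHom with hN
  have hfixY : ∀ w ∈ Wz, ∃ v ∈ V, ∃ y : G, w = v * y ∧ ∀ x ∈ N, x * y = y * x := by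
    intro w hw
    rw [m2.W_eq, mem_sup_of_normal_left] at hw
    obtain ⟨v, hv, z, hz, rfl⟩ := hw
    obtain ⟨a, haV, haZ, hgy⟩ := hfix z hz
    refine ⟨v * a, mul_mem hv haV, a⁻¹ * z, by group, fun x hx => ?_⟩
    have hyZ : a⁻¹ * z ∈ Z := mul_mem (inv_mem haZ) hz
    have hle : N ≤ centralizer ({a⁻¹ * z} : Set G) := sup_le
      (fun x hx => mem_centralizer_singleton_iff.2 (mem_centralizer_iff.1 hx.2 _ hyZ).symm) (by
        rintro _ ⟨x, hx, rfl⟩
        refine mem_centralizer_singleton_iff.2 ?_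
        show g * x * g⁻¹ * (a⁻¹ * z) = a⁻¹ * z * (g * x * g⁻¹)
        conv_lhs => rw [← hgy]
        conv_rhs => rw [← hgy]
        rw [show g * x * g⁻¹ * (g * (a⁻¹ * z) * g⁻¹) = g * (x * (a⁻¹ * z)) * g⁻¹ by group,
          ← mem_centralizer_iff.1 hx.2 _ hyZ]
        group)
    exact mem_centralizer_singleton_iff.1 (hle hx)
  have hNK : N.map f ≤ (D ⊔ X) ⊔ others p W (TH : Subgroup H) D := by
    have hPK : P ≤ (D ⊔ X) ⊔ others p W (TH : Subgroup H) D := by
      rw [hP, ← sl.sup]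
      exact sup_le le_sup_right (le_sup_left.trans le_sup_left)
    rw [hN, Subgroup.map_sup, himg, map_map]
    refine sup_le hPK ?_
    rintro _ ⟨x, hx, rfl⟩
    show f (g * x * g⁻¹) ∈ _
    have hbK : b ∈ (D ⊔ X) ⊔ others p W (TH : Subgroup H) D := mem_sup_left (mem_sup_right hbX)
    rw [map_mul, map_mul, map_inv, hgb]
    exact mul_mem (mul_mem hbK (hPK (himg.le (mem_map_of_mem f hx)))) (inv_mem hbK)
  have hNM : ¬ N ≤ M := by
    intro hle
    refine hbP ?_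
    rintro _ ⟨y, hy, rfl⟩
    obtain ⟨x, hx, rfl⟩ := himg.ge hy
    refine ⟨g * x * g⁻¹, hle (mem_sup_right ⟨x, hx, rfl⟩), ?_⟩
    simp [hgb]
  obtain ⟨L, ⟨hBL, hLN, hLM⟩, hmin⟩ := (wellFounded_lt (α := Subgroup G)).has_min
    {L | B ≤ L ∧ L ≤ N ∧ ¬ L ≤ M} ⟨N, le_sup_left, le_rfl, hNM⟩
  have hLimg : L.map f = (D ⊔ X) ⊔ others p W (TH : Subgroup H) D :=
    sl.gen _ ((map_mono hLN).trans hNK) (himg.ge.trans (map_mono hBL))
      fun hle => hLM fun x hx => c.mem_M (hle (mem_map_of_mem f hx))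
  have hCW : ∀ x ∈ L, x ∈ centralizer (V : Set G) → x ∈ centralizer (Wz : Set G) :=
    fun x hx hxV => mem_centralizer_iff.2 fun w hw => by
      obtain ⟨v, hv, y, rfl, hy⟩ := hfixY w hw
      rw [mul_assoc, ← hy x (hLN hx), ← mul_assoc, mem_centralizer_iff.1 hxV v hv, mul_assoc]
  have hQB : Q ⊓ L ≤ B := fun q hq => by
    have h1 : q ∈ Q ⊓ centralizer (Wz : Set G) :=
      ⟨hq.1, hCW q hq.2 (c.module.centV hq.1)⟩
    exact ((c.core_inf_bMax m2).ge h1).2
  have hNq : ∀ q ∈ Q, q ∈ normalizer (N : Set G) := by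
    intro q hq
    have hBn : ∀ a ∈ Q, B.map (MulAut.conj a).toMonoidHom = B := fun a ha => by
      have := bMax_char (p := p) (S := T)
      exact mem_normalizer_iff_map_conj_eq.1
        ((normal_subgroupOf_iff_le_normalizer bMax_le_S).1 inferInstance (c.core_le_T ha))
    refine mem_normalizer_iff_map_conj_eq.2 ?_
    have e : ((B.map (MulAut.conj g).toMonoidHom).map (MulAut.conj q).toMonoidHom) =
        (B.map (MulAut.conj (g⁻¹ * q * g)).toMonoidHom).map (MulAut.conj g).toMonoidHom := by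
      rw [map_map, map_map]; congr 1; ext x; simp [mul_assoc]
    rw [hN, Subgroup.map_sup]
    refine congrArg₂ (· ⊔ ·) (hBn q hq) (e.trans ?_)
    exact congrArg (Subgroup.map (MulAut.conj g).toMonoidHom)
      (hBn _ (by simpa using hQn.conj_mem q hq g⁻¹))
  have hcomm : ∀ q ∈ Q, ∀ x ∈ L, ⁅q, x⁆ ∈ Q ⊓ B := by
    intro q hq x hx
    have hqx : ⁅q, x⁆ ∈ Q := by
      rw [show ⁅q, x⁆ = q * (x * q⁻¹ * x⁻¹) by rw [commutatorElement_def]; group]
      exact mul_mem hq (hQn.conj_mem _ (inv_mem hq) x)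
    rw [c.core_inf_bMax m2]
    refine ⟨hqx, mem_centralizer_iff.2 fun w hw => ?_⟩
    obtain ⟨v, hv, y, rfl, hy⟩ := hfixY w hw
    have hcy : ⁅q, x⁆ * y = y * ⁅q, x⁆ := by
      have hn := mem_normalizer_iff.1 (inv_mem (hNq q hq))
      have hxN : q⁻¹ * (q * x * q⁻¹) * q ∈ N := by simpa [mul_assoc] using hLN hx
      have h1 : q * x * q⁻¹ ∈ N := (hn _).2 (by simpa using hxN)
      rw [show ⁅q, x⁆ = (q * x * q⁻¹) * x⁻¹ by rw [commutatorElement_def]]
      exact ((show Commute (q * x * q⁻¹) y from hy _ h1).mul_left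
        (show Commute x⁻¹ y from hy _ (inv_mem (hLN hx)))).eq
    rw [mul_assoc, ← hcy, ← mul_assoc, mem_centralizer_iff.1 (c.module.centV hqx) v hv, mul_assoc]
  refine ⟨L, ⟨sl, hBL, hLimg, hLM, fun K hK h1 h2 => ?_, hcomm,
    fun w hw => ?_, fun Y hYL hYp hBY => ?_, hQB, ?_⟩⟩
  · by_contra hne
    exact hmin K ⟨h1, hK.trans hLN, h2⟩ (lt_of_le_of_ne hK hne)
  · obtain ⟨v, hv, y, hw', hy⟩ := hfixY w hw
    exact ⟨v, hv, y, hw', fun x hx => hy x (hLN hx)⟩
  · intro x hx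
    obtain ⟨b', hb', hbe⟩ := himg.ge (sl.maxP _ ((map_mono hYL).trans hLimg.le) (hYp.map f)
      (himg.ge.trans (map_mono hBY)) (mem_map_of_mem f hx))
    have hqY : b'⁻¹ * x ∈ Y := mul_mem (inv_mem (hBY hb')) hx
    have hqC : b'⁻¹ * x ∈ centralizer (V : Set G) := by
      rw [← c.ker, MonoidHom.mem_ker, map_mul, map_inv, hbe, inv_mul_cancel]
    have hqQ : b'⁻¹ * x ∈ Q :=
      c.le_core_of_le_cent (hYp.to_le (inf_le_left : Y ⊓ centralizer (V : Set G) ≤ Y)) inf_le_right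
        ⟨hqY, hqC⟩
    simpa using mul_mem hb' (hQB ⟨hqQ, hYL hqY⟩)
  · haveI := PSolvable.pCore_characteristic (G := ↥L) (p := p)
    refine @PSolvable.le_pCore _ _ p _ inferInstance fun z => ?_
    obtain ⟨i, hi⟩ := Transfer.exists_pow_coprime (p := p) (((z : ↥L)) : G)
    refine ⟨i, Subtype.ext (Subtype.ext ?_)⟩
    set y := (((z : ↥L)) : G) ^ p ^ i with hy
    show y = 1
    have hyL : y ∈ L := pow_mem (z : ↥L).2 _
    have hD0 : (Q ⊓ B).subgroupOf L ≤ Cfsg.pCore p ↥L := by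
      haveI := c.normal_core_inf_bMax m2
      exact @PSolvable.le_pCore _ _ p _ inferInstance
        (((PSolvable.pCore_isPGroup (G := G) (p := p)).to_le inf_le_left).comap_subtype)
    have hcD : ∀ e ∈ Q ⊓ B, y * e = e * y := by
      intro e he
      have h1 : ((z : ↥L) ^ p ^ i) * ⟨e, hBL he.2⟩ = ⟨e, hBL he.2⟩ * (z : ↥L) ^ p ^ i :=
        (mem_centralizer_iff.1 (pow_mem z.2 _) ⟨e, hBL he.2⟩
          (hD0 (show (⟨e, hBL he.2⟩ : ↥L) ∈ (Q ⊓ B).subgroupOf L from he))).symm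
      simpa [hy] using congrArg Subtype.val h1
    have hyQ : y ∈ centralizer (Q : Set G) := mem_centralizer_iff.2 fun q hq => by
      set e := y * q * y⁻¹ * q⁻¹ with he
      have heD : e ∈ Q ⊓ B := by
        have h1 := inv_mem (hcomm q hq y hyL)
        rwa [commutatorElement_inv, commutatorElement_def, ← he] at h1
      have hn : ∀ x : G, x ∈ normalizer ((⊥ : Subgroup G) : Set G) := fun x =>
        (normalizer_eq_top_iff.2 (inferInstance : (⊥ : Subgroup G).Normal)).symm ▸ mem_top x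
      have h1 : e ∈ (⊥ : Subgroup G) := mem_of_stable (d := q) hi (hn _) (hn _)
        ((IsPGroup.iff_orderOf.1 (PSolvable.pCore_isPGroup (G := G) (p := p))) ⟨e, heD.1⟩ |>.imp
          fun k hk => by rwa [orderOf_mk] at hk)
        (by rw [he]; group) (by rw [mem_bot, hcD e heD, mul_inv_cancel_right, mul_inv_cancel])
      rw [mem_bot, he, mul_inv_eq_one, mul_inv_eq_iff_eq_mul] at h1
      exact h1.symm
    obtain ⟨l, hl⟩ := (IsPGroup.iff_orderOf.1 (PSolvable.pCore_isPGroup (G := G) (p := p)))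
      ⟨y, c.hyp0.cent hyQ⟩
    rw [orderOf_mk] at hl
    exact orderOf_eq_one_iff.1 (Nat.eq_one_of_dvd_coprimes (hi.pow_right l) dvd_rfl hl.dvd)

end Cfsg.Agent.Lib.MinPush94
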