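import Cfsg.Agent.Lib.MinPush94.SmallAt
import Cfsg.Agent.Lib.MinPush94.LinAt
import Cfsg.Agent.Lib.MinPush94.LinExc

/-!
# Pushing up for minimal parabolic groups: the assembly
-/

set_option autoImplicit false
set_option linter.unusedSectionVars false

namespace Cfsg.Agent.Lib.MinPush94

open Subgroup SL2Recog FFMin FFComp
open Cfsg.Agent.Lib Cfsg.Agent.Lib.FocalChar
open Cfsg.Agent.Lib.SL2 (SLtwo PSLtwo)
open scoped commutatorElement

universe u

variable {G : Type u} [Group G] [Finite G] {p : ℕ} [Fact p.Prime] {T M V : Subgroup G}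
  {H W : Type u} [Group H] [Finite H] [AddCommGroup W] [Finite W] [DistribMulAction H W]
  [FaithfulSMul H W] {f : G →* H} {j : W → G} {Wz Kc : Subgroup G} {TH : Sylow p H}

/-- The two cases for the rank one group of a member. -/
theorem Model.member_cases (c : Model p T M V f j) (m2 : Module2 p T V Wz Kc)
    {D X : Subgroup H} {L : Subgroup G} (lc : Loc (W := W) p T M V Wz f (TH : Subgroup H) D X L)
    {F : Type} [Field F] [Fintype F] (hF : Fintype.card F = Nat.card D) (np : NatPair F W D X) :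
    ∃ n : ℕ, Nat.card D = p ^ n ∧ centralizer (V : Set G) = Cfsg.pCore p G ∧
      ((∃ (ψ : ↥L →* PSLtwo F) (U Q' X' : Subgroup ↥L), Rk p (bMax p T) L F n ψ U Q' X' ∧
          U = normalClosure (RankOnePush.omegaZ p ((bMax p T).subgroupOf L) : Set ↥L)) ∨
        Exceptional p ((bMax p T).subgroupOf L) (Cfsg.pCore p ↥L)
          (normalClosure (RankOnePush.omegaZ p ((bMax p T).subgroupOf L) : Set ↥L)) F n) := by
  classical
  obtain ⟨n, ψ, U, Q', X', hn, rk⟩ := lc.exists_rk c hF np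
  refine ⟨n, hn, lc.cent_eq_core c m2 rk fun halt => ?_, ?_⟩
  · exact (exists_exceptional rk.setup rfl rk.cent rk.small rfl rk.shape halt rk.nochar).cover
  · by_cases halt : U = normalClosure (RankOnePush.omegaZ p ((bMax p T).subgroupOf L) : Set ↥L) ∧
        Q' = Cfsg.pCore p ↥L
    · exact Or.inl ⟨ψ, U, Q', X', rk, halt.1⟩
    · exact Or.inr (exists_exceptional rk.setup rfl rk.cent rk.small rfl rk.shape halt rk.nochar)

theorem Model.stab_of_member (c : Model p T M V f j) (m2 : Module2 p T V Wz Kc)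
    {D X : Subgroup H} {L : Subgroup G} (lc : Loc (W := W) p T M V Wz f (TH : Subgroup H) D X L)
    {F : Type} [Field F] [Fintype F] {n : ℕ} {ψ : ↥L →* PSLtwo F} {U Q' X' : Subgroup ↥L}
    (rk : Rk p (bMax p T) L F n ψ U Q' X')
    (halt : U = normalClosure (RankOnePush.omegaZ p ((bMax p T).subgroupOf L) : Set ↥L)) :
    Stab p V := by
  obtain ⟨x₀, hx₀L, hx₀co, hx₀M⟩ := lc.exists_coprime c
  intro y hy q hq
  exact c.coprime_mem_of_normal (actTriv_normal _ V pCore_normal c.module.normalV) (x := x₀)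
    (fun q hq => lc.comm_core c m2 rk halt hx₀L hx₀co hq) hx₀M hy q hq

theorem exists_mem_members (c : Model p T M V f j) (hTH : (TH : Subgroup H) = T.map f) :
    ∃ D, D ∈ members p W (TH : Subgroup H) := by
  obtain ⟨A, hA, hAQ⟩ := c.module.exists_not_le
  have hA0 : A.map f ≠ ⊥ := fun h0 => hAQ fun a ha =>
    c.module.inf ⟨c.ker ▸ ((Subgroup.map_eq_bot_iff A).1 h0 ha), hA.1 ha⟩
  obtain ⟨D, hDA, hD⟩ := exists_mem (c.off A hA).1 hA0
    ((c.std.tame.bound _ (c.off A hA).1).antisymm (c.off A hA).2) c.std.tame.bound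
  exact ⟨D, hD, hDA.trans (hTH ▸ map_mono hA.1)⟩

/-- Elements of a symmetric block acting trivially on the section are trivial. -/
theorem isPermBlock_free {E : Subgroup H} (hE : IsPermBlock p W E) {e : H} (he : e ∈ E)
    (h : ∀ v, dev e v ∈ fx W E) : e = 1 := by
  obtain ⟨-, n, hn, ρ, π, -, hsurj, hker, hsmul⟩ := hE
  have h3 : 3 ≤ 2 ^ n + 1 := by
    have := Nat.one_lt_two_pow (show n ≠ 0 by omega); omega
  have hfix : ∀ v k, π v ((ρ ⟨e, he⟩)⁻¹ k) = π v k := fun v k => by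
    rw [← hsmul ⟨e, he⟩ v k]
    have h1 := (hker _).2 (h v)
    rw [dev, map_sub, sub_eq_zero] at h1
    rw [h1]
  have hσ : (ρ ⟨e, he⟩)⁻¹ = 1 := by
    refine Equiv.ext fun k => by_contra fun hne => ?_
    set l := (ρ ⟨e, he⟩)⁻¹ k
    obtain ⟨m, -, hm⟩ := Finset.exists_mem_notMem_of_card_lt_card
      (s := ({k, l} : Finset (Fin (2 ^ n + 1)))) (t := Finset.univ)
      (by rw [Finset.card_univ, Fintype.card_fin, Finset.card_pair (Ne.symm (show l ≠ k from hne))]; omega)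
    simp only [Finset.mem_insert, Finset.mem_singleton, not_or] at hm
    obtain ⟨v, hv⟩ := hsurj (Pi.single k 1 + Pi.single m 1) (by
      simp only [Pi.add_apply, Finset.sum_add_distrib, Finset.sum_pi_single', Finset.mem_univ, if_true]
      rfl)
    have h1 := hfix v k
    have hne' : l ≠ k := hne
    rw [hv] at h1
    simp [Pi.single_eq_of_ne hne', Pi.single_eq_of_ne (Ne.symm hm.1), Pi.single_eq_of_ne (Ne.symm hm.2),
      show (ρ ⟨e, he⟩)⁻¹ k = l from rfl] at h1
  rw [inv_eq_one, map_eq_one_iff ρ ρ.injective] at hσ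
  exact congrArg Subtype.val hσ

/-- The structure when members have order two. -/
theorem Env.structure_small (ev : Env p T M V Wz Kc f j) (hTH : (TH : Subgroup H) = T.map f)
    (h2 : AllTwo p H W) :
    ∃ 𝓑 : Set (Subgroup G), Cfsg.HasBaumannBlockStructure p T 𝓑 ∧
      (∀ R ∈ 𝓑, ∀ m : ℕ,
        Nonempty (↥R ⧸ Cfsg.pCore p ↥R ≃* ↥(alternatingGroup (Fin (2 * m + 1)))) →
        ∃ n : ℕ, 2 * m + 1 = 2 ^ n + 1) ∧
      Cfsg.cStarOf p T = (Cfsg.cStarOf p T ⊓ sSup 𝓑) ⊔ T := by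
  classical
  have c := ev.model
  have hTM : (TH : Subgroup H) ≤ M.map f := hTH.le.trans (map_mono c.hyp0.le)
  obtain ⟨D₀, hD₀⟩ := exists_mem_members c hTH
  have hp2 : p = 2 := by
    obtain ⟨k, hk⟩ := IsPGroup.iff_card.1 hD₀.1.elem.isPGroup
    rw [h2 D₀ hD₀.1] at hk
    have hk0 : k ≠ 0 := fun h0 => by rw [h0, pow_zero] at hk; omega
    exact (Nat.prime_dvd_prime_iff_eq Fact.out Nat.prime_two).1 (hk ▸ dvd_pow_self p hk0)
  have hdata : ∀ D ∈ members p W (TH : Subgroup H), Stab p V ∧ ∃ Y : Subgroup G,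
      Lift p T f j D (others p W (TH : Subgroup H) D) Y ∧ ∀ y ∈ Y, f y ∈ D := by
    intro D hD
    obtain ⟨X, L, lc⟩ := c.exists_loc ev.m2 hTH hD
    obtain ⟨F, fF, ftF, hF, ⟨np⟩⟩ := lc.slot.part.model
    obtain ⟨n, -, -, h⟩ := c.member_cases ev.m2 lc hF np
    rcases h with ⟨ψ, U, Q', X', rk, halt⟩ | ex
    · obtain ⟨Y, hY⟩ := lc.exists_lift c ev.m2 ev.ker hTH rk halt
      refine ⟨c.stab_of_member ev.m2 lc rk halt, Y, hY, fun y hy => ev.exact lc.slot hY ?_ hy⟩
      obtain ⟨d, hd, hd1⟩ := exists_ne_one hD.1.ne_bot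
      have hop := lc.slot.part.oppPair c.std c.umax hTM hD
      refine le_bot_iff.1 (le_trans ?_ (hop.inf_eq_bot hd hd1).le)
      refine inf_le_inf ((AddSubgroup.closure_le _).2 ?_) (by rw [fx_sup]; exact inf_le_right)
      rintro _ ⟨a, ha, v, rfl⟩
      rcases h2.eq_or hD.1 hd hd1 ha with rfl | rfl
      · rw [dev_one]; exact zero_mem _
      · exact ⟨v, rfl⟩
    · exact absurd (ex.three.symm.trans hp2) (by norm_num)
  have hst : Stab p V := (hdata D₀ hD₀).1
  have hlift := fun D hD => (hdata D hD).2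
  obtain ⟨ι, hι, hι', E, hs, hperm, -, hmemP⟩ := exists_split_small c.std c.umax hTM hD₀ h2
  obtain ⟨i₀, hi₀⟩ := exists_le_of_mem hs c.std h2 hD₀.1 (hmemP D₀ hD₀)
    fun i e he => isPermBlock_free (hperm i) he
  refine ev.structure_of_family hTH hs hmemP fun i => ?_
  obtain ⟨t, ht, hti⟩ := hs.conj i₀ i
  have hDE : cnj t D₀ ≤ E i := hti ▸ cnj_mono t hi₀
  obtain ⟨n, hn, ⟨pd⟩⟩ := exists_permData c.std h2 (hperm i) (hD₀.1.cnj t) hDE
  -- Sylow subgroups of the block
  have hsyl : ∀ A : Subgroup H, A ≤ E i → IsPGroup p A →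
      ∃ e ∈ E i, cnj e A ≤ (TH : Subgroup H) := by
    intro A hA hAp
    set N := ⨆ k, E k
    set R := ⨆ k ∈ {k | k ≠ i}, E k
    obtain ⟨S, hS⟩ := hAp.exists_le_sylow
    obtain ⟨h, hh⟩ := MulAction.exists_smul_eq H S TH
    have hTN : (TH : Subgroup H) ≤ normalizer (N : Set H) := fun s hs' => by
      refine mem_normalizer_iff_map_conj_eq.2 (Subgroup.eq_of_le_of_card_ge ?_
        (card_map_of_injective (MulAut.conj s).injective).ge)
      rw [Subgroup.map_iSup]
      exact iSup_le fun k => by obtain ⟨l, hl⟩ := hs.perm s hs' k; exact hl.trans (le_iSup E l)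
    obtain ⟨t', ht', m, hm, hhm⟩ : ∃ a ∈ (TH : Subgroup H), ∃ b ∈ N, a * b = h := by
      open scoped Pointwise in
      have h1 : h ∈ ((TH : Subgroup H) : Set H) * (N : Set H) := by
        rw [← coe_mul_of_left_le_normalizer_right _ _ hTN, sup_comm, hs.top]; trivial
      exact Set.mem_mul.1 h1
    have hmA : cnj m A ≤ (TH : Subgroup H) := by
      have h1 : cnj h A ≤ (TH : Subgroup H) := by
        rw [← hh, coe_smul_sylow]; exact cnj_mono h hS
      have h2' := cnj_mono t'⁻¹ h1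
      rw [← hhm, ← cnj_cnj, cnj_cnj t'⁻¹, inv_mul_cancel, cnj_one] at h2'
      exact h2'.trans (cnj_le_of_mem (inv_mem ht') le_rfl)
    have hRn : R ≤ normalizer (E i : Set H) := iSup₂_le fun k hk =>
      fun x hx => centralizer_le_normalizer _
        (mem_centralizer_iff.2 fun y hy => hs.comm (Ne.symm hk) y hy x hx)
    obtain ⟨e, he, r, hr, her⟩ : ∃ a ∈ E i, ∃ b ∈ R, a * b = m := by
      open scoped Pointwise in
      have h1 : m ∈ (E i : Set H) * (R : Set H) := by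
        rw [← coe_mul_of_right_le_normalizer_left _ _ hRn]
        refine (iSup_le fun k => ?_ : N ≤ E i ⊔ R) hm
        rcases eq_or_ne k i with rfl | hk
        · exact le_sup_left
        · exact le_sup_of_le_right (le_iSup₂ (f := fun l (_ : l ∈ {l | l ≠ i}) => E l) k hk)
      exact Set.mem_mul.1 h1
    refine ⟨e, he, ?_⟩
    have hrc : R ≤ centralizer (E i : Set H) := iSup₂_le fun k hk =>
      fun x hx => mem_centralizer_iff.2 fun y hy => hs.comm (Ne.symm hk) y hy x hx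
    have hrA : cnj r A = A := by
      refine Subgroup.eq_of_le_of_card_ge ?_ (card_cnj r A).ge
      rintro _ ⟨a, ha, rfl⟩
      show r * a * r⁻¹ ∈ A
      rw [← mem_centralizer_iff.1 (hrc hr) a (hA ha), mul_inv_cancel_right]
      exact ha
    rwa [← hrA, cnj_cnj, her]
  have hnot : ¬ E i ≤ M.map f := fun hle => c.umax.1 (top_le_iff.1 (hs.top.ge.trans (sup_le
    (iSup_le fun k => by
      obtain ⟨s, hs', hse⟩ := hs.conj i k
      rw [← hse]
      exact cnj_le_of_mem (hTM hs') hle) hTM)))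
  exact ev.blockAt_small hst hTH hlift hp2 hn pd hsyl hnot

/-- The structure when members have order at least three. -/
theorem Env.structure_large (ev : Env p T M V Wz Kc f j) (hTH : (TH : Subgroup H) = T.map f)
    (h2 : ¬ AllTwo p H W) :
    ∃ 𝓑 : Set (Subgroup G), Cfsg.HasBaumannBlockStructure p T 𝓑 ∧
      (∀ R ∈ 𝓑, ∀ m : ℕ,
        Nonempty (↥R ⧸ Cfsg.pCore p ↥R ≃* ↥(alternatingGroup (Fin (2 * m + 1)))) →
        ∃ n : ℕ, 2 * m + 1 = 2 ^ n + 1) ∧
      Cfsg.cStarOf p T = (Cfsg.cStarOf p T ⊓ sSup 𝓑) ⊔ T := by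
  classical
  have c := ev.model
  have hc := c.std
  have hM := c.umax
  have hTM : (TH : Subgroup H) ≤ M.map f := hTH.le.trans (map_mono c.hyp0.le)
  obtain ⟨D₀, hD₀⟩ := exists_mem_members c hTH
  obtain ⟨Y₀, hY₀, hY₀2⟩ : ∃ Y, Mem p W Y ∧ Nat.card Y ≠ 2 := by simpa [AllTwo] using h2
  have hbig : ∀ i : ↥(members p W (TH : Subgroup H)), 2 < Nat.card (i : Subgroup H) := fun i => by
    rw [hc.card_eq i.2.1 hY₀]
    have h1 := (Subgroup.one_lt_card_iff_ne_bot Y₀).2 hY₀.ne_bot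
    omega
  choose X L lc using fun i : ↥(members p W (TH : Subgroup H)) => c.exists_loc ev.m2 hTH i.2
  have hB : ∀ i : ↥(members p W (TH : Subgroup H)),
      Part p W (TH : Subgroup H) (M.map f) i (X i) := fun i => (lc i).slot.part
  let E : ↥(members p W (TH : Subgroup H)) → Subgroup H := fun i => (i : Subgroup H) ⊔ X i
  have hne : Nonempty ↥(members p W (TH : Subgroup H)) := ⟨⟨D₀, hD₀⟩⟩
  have hs : Split W (TH : Subgroup H) E := by
    refine ⟨fun i k hik => ?_, fun i => ?_, fun i k => ?_,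
      fun t ht i => ⟨⟨cnj t i, members_conj i.2 ht⟩, (hB i).cnj_le hc hM hTM i.2 ht rfl (hB _)⟩, ?_⟩
    · exact (hB i).orth hc hM hTM i.2 k.2 (fun he => hik (Subtype.ext he)) (hB k) (hbig i)
    · exact NatPair.span hc ((hB i).oppPair hc hM hTM i.2)
    · obtain ⟨t, ht, he⟩ := hc.partner.orbit hc.tame hc.hyp i.2.1 i.2.2 k.2.1 k.2.2
      refine ⟨t, ht, le_antisymm ((hB i).cnj_le hc hM hTM i.2 ht he.symm (hB k)) ?_⟩
      have h1 := cnj_mono t ((hB k).cnj_le hc hM hTM k.2 (inv_mem ht)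
        (by rw [he, cnj_cnj, inv_mul_cancel, cnj_one]) (hB i))
      rwa [cnj_cnj, mul_inv_cancel, cnj_one] at h1
    · by_contra hne'
      exact (hB ⟨D₀, hD₀⟩).not_le ((le_sup_right.trans (le_iSup E ⟨D₀, hD₀⟩)).trans
        (le_sup_left.trans (hM.2.2 TH hTM _ hne' le_sup_right)))
  refine ev.structure_of_family hTH hs (fun D hD => le_sup_left.trans (le_iSup E ⟨D, hD⟩)) fun i => ?_
  obtain ⟨F, fF, ftF, hF, ⟨np⟩⟩ := (hB i).model
  obtain ⟨n, hn, -, h⟩ := c.member_cases ev.m2 (lc i) hF np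
  have hFn : Fintype.card F = p ^ n := hF.trans hn
  have lb : LinBase p f ((i : Subgroup H) ⊔ X i) F n np.ρ :=
    ev.linBase (lc i).slot hTM np hFn (hF ▸ hbig i)
  refine ev.blockAt_lin hTH (lc i).slot np lb ?_
  rcases h with ⟨ψ, U, Q', X', rk, halt⟩ | ex
  · obtain ⟨Y, hY⟩ := (lc i).exists_lift c ev.m2 ev.ker hTH rk halt
    exact ev.linData (c.stab_of_member ev.m2 (lc i) rk halt) (lc i) hTM np lb hY
      fun x d hx hxo hd hfd => (lc i).comm_over ev rk halt hx hxo hd hfd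
  · exact ev.linData_exceptional (lc i) np lb ex

/-- Pushing up for minimal parabolic groups. -/
theorem structure_main (d : Hyp0 p T M) :
    ∃ 𝓑 : Set (Subgroup G), Cfsg.HasBaumannBlockStructure p T 𝓑 ∧
      (∀ R ∈ 𝓑, ∀ m : ℕ,
        Nonempty (↥R ⧸ Cfsg.pCore p ↥R ≃* ↥(alternatingGroup (Fin (2 * m + 1)))) →
        ∃ n : ℕ, 2 * m + 1 = 2 ^ n + 1) ∧
      Cfsg.cStarOf p T = (Cfsg.cStarOf p T ⊓ sSup 𝓑) ⊔ T := by
  classical
  obtain ⟨V, H, W, iH, fH, iW, fW, aW, faW, f, j, c⟩ := d.exists_model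
  obtain ⟨Wz, Kc, m2⟩ := c.exists_enlarged
  obtain ⟨TH, hTH⟩ := c.sylow
  have hker : f.ker = Cfsg.pCore p G := by
    obtain ⟨D, hD⟩ := exists_mem_members c hTH
    obtain ⟨X, L, lc⟩ := c.exists_loc m2 hTH hD
    obtain ⟨F, fF, ftF, hF, ⟨np⟩⟩ := lc.slot.part.model
    obtain ⟨n, -, h, -⟩ := c.member_cases m2 lc hF np
    rw [c.ker, h]
  have ev : Env p T M V Wz Kc f j := ⟨c, m2, hker⟩
  by_cases h2 : AllTwo p H W
  · exact ev.structure_small hTH h2
  · exact ev.structure_large hTH h2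

end Cfsg.Agent.Lib.MinPush94
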