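import Cfsg.Agent.Lib.MinPush94.Main

/-!
# Automorphisms of odd order of a Sylow 2-subgroup

For `p = 2` the orbit of the module `V` under an automorphism of odd order of the Sylow subgroup
stays inside `O₂(G)`: two images that do not commute cannot both lie in `O₂(G)` nor both outside,
so a cycle of noncommuting images has even length.
-/

set_option autoImplicit false
set_option linter.unusedSectionVars false

namespace Cfsg.Agent.Lib.MinPush94

open Subgroup SL2Recog FFMin FFComp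
open Cfsg.Agent.Lib Cfsg.Agent.Lib.FocalChar
open scoped commutatorElement

universe u

variable {G : Type u} [Group G]

/-- The image of a subgroup of `T` under an automorphism of `T`. -/
def autImg (T : Subgroup G) (a : MulAut ↥T) (X : Subgroup G) : Subgroup G :=
  (X.subgroupOf T).map (T.subtype.comp a.toMonoidHom)

section AutImg

variable {T : Subgroup G} {a b : MulAut ↥T} {X Y : Subgroup G}

theorem autImg_le : autImg T a X ≤ T := by
  rintro _ ⟨x, -, rfl⟩; exact (a x).2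

theorem autImg_mem {x : ↥T} (hx : (x : G) ∈ X) : ((a x : ↥T) : G) ∈ autImg T a X := ⟨x, hx, rfl⟩

theorem autImg_one (h : X ≤ T) : autImg T 1 X = X := by
  refine le_antisymm ?_ fun x hx => ⟨⟨x, h hx⟩, hx, rfl⟩
  rintro _ ⟨x, hx, rfl⟩; exact hx

theorem autImg_mul : autImg T (a * b) X = autImg T a (autImg T b X) := by
  refine le_antisymm ?_ ?_
  · rintro _ ⟨x, hx, rfl⟩
    exact autImg_mem (autImg_mem hx)
  · rintro _ ⟨x, hx, rfl⟩
    obtain ⟨y, hy, hye⟩ := hx
    refine ⟨y, hy, ?_⟩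
    have he : b y = x := Subtype.ext hye
    subst he
    rfl

theorem autImg_mono (h : X ≤ Y) : autImg T a X ≤ autImg T a Y :=
  map_mono fun _ hx => h hx

theorem autImg_commutator (hX : X ≤ T) (hY : Y ≤ T) :
    autImg T a ⁅X, Y⁆ = ⁅autImg T a X, autImg T a Y⁆ := by
  have e : (⁅X, Y⁆).subgroupOf T = ⁅X.subgroupOf T, Y.subgroupOf T⁆ := by
    refine map_injective T.subtype_injective ?_
    rw [map_commutator, map_subgroupOf_eq_of_le hX, map_subgroupOf_eq_of_le hY,
      map_subgroupOf_eq_of_le]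
    refine commutator_le.2 fun x hx y hy => ?_
    rw [commutatorElement_def]
    exact mul_mem (mul_mem (mul_mem (hX hx) (hY hy)) (inv_mem (hX hx))) (inv_mem (hY hy))
  rw [autImg, autImg, autImg, e, map_commutator]

theorem autImg_eq_of_char (h : X ≤ T) (hc : (X.subgroupOf T).Characteristic) : autImg T a X = X := by
  rw [autImg, ← map_map, characteristic_iff_map_eq.1 hc a, map_subgroupOf_eq_of_le h]

theorem card_autImg (h : X ≤ T) : Nat.card ↥(autImg T a X) = Nat.card ↥X := by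
  rw [autImg, card_map_of_injective (f := T.subtype.comp a.toMonoidHom) (fun x y h => a.injective (T.subtype_injective h)),
    Nat.card_congr (subgroupOfEquivOfLe h).toEquiv]

end AutImg

variable [Finite G] {p : ℕ} [Fact p.Prime] {T M V : Subgroup G}
  {H W : Type u} [Group H] [Finite H] [AddCommGroup W] [Finite W] [DistribMulAction H W]
  [FaithfulSMul H W] {f : G →* H} {j : W → G} {Wz Kc : Subgroup G} {TH : Sylow p H}

/-- The elements fixed by all elements of order prime to `p`. -/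
abbrev coFix (p : ℕ) (G : Type u) [Group G] : Subgroup G :=
  centralizer {x : G | (orderOf x).Coprime p}

namespace Env

variable (ev : Env p T M V Wz Kc f j)

include ev

theorem le_core_iff {X : Subgroup G} (hX : X ≤ T) :
    X ≤ Cfsg.pCore p G ↔ ⁅V, X⁆ = ⊥ := by
  rw [commutator_eq_bot_iff_le_centralizer, le_centralizer_iff]
  exact ⟨fun h => h.trans ev.model.module.centV,
    fun h x hx => ev.model.module.inf ⟨h hx, hX hx⟩⟩

theorem V_le_T : V ≤ T := ev.model.module.leQ.trans ev.model.hyp0.pre.core_le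

/-- A vector fixed by the members of `T` and by all `p'`-elements is fixed by every partner. -/
theorem mem_fx_partner (hTH : (TH : Subgroup H) = T.map f) {w : W}
    (hw : w ∈ fx W (memSup p W (TH : Subgroup H))) (hco : j w ∈ coFix p G) {X : Subgroup H}
    (hX : Mem p W X) : w ∈ fx W X := by
  obtain ⟨S, hS⟩ := hX.elem.isPGroup.exists_le_sylow
  obtain ⟨h, hh⟩ := MulAction.exists_smul_eq H S TH
  obtain ⟨g, rfl⟩ := ev.surj h
  set K0 := closure {x : G | (orderOf x).Coprime p} with hK0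
  have hK0n : K0.Normal := ⟨fun x hx y => by
    have hle : K0 ≤ K0.comap (MulAut.conj y).toMonoidHom := by
      rw [hK0, closure_le]
      intro z hz
      exact subset_closure (show (orderOf (MulAut.conj y z)).Coprime p by rwa [MulEquiv.orderOf_eq])
    exact hle hx⟩
  obtain ⟨P, hP⟩ := ev.model.hyp0.sylow
  have htop : T ⊔ K0 = ⊤ := by rw [← hP, sup_comm]; exact RankOnePush.residual_sup_sylow P
  obtain ⟨t, ht, k, hk, rfl⟩ : ∃ t ∈ T, ∃ k ∈ K0, t * k = g :=
    mem_sup_of_normal_right.1 (htop.ge (mem_top g))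
  have hkw : f k • w = w := by
    rw [ev.model.smul_eq_iff]
    have hle : K0 ≤ centralizer ({j w} : Set G) := (closure_le _).2 fun x hx =>
      mem_centralizer_singleton_iff.2 (mem_centralizer_iff.1 hco x hx)
    exact mem_centralizer_singleton_iff.1 (hle hk)
  intro x hx
  have h1 : f k * x * (f k)⁻¹ ∈ memSup p W (TH : Subgroup H) := by
    have hm : cnj (f t)⁻¹ (cnj (f (t * k)) X) ∈ members p W (TH : Subgroup H) := by
      refine members_conj ⟨hX.cnj _, ?_⟩ (inv_mem (hTH.ge (mem_map_of_mem f ht)))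
      rw [← hh, coe_smul_sylow]
      exact cnj_mono _ hS
    rw [cnj_cnj, map_mul, inv_mul_cancel_left] at hm
    exact le_sSup hm (mem_map_of_mem _ hx)
  have h2 := hw _ h1
  rw [mul_smul, mul_smul, inv_smul_eq_iff.2 hkw.symm] at h2
  exact MulAction.injective (f k) (h2.trans hkw.symm)

theorem quad_memSup {x : H} (hx : x ∈ memSup p W (TH : Subgroup H)) (v : W) :
    dev x v ∈ fx W (memSup p W (TH : Subgroup H)) :=
  ev.model.std.tame.memSup_quad TH.2 x hx v

/-- A fixed commutator of a member is trivial. -/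
theorem fx_of_dev_fixed (hTH : (TH : Subgroup H) = T.map f) {D : Subgroup H}
    (hD : D ∈ members p W (TH : Subgroup H)) {d : H} (hd : d ∈ D) (hd1 : d ≠ 1) {v : W}
    (h : j (dev d v) ∈ coFix p G) : v ∈ fx W D := by
  have hTM : (TH : Subgroup H) ≤ M.map f := hTH.le.trans (map_mono ev.model.hyp0.le)
  obtain ⟨X, hX⟩ := exists_part ev.model.std ev.model.umax hTM hD
  exact (hX.oppPair ev.model.std ev.model.umax hTM hD).opp d hd hd1 v
    (ev.mem_fx_partner hTH (ev.quad_memSup (le_sSup hD hd) v) h hX.slot.mem)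

/-- `[V, B]` is not centralized by all `p'`-elements. -/
theorem not_le_coFix (hTH : (TH : Subgroup H) = T.map f) : ¬ ⁅V, bMax p T⁆ ≤ coFix p G := by
  intro hle
  obtain ⟨D, hD⟩ := exists_mem_members ev.model hTH
  obtain ⟨d, hd, hd1⟩ := exists_ne_one hD.1.ne_bot
  refine hd1 (eq_one_of_dev fun v : W => dev_eq_zero hd (ev.fx_of_dev_fixed hTH hD hd hd1 ?_))
  obtain ⟨b, hb, rfl⟩ := (ev.model.image_bMax hTH).ge (le_sSup hD hd)
  rw [← ev.model.comm_eq, ← commutatorElement_inv]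
  exact inv_mem (hle (commutator_mem_commutator (ev.model.jmem v) hb))

/-- Squares and commutators in `O_p` are fixed by the `p'`-elements. -/
theorem comm_mem_coFix (hst : Stab p V) {c d : G} (hc : c ∈ Cfsg.pCore p G)
    (hd : d ∈ Cfsg.pCore p G) : ⁅c, d⁆ ∈ coFix p G := by
  refine mem_centralizer_iff.2 fun x hx => ?_
  obtain ⟨u, hu, e1⟩ : ∃ u ∈ V, x * c * x⁻¹ = u * c :=
    ⟨⁅x, c⁆, hst x hx c hc, by rw [commutatorElement_def]; group⟩
  obtain ⟨w, hw, e2⟩ : ∃ w ∈ V, x * d * x⁻¹ = w * d :=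
    ⟨⁅x, d⁆, hst x hx d hd, by rw [commutatorElement_def]; group⟩
  have hcen : ∀ v ∈ V, ∀ q ∈ Cfsg.pCore p G, Commute v q := fun v hv q hq =>
    mem_centralizer_iff.1 (ev.model.module.centV hq) v hv
  have hVQ := ev.model.module.leQ
  have key : ⁅x * c * x⁻¹, x * d * x⁻¹⁆ = ⁅c, d⁆ := by
    rw [e1, e2, show ⁅u * c, w * d⁆ = u * c * (w * d) * (u * c)⁻¹ * (w * d)⁻¹ from
      commutatorElement_def _ _]
    have hu' : ∀ q ∈ Cfsg.pCore p G, Commute u q := hcen u hu
    have hw' : ∀ q ∈ Cfsg.pCore p G, Commute w q := hcen w hw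
    have huy : Commute u (w * d) := hu' _ (mul_mem (hVQ hw) hd)
    calc u * c * (w * d) * (u * c)⁻¹ * (w * d)⁻¹
        = u * (c * (w * d) * c⁻¹) * u⁻¹ * (w * d)⁻¹ := by group
      _ = (c * (w * d) * c⁻¹) * (w * d)⁻¹ := by
        rw [(hu' _ (mul_mem (mul_mem hc (mul_mem (hVQ hw) hd)) (inv_mem hc))).eq, mul_inv_cancel_right]
      _ = (c * w * c⁻¹) * (c * d * c⁻¹) * d⁻¹ * w⁻¹ := by group
      _ = w * ⁅c, d⁆ * w⁻¹ := by
        rw [← (hw' c hc).eq, mul_inv_cancel_right, commutatorElement_def]; group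
      _ = ⁅c, d⁆ := by
        rw [(hw' _ (by rw [commutatorElement_def]
                       exact mul_mem (mul_mem (mul_mem hc hd) (inv_mem hc)) (inv_mem hd))).eq,
          mul_inv_cancel_right]
  rw [show ⁅x * c * x⁻¹, x * d * x⁻¹⁆ = x * ⁅c, d⁆ * x⁻¹ by
    simp only [commutatorElement_def]; group] at key
  exact mul_inv_eq_iff_eq_mul.1 key

theorem sq_mem_coFix (hst : Stab p V) (hp : p = 2) {c : G} (hc : c ∈ Cfsg.pCore p G) :
    c * c ∈ coFix p G := by
  refine mem_centralizer_iff.2 fun x hx => ?_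
  have hu : ⁅x, c⁆ ∈ V := hst x hx c hc
  have hcu : Commute ⁅x, c⁆ c := mem_centralizer_iff.1 (ev.model.module.centV hc) _ hu
  have hu2 : ⁅x, c⁆ * ⁅x, c⁆ = 1 := by
    rw [← pow_two]; exact hp ▸ ev.model.module.elV.2 _ hu
  have h1 : x * (c * c) * x⁻¹ = c * c := by
    calc x * (c * c) * x⁻¹ = (⁅x, c⁆ * c) * (⁅x, c⁆ * c) := by
          simp only [commutatorElement_def]; group
      _ = ⁅x, c⁆ * (c * ⁅x, c⁆) * c := by group
      _ = c * c := by rw [← hcu.eq, ← mul_assoc, hu2, one_mul]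
  exact mul_inv_eq_iff_eq_mul.1 h1

/-- An image of `V` outside `O_p` covers the offenders. -/
theorem full_of_not_le (hTH : (TH : Subgroup H) = T.map f) {a : MulAut ↥T}
    (h : ¬ autImg T a V ≤ Cfsg.pCore p G) :
    (autImg T a V).map f = memSup p W (TH : Subgroup H) ∧
      autImg T a ⁅V, bMax p T⁆ = ⁅V, bMax p T⁆ ∧
      ⁅V, autImg T a V⁆ = ⁅V, bMax p T⁆ := by
  classical
  have c := ev.model
  have hVT := ev.V_le_T
  haveI := c.module.normalV
  set B := bMax p T with hB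
  have hBc : (B.subgroupOf T).Characteristic := bMax_char
  have hbB : ∀ b : MulAut ↥T, autImg T b B = B := fun b => autImg_eq_of_char bMax_le_S hBc
  have hXB : ∀ b : MulAut ↥T, autImg T b V ≤ B := fun b =>
    (autImg_mono ev.V_le_bMax).trans (hbB b).le
  have hker : ∀ {x : G}, x ∈ centralizer (V : Set G) ↔ f x = 1 := fun {x} => by
    rw [← c.ker, MonoidHom.mem_ker]
  have hel : ∀ b : MulAut ↥T, Cfsg.IsElementaryAbelian p (autImg T b V) := fun b =>
    el_map _ ⟨⟨⟨fun x y => Subtype.ext (Subtype.ext (el_comm c.module.elV x.2 y.2))⟩⟩,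
      fun x hx => Subtype.ext (by simpa using c.module.elV.2 _ hx)⟩
  -- counting
  have hmeas : ∀ b : MulAut ↥T, Elem p ((autImg T b V).map f) ∧
      Nat.card ↥(V ⊓ centralizer (autImg T b V : Set G)) ≤
        Nat.card ↥(autImg T b V ⊓ centralizer (V : Set G)) ∧
      (Nat.card ↥(V ⊓ centralizer (autImg T b V : Set G)) =
          Nat.card ↥(autImg T b V ⊓ centralizer (V : Set G)) →
        meas W ((autImg T b V).map f) = Nat.card W) := by
    intro b
    set X := autImg T b V with hX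
    have hE : Elem p (X.map f) := by
      refine ⟨?_, ?_⟩
      · rintro _ ⟨x, hx, rfl⟩ _ ⟨y, hy, rfl⟩
        rw [← map_mul, ← map_mul, el_comm (hel b) hx hy]
      · rintro _ ⟨x, hx, rfl⟩
        rw [← map_pow, (hel b).2 x hx, map_one]
    let jV : W ≃ ↥V := Equiv.ofBijective (fun w => ⟨j w, c.jmem w⟩)
      ⟨fun w w' h => c.jinj (congrArg Subtype.val h), fun v => by
        obtain ⟨w, hw⟩ := c.jsurj v v.2; exact ⟨w, Subtype.ext hw⟩⟩
    have hW : Nat.card W = Nat.card ↥V := Nat.card_congr jV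
    have hfx : Nat.card ↥(fx W (X.map f)) = Nat.card ↥(V ⊓ centralizer (X : Set G)) := by
      refine Nat.card_congr (Equiv.ofBijective (fun w => ⟨j w.1, c.jmem _, c.mem_fx_iff.1 w.2⟩)
        ⟨fun w w' h => Subtype.ext (c.jinj (congrArg Subtype.val h)), fun v => ?_⟩)
      obtain ⟨w, hw⟩ := c.jsurj v v.2.1
      exact ⟨⟨w, c.mem_fx_iff.2 (hw.symm ▸ v.2.2)⟩, Subtype.ext hw⟩
    have himg : Nat.card ↥(X.map f) * Nat.card ↥(X ⊓ centralizer (V : Set G)) = Nat.card ↥X := by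
      set g : ↥X →* H := f.comp X.subtype with hg
      have h1 : Nat.card g.range * Nat.card g.ker = Nat.card ↥X := by
        rw [← index_ker g, g.ker.index_mul_card]
      rw [show X.map f = g.range by rw [hg, MonoidHom.range_comp, Subgroup.range_subtype]]
      refine Eq.trans ?_ h1
      congr 1
      refine Nat.card_congr (Equiv.ofBijective
        (fun x => ⟨⟨x.1, x.2.1⟩, MonoidHom.mem_ker.2 (hker.1 x.2.2)⟩)
        ⟨fun x y h => Subtype.ext (congrArg (fun z : ↥g.ker => ((z : ↥X) : G)) h), fun x =>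
          ⟨⟨(x.1 : G), x.1.2, hker.2 (MonoidHom.mem_ker.1 x.2)⟩, rfl⟩⟩)
    have hXV : Nat.card ↥X = Nat.card ↥V := card_autImg hVT
    have hb := c.std.tame.bound _ hE
    rw [meas, hfx, hW, ← hXV, ← himg] at hb
    refine ⟨hE, Nat.le_of_mul_le_mul_left hb Nat.card_pos, fun he => ?_⟩
    rw [meas, hfx, hW, ← hXV, ← himg, he]
  have e : ∀ (b : MulAut ↥T) {X Y : Subgroup G}, X ≤ T → Y ≤ T →
      autImg T b (X ⊓ centralizer (Y : Set G)) =
        autImg T b X ⊓ centralizer (autImg T b Y : Set G) := by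
    intro b X Y hX hY
    refine le_antisymm ?_ ?_
    · rintro _ ⟨x, hx, rfl⟩
      refine ⟨autImg_mem hx.1, mem_centralizer_iff.2 ?_⟩
      rintro _ ⟨y, hy, rfl⟩
      show ((b y : ↥T) : G) * (b x : ↥T) = (b x : ↥T) * (b y : ↥T)
      rw [← Subgroup.coe_mul, ← Subgroup.coe_mul, ← map_mul, ← map_mul,
        show y * x = x * y from Subtype.ext (mem_centralizer_iff.1 hx.2 _ hy)]
    · rintro _ ⟨⟨x, hx, rfl⟩, hxc⟩
      refine autImg_mem ⟨hx, mem_centralizer_iff.2 fun y hy => ?_⟩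
      have h2 := mem_centralizer_iff.1 hxc _ (autImg_mem (a := b) (x := ⟨y, hY hy⟩) hy)
      exact congrArg Subtype.val (b.injective
        (by rw [map_mul, map_mul]; exact Subtype.ext h2 : b (⟨y, hY hy⟩ * x) = b (x * ⟨y, hY hy⟩)))
  have hsymm : ∀ b : MulAut ↥T, Nat.card ↥(autImg T b V ⊓ centralizer (V : Set G)) ≤
      Nat.card ↥(V ⊓ centralizer (autImg T b V : Set G)) := by
    intro b
    have h1 := (hmeas b⁻¹).2.1
    have hai : autImg T b (autImg T b⁻¹ V) = V := by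
      rw [← autImg_mul, mul_inv_cancel, autImg_one hVT]
    rw [← card_autImg (a := b) (inf_le_of_left_le hVT),
      ← card_autImg (a := b) (inf_le_of_left_le autImg_le), e b hVT autImg_le, e b autImg_le hVT,
      hai] at h1
    exact h1
  have hfullP : ∀ b : MulAut ↥T, ¬ autImg T b V ≤ Cfsg.pCore p G →
      (autImg T b V).map f = memSup p W (TH : Subgroup H) := by
    intro b hb
    obtain ⟨hE, hle, hmE⟩ := hmeas b
    have hm := hmE (le_antisymm hle (hsymm b))
    have hne : (autImg T b V).map f ≠ ⊥ := fun h0 => hb fun x hx =>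
      c.module.inf ⟨hker.2 (mem_bot.1 (h0 ▸ mem_map_of_mem f hx)), autImg_le hx⟩
    have hTn : (TH : Subgroup H) ≤ normalizer ((autImg T b V).map f : Set H) := by
      rw [hTH]
      refine (map_mono ?_).trans (Subgroup.le_normalizer_map f)
      intro t ht
      refine mem_normalizer_iff_map_conj_eq.2 (Subgroup.eq_of_le_of_card_ge ?_
        (card_map_of_injective (MulAut.conj t).injective).ge)
      rintro _ ⟨_, ⟨x, hx, rfl⟩, rfl⟩
      refine ⟨b.symm ⟨t, ht⟩ * x * (b.symm ⟨t, ht⟩)⁻¹, ?_, ?_⟩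
      · exact c.module.normalV.conj_mem _ hx _
      · simp
    exact le_antisymm ((map_mono (hXB b)).trans (c.image_bMax hTH).le)
      (memSup_le_of_normal c.std hTn le_rfl (hTH ▸ map_mono autImg_le) hne hE hm.ge)
  have hP := hfullP a h
  -- the commutator with `V`
  have hcomm : ∀ b : MulAut ↥T, (autImg T b V).map f = memSup p W (TH : Subgroup H) →
      ⁅V, autImg T b V⁆ = ⁅V, B⁆ := by
    intro b hb
    refine le_antisymm (commutator_mono le_rfl (hXB b)) (commutator_le.2 fun v hv y hy => ?_)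
    obtain ⟨x, hx, hxy⟩ : f y ∈ (autImg T b V).map f :=
      hb.ge ((c.image_bMax hTH).le (mem_map_of_mem f hy))
    have hq : x⁻¹ * y ∈ centralizer (V : Set G) :=
      hker.2 (by rw [map_mul, map_inv, hxy, inv_mul_cancel])
    have he : ⁅v, y⁆ = ⁅v, x⁆ := by
      rw [show ⁅v, y⁆ = ⁅v, x⁆ * (x * ⁅v, x⁻¹ * y⁆ * x⁻¹) by simp only [commutatorElement_def]; group,
        show ⁅v, x⁻¹ * y⁆ = 1 from commutatorElement_eq_one_iff_mul_comm.2
          (mem_centralizer_iff.1 hq v hv), mul_one, mul_inv_cancel, mul_one]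
    exact he ▸ commutator_mem_commutator hv hx
  refine ⟨hP, ?_, hcomm a hP⟩
  have hai : autImg T a (autImg T a⁻¹ V) = V := by
    rw [← autImg_mul, mul_inv_cancel, autImg_one hVT]
  have hinv : ¬ autImg T a⁻¹ V ≤ Cfsg.pCore p G := by
    rw [ev.le_core_iff autImg_le]
    intro h0
    refine h ((ev.le_core_iff autImg_le).2 ?_)
    have h1 := autImg_commutator (a := a) hVT (autImg_le (a := a⁻¹) (X := V))
    rw [h0, hai, commutator_comm] at h1
    rw [← h1, autImg, bot_subgroupOf, Subgroup.map_bot]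
  have hP' := hfullP a⁻¹ hinv
  calc autImg T a ⁅V, B⁆ = autImg T a ⁅V, autImg T a⁻¹ V⁆ := by rw [hcomm a⁻¹ hP']
    _ = ⁅autImg T a V, V⁆ := by rw [autImg_commutator hVT autImg_le, hai]
    _ = ⁅V, B⁆ := by rw [commutator_comm, hcomm a hP]

/-- Two images of `V` outside `O₂` commute. -/
theorem full_commute (hst : Stab p V) (hp : p = 2) (hTH : (TH : Subgroup H) = T.map f)
    {a b : MulAut ↥T} (ha : ¬ autImg T a V ≤ Cfsg.pCore p G)
    (ha' : (autImg T a⁻¹ V).map f = memSup p W (TH : Subgroup H))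
    (hb : ¬ autImg T b V ≤ Cfsg.pCore p G) :
    ⁅autImg T a V, autImg T b V⁆ = ⊥ := by
  classical
  have c := ev.model
  set P := memSup p W (TH : Subgroup H) with hPdef
  set X := autImg T a V with hX
  set Y := autImg T b V with hY
  obtain ⟨hXP, -, -⟩ := ev.full_of_not_le hTH ha
  obtain ⟨hYP, -, -⟩ := ev.full_of_not_le hTH hb
  have hVT := ev.V_le_T
  have hBc : ((bMax p T).subgroupOf T).Characteristic := bMax_char
  have hel : ∀ e : MulAut ↥T, Cfsg.IsElementaryAbelian p (autImg T e V) := fun e =>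
    el_map _ ⟨⟨⟨fun x y => Subtype.ext (Subtype.ext (el_comm c.module.elV x.2 y.2))⟩⟩,
      fun x hx => Subtype.ext (by simpa using c.module.elV.2 _ hx)⟩
  have hQC : ∀ {q : G}, f q = 1 → q ∈ Cfsg.pCore p G := fun {q} h => ev.ker ▸ MonoidHom.mem_ker.2 h
  -- the shape of the elements of `Y`
  have hdec : ∀ y ∈ Y, ∃ w : W, ∃ x ∈ X, ∃ q ∈ Cfsg.pCore p G, y = j w * x * q ∧
      f x = f y ∧ ∀ x' ∈ X, Commute x' q := by
    intro y hy
    have hyB : y ∈ bMax p T := (autImg_mono ev.V_le_bMax).trans (autImg_eq_of_char bMax_le_S hBc).le hy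
    have hyT : y ∈ T := bMax_le_S hyB
    set y' := a.symm ⟨y, hyT⟩ with hy'
    have hy'B : (y' : G) ∈ bMax p T := by
      rw [← autImg_eq_of_char (a := a⁻¹) bMax_le_S hBc]
      exact autImg_mem (x := ⟨y, hyT⟩) hyB
    obtain ⟨u, hu, hue⟩ : f (y' : G) ∈ (autImg T a⁻¹ V).map f :=
      ha'.ge ((c.image_bMax hTH).le (mem_map_of_mem f hy'B))
    have huT : u ∈ T := autImg_le hu
    set q' : ↥T := ⟨u, huT⟩⁻¹ * y' with hq'
    have hq'C : (q' : G) ∈ centralizer (V : Set G) := by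
      rw [← c.ker, MonoidHom.mem_ker, hq']
      show f (u⁻¹ * (y' : G)) = 1
      rw [map_mul, map_inv, hue, inv_mul_cancel]
    have hau : ((a ⟨u, huT⟩ : ↥T) : G) ∈ V := by
      have h1 : ((a ⟨u, huT⟩ : ↥T) : G) ∈ autImg T a (autImg T a⁻¹ V) := autImg_mem hu
      rwa [← autImg_mul, mul_inv_cancel, autImg_one hVT] at h1
    obtain ⟨w, hw⟩ := c.jsurj _ hau
    set d : ↥T := a q' with hd
    have hyd : y = j w * (d : G) := by
      rw [hw, hd, ← Subgroup.coe_mul, ← map_mul, hq', mul_inv_cancel_left, hy', MulEquiv.apply_symm_apply]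
    have hdX : ∀ x' ∈ X, Commute x' (d : G) := by
      rintro _ ⟨v, hv, rfl⟩
      show ((a v : ↥T) : G) * (a q' : ↥T) = (a q' : ↥T) * (a v : ↥T)
      rw [← Subgroup.coe_mul, ← Subgroup.coe_mul, ← map_mul, ← map_mul,
        show v * q' = q' * v from Subtype.ext (mem_centralizer_iff.1 hq'C _ hv)]
    have hfd : f (d : G) = f y := by
      rw [hyd, map_mul, show f (j w) = 1 from MonoidHom.mem_ker.1
        (ev.ker ▸ c.module.leQ (c.jmem w)), one_mul]
    obtain ⟨x, hx, hxe⟩ : f (d : G) ∈ X.map f := by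
      rw [hfd, hXP, ← hYP]; exact mem_map_of_mem f hy
    refine ⟨w, x, hx, x⁻¹ * d, hQC (by rw [map_mul, map_inv, hxe, inv_mul_cancel]),
      by rw [hyd]; group, hxe.trans hfd, fun x' hx' => ?_⟩
    exact ((show Commute x' x from el_comm (hel a) hx' hx).inv_right).mul_right (hdX x' hx')
  have hXq : ∀ x ∈ X, f x ∈ P := fun x hx => hXP.le (mem_map_of_mem f hx)
  have hVc : ∀ (w : W) {q : G}, q ∈ Cfsg.pCore p G → Commute (j w) q := fun w q hq =>
    mem_centralizer_iff.1 (c.module.centV hq) _ (c.jmem w)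
  have hmove : ∀ {x : G} (w : W), x * j w = j (dev (f x) w) * j w * x := fun {x} w => by
    rw [c.j_dev]; group
  have hδ : ∀ {x : G} (w : W), x ∈ X → ∀ x' ∈ X, Commute x' (j (dev (f x) w)) := fun {x} w hx x' hx' => by
    have h1 := ev.quad_memSup (hXq x hx) w (f x') (hXq x' hx')
    rw [c.smul_eq_iff] at h1
    exact h1
  -- squares
  have hsq : ∀ y ∈ Y, ∀ w : W, ∀ x ∈ X, ∀ q ∈ Cfsg.pCore p G, y = j w * x * q →
      (∀ x' ∈ X, Commute x' q) → j (dev (f x) w) ∈ coFix p G := by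
    intro y hy w x hx q hq he hxq
    have hy2 : y * y = 1 := by rw [← pow_two]; exact hp ▸ (hel b).2 y hy
    have hw2 : j w * j w = 1 := by rw [← pow_two]; exact hp ▸ c.module.elV.2 _ (c.jmem w)
    have hx2 : x * x = 1 := by rw [← pow_two]; exact hp ▸ (hel a).2 x hx
    have e : y * y = j (dev (f x) w) * (q * q) := by
      rw [he]
      calc j w * x * q * (j w * x * q) = j w * x * (q * j w) * x * q := by group
        _ = j w * (x * j w) * (q * x) * q := by rw [← (hVc w hq).eq]; group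
        _ = j w * j (dev (f x) w) * j w * (x * x) * (q * q) := by
          rw [hmove w, ← (hxq x hx).eq]; group
        _ = j (dev (f x) w) * (j w * j w) * (q * q) := by
          rw [hx2, mul_one, (hVc w (c.module.leQ (c.jmem (dev (f x) w)))).eq]; group
        _ = _ := by rw [hw2, mul_one]
    rw [hy2] at e
    rw [eq_inv_of_mul_eq_one_left e.symm]
    exact inv_mem (ev.sq_mem_coFix hst hp hq)
  have hpair : ∀ y₁ ∈ Y, ∀ y₂ ∈ Y, ∀ w₁ w₂ : W, ∀ x₁ ∈ X, ∀ x₂ ∈ X, ∀ q₁ ∈ Cfsg.pCore p G,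
      ∀ q₂ ∈ Cfsg.pCore p G, y₁ = j w₁ * x₁ * q₁ → y₂ = j w₂ * x₂ * q₂ →
      (∀ x' ∈ X, Commute x' q₁) → (∀ x' ∈ X, Commute x' q₂) →
      j (dev (f x₁) w₂ - dev (f x₂) w₁) ∈ coFix p G := by
    intro y₁ hy₁ y₂ hy₂ w₁ w₂ x₁ hx₁ x₂ hx₂ q₁ hq₁ q₂ hq₂ e₁ e₂ c₁ c₂
    have key : ∀ (u₁ u₂ : W) (z₁ z₂ r₁ r₂ : G), z₁ ∈ X → r₁ ∈ Cfsg.pCore p G →
        Commute z₂ r₁ →
        j u₁ * z₁ * r₁ * (j u₂ * z₂ * r₂) =
          j u₁ * j (dev (f z₁) u₂) * j u₂ * (z₁ * z₂) * (r₁ * r₂) := by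
      intro u₁ u₂ z₁ z₂ r₁ r₂ hz₁ hr₁ hc'
      calc j u₁ * z₁ * r₁ * (j u₂ * z₂ * r₂) = j u₁ * z₁ * (r₁ * j u₂) * z₂ * r₂ := by group
        _ = j u₁ * (z₁ * j u₂) * (r₁ * z₂) * r₂ := by rw [← (hVc u₂ hr₁).eq]; group
        _ = _ := by rw [hmove u₂, ← hc'.eq]; group
    have h1 := key w₁ w₂ x₁ x₂ q₁ q₂ hx₁ hq₁ (c₁ x₂ hx₂)
    have h2 := key w₂ w₁ x₂ x₁ q₂ q₁ hx₂ hq₂ (c₂ x₁ hx₁)
    rw [← e₁, ← e₂] at h1 h2
    rw [el_comm (hel b) hy₁ hy₂, h2, el_comm (hel a) hx₂ hx₁, ← c.jadd, ← c.jadd, ← c.jadd,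
      ← c.jadd] at h1
    set m := dev (f x₁) w₂ - dev (f x₂) w₁ with hm
    set z := x₁ * x₂
    have hzP : Commute z (j m) := by
      rw [hm, sub_eq_add_neg, c.jadd, c.jneg]
      exact ((hδ w₂ hx₁ z (mul_mem hx₁ hx₂))).mul_right ((hδ w₁ hx₂ z (mul_mem hx₁ hx₂)).inv_right)
    have hj : j m * (z * (q₁ * q₂)) = z * (q₂ * q₁) := by
      have e : w₁ + dev (f x₁) w₂ + w₂ = (w₂ + dev (f x₂) w₁ + w₁) + m := by rw [hm]; abel
      rw [e, c.jadd _ m, mul_assoc _ z (q₂ * q₁), mul_assoc _ z (q₁ * q₂), mul_assoc _ (j m),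
        mul_right_inj] at h1
      exact h1.symm
    rw [← mul_assoc, ← hzP.eq, mul_assoc, mul_right_inj] at hj
    have : j m = ⁅q₂, q₁⁆ := by
      rw [commutatorElement_def, eq_mul_inv_of_mul_eq hj]; group
    rw [this]
    exact ev.comm_mem_coFix hst hq₂ hq₁
  -- the first coordinate is fixed by the members
  have hfixw : ∀ D' ∈ insert (⊥ : Subgroup H) (members p W (TH : Subgroup H)),
      ∀ y ∈ Y, f y ∈ D' → ∀ w : W, ∀ x ∈ X, ∀ q ∈ Cfsg.pCore p G, y = j w * x * q → f x = f y →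
      (∀ x' ∈ X, Commute x' q) → w ∈ fx W P := by
    intro D' hD' y hy hyD w x hx q hq he hfx hxq
    refine mem_fx_sSup fun D hD => ?_
    obtain ⟨d, hd, hd1⟩ := exists_ne_one hD.1.ne_bot
    by_cases hDD : D = D' ∧ f y ≠ 1
    · obtain ⟨rfl, h1⟩ := hDD
      exact ev.fx_of_dev_fixed hTH hD hyD h1 (hfx ▸ hsq y hy w x hx q hq he hxq)
    obtain ⟨y₂, hy₂, hy₂d⟩ : d ∈ Y.map f := hYP.ge (le_sSup hD hd)
    obtain ⟨w₂, x₂, hx₂, q₂, hq₂, he₂, hfx₂, hxq₂⟩ := hdec y₂ hy₂
    have h1 := hpair y₂ hy₂ y hy w₂ w x₂ hx₂ x hx q₂ hq₂ q hq he₂ he hxq₂ hxq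
    rw [hfx₂, hy₂d, hfx] at h1
    have hTM : (TH : Subgroup H) ≤ M.map f := hTH.le.trans (map_mono c.hyp0.le)
    obtain ⟨Z, hZ⟩ := exists_part c.std c.umax hTM hD
    have h2 : dev d w - dev (f y) w₂ ∈ fx W Z := ev.mem_fx_partner hTH
      (sub_mem (ev.quad_memSup (le_sSup hD hd) w) (ev.quad_memSup (hfx ▸ hXq x hx) w₂)) h1 hZ.slot.mem
    have h3 : dev (f y) w₂ ∈ fx W Z := by
      rcases eq_or_ne (f y) 1 with h | h
      · rw [h, dev_one]; exact zero_mem _
      · rcases hD' with rfl | hD'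
        · exact absurd (mem_bot.1 hyD) h
        · exact (hZ.dev_mem c.std hTM hD hD' (fun e => hDD ⟨e.symm, h⟩) hyD w₂).2
    refine (hZ.oppPair c.std c.umax hTM hD).opp d hd hd1 w ?_
    simpa using add_mem h2 h3
  -- so the subgroups commute
  set C0 := Y ⊓ centralizer (X : Set G) with hC0
  have hin : ∀ D' ∈ insert (⊥ : Subgroup H) (members p W (TH : Subgroup H)),
      ∀ y ∈ Y, f y ∈ D' → y ∈ C0 := by
    intro D' hD' y hy hyD
    obtain ⟨w, x, hx, q, hq, he, hfx, hxq⟩ := hdec y hy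
    have hw := hfixw D' hD' y hy hyD w x hx q hq he hfx hxq
    refine ⟨hy, mem_centralizer_iff.2 fun x' hx' => ?_⟩
    have h1 : Commute x' (j w) := (c.smul_eq_iff x' w).1 (hw _ (hXq x' hx'))
    rw [he]
    exact (h1.mul_right (el_comm (hel a) hx' hx)).mul_right (hxq x' hx')
  rw [commutator_eq_bot_iff_le_centralizer, le_centralizer_iff]
  intro y hy
  have hle : P ≤ C0.map f := sSup_le fun D hD d hd => by
    obtain ⟨y', hy', he⟩ : d ∈ Y.map f := hYP.ge (le_sSup hD hd)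
    exact ⟨y', hin D (Set.mem_insert_of_mem _ hD) y' hy' (he.symm ▸ hd), he⟩
  obtain ⟨z, hz, hze⟩ := hle (hYP.le (mem_map_of_mem f hy))
  have hk : z⁻¹ * y ∈ C0 := hin ⊥ (Set.mem_insert _ _) _ (mul_mem (inv_mem hz.1) hy) (mem_bot.2 (by
    rw [map_mul, map_inv, hze, inv_mul_cancel]))
  simpa using mul_mem hz.2 hk.2

/-- The images of `V` under automorphisms of odd order lie in `O₂(G)`. -/
theorem autImg_le_core (hst : Stab p V) (hp : p = 2) (hTH : (TH : Subgroup H) = T.map f)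
    {a : MulAut ↥T} (ha : Odd (orderOf a)) : autImg T a V ≤ Cfsg.pCore p G := by
  by_contra hna
  have hVT := ev.V_le_T
  obtain ⟨-, hZ, hcom⟩ := ev.full_of_not_le hTH hna
  set Z2 := ⁅V, bMax p T⁆ with hZ2
  have hZT : Z2 ≤ T := commutator_le.2 fun x hx y hy => by
    rw [commutatorElement_def]
    exact mul_mem (mul_mem (mul_mem (hVT hx) (bMax_le_S hy)) (inv_mem (hVT hx))) (inv_mem (bMax_le_S hy))
  have hpow : ∀ i : ℕ, autImg T (a ^ i) Z2 = Z2 := by
    intro i
    induction i with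
    | zero => rw [pow_zero, autImg_one hZT]
    | succ i ih => rw [pow_succ, autImg_mul, hZ, ih]
  have hedge : ∀ i : ℕ, ⁅autImg T (a ^ i) V, autImg T (a ^ (i + 1)) V⁆ = Z2 := by
    intro i
    rw [pow_succ, autImg_mul, ← autImg_commutator hVT autImg_le, hcom, hpow]
  have hne : Z2 ≠ ⊥ := fun h => ev.not_le_coFix hTH (hZ2 ▸ h ▸ bot_le)
  -- both inside
  have hnull : ∀ i : ℕ, autImg T (a ^ i) V ≤ Cfsg.pCore p G →
      ¬ autImg T (a ^ (i + 1)) V ≤ Cfsg.pCore p G := by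
    intro i h1 h2
    refine ev.not_le_coFix hTH ?_
    show Z2 ≤ coFix p G
    rw [← hedge i]
    exact commutator_le.2 fun x hx y hy => ev.comm_mem_coFix hst (h1 hx) (h2 hy)
  -- both outside
  have hfull : ∀ i : ℕ, ¬ autImg T (a ^ i) V ≤ Cfsg.pCore p G →
      autImg T (a ^ (i + 1)) V ≤ Cfsg.pCore p G := by
    intro i h1
    by_contra h2
    refine hne ?_
    rw [← hedge i]
    refine ev.full_commute hst hp hTH h1 (ev.full_of_not_le hTH ?_).1 h2
    rw [ev.le_core_iff autImg_le]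
    intro h0
    refine h1 ((ev.le_core_iff autImg_le).2 ?_)
    have h3 := autImg_commutator (a := a ^ i) hVT (autImg_le (a := (a ^ i)⁻¹) (X := V))
    rw [h0, ← autImg_mul, mul_inv_cancel, autImg_one hVT, commutator_comm] at h3
    rw [← h3, autImg, bot_subgroupOf, Subgroup.map_bot]
  have hpar : ∀ i : ℕ, (autImg T (a ^ i) V ≤ Cfsg.pCore p G ↔ Even i) := by
    intro i
    induction i with
    | zero => rw [pow_zero, autImg_one hVT]; exact iff_of_true ev.model.module.leQ Even.zero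
    | succ i ih =>
      rw [Nat.even_add_one, ← ih]
      exact ⟨fun h h' => hnull i h' h, fun h => hfull i h⟩
  have h := (hpar (orderOf a)).1 (by rw [pow_orderOf_eq_one, autImg_one hVT]; exact ev.model.module.leQ)
  exact (Nat.not_even_iff_odd.2 ha) h

end Env

/-! ### Invariant normal subgroups -/

theorem pCore_le_syl (P : Sylow p G) : Cfsg.pCore p G ≤ (P : Subgroup G) :=
  PSolvable.pCore_le_sylow P

theorem omegaOneCenter_le_self {X : Subgroup G} : Cfsg.omegaOneCenter p X ≤ X :=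
  (closure_le _).2 fun _ hx => hx.1.1

theorem omegaOneCenter_ne_bot (hT : IsPGroup p ↥T) (h : T ≠ ⊥) :
    Cfsg.omegaOneCenter p T ≠ ⊥ := by
  haveI : Nontrivial ↥T := (Subgroup.nontrivial_iff_ne_bot T).2 h
  haveI := hT.center_nontrivial
  obtain ⟨k, hk⟩ := IsPGroup.iff_card.1 (hT.to_subgroup (Subgroup.center ↥T))
  have hk0 : k ≠ 0 := fun h0 => by
    rw [h0, pow_zero] at hk
    exact (Finite.one_lt_card (α := ↥(Subgroup.center ↥T))).ne' hk
  obtain ⟨z, hz⟩ := exists_prime_orderOf_dvd_card' (G := ↥(Subgroup.center ↥T)) p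
    (hk ▸ dvd_pow_self p hk0)
  intro hbot
  have hzm : ((z : ↥T) : G) ∈ Cfsg.omegaOneCenter p T := by
    refine subset_closure ⟨⟨(z : ↥T).2, mem_centralizer_iff.2 fun t ht =>
      congrArg Subtype.val (Subgroup.mem_center_iff.1 z.2 ⟨t, ht⟩)⟩, ?_⟩
    rw [← Subgroup.coe_pow, ← Subgroup.coe_pow, ← hz, pow_orderOf_eq_one]; rfl
  rw [hbot, mem_bot] at hzm
  have h1 : z = 1 := Subtype.ext (Subtype.ext hzm)
  rw [h1, orderOf_one] at hz
  exact (Fact.out : p.Prime).one_lt.ne hz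

theorem omegaOneCenter_aut (a : MulAut ↥T) {x : ↥T}
    (hx : (x : G) ∈ Cfsg.omegaOneCenter p T) : ((a x : ↥T) : G) ∈ Cfsg.omegaOneCenter p T := by
  have hle : Cfsg.omegaOneCenter p T ≤
      (((Cfsg.omegaOneCenter p T).subgroupOf T).comap a.toMonoidHom).map T.subtype := by
    refine (closure_le _).2 fun y hy => ⟨⟨y, hy.1.1⟩, subset_closure ⟨⟨(a _).2, ?_⟩, ?_⟩, rfl⟩
    · refine mem_centralizer_iff.2 fun t ht => ?_
      show t * ((a ⟨y, hy.1.1⟩ : ↥T) : G) = _
      have h1 : a.symm ⟨t, ht⟩ * ⟨y, hy.1.1⟩ = ⟨y, hy.1.1⟩ * a.symm ⟨t, ht⟩ :=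
        Subtype.ext (mem_centralizer_iff.1 hy.1.2 _ (a.symm ⟨t, ht⟩).2)
      have h2 := congrArg a h1
      rw [map_mul, map_mul, MulEquiv.apply_symm_apply] at h2
      exact congrArg Subtype.val h2
    · show ((a ⟨y, hy.1.1⟩ : ↥T) : G) ^ p = 1
      rw [← Subgroup.coe_pow, ← map_pow,
        show (⟨y, hy.1.1⟩ : ↥T) ^ p = 1 from Subtype.ext hy.2, map_one]; rfl
  obtain ⟨y, hy, hyx⟩ := hle hx
  obtain rfl : y = x := Subtype.ext hyx
  exact hy

theorem char_aut {X : Subgroup G} (hXB : X ≤ bMax p T)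
    (hc : (X.subgroupOf (bMax p T)).Characteristic) (a : MulAut ↥T) {x : ↥T} (hx : (x : G) ∈ X) :
    ((a x : ↥T) : G) ∈ X := by
  have hb : ∀ b : MulAut ↥T, ∀ y : ↥T, (y : G) ∈ bMax p T → ((b y : ↥T) : G) ∈ bMax p T :=
    fun b y hy => (autImg_eq_of_char (a := b) bMax_le_S bMax_char).le (autImg_mem hy)
  let φ : MulAut ↥(bMax p T) :=
    { toFun := fun y => ⟨_, hb a ⟨y, bMax_le_S y.2⟩ y.2⟩
      invFun := fun y => ⟨_, hb a.symm ⟨y, bMax_le_S y.2⟩ y.2⟩
      left_inv := fun y => Subtype.ext (by simp)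
      right_inv := fun y => Subtype.ext (by simp)
      map_mul' := fun y z => Subtype.ext (congrArg (fun z : ↥T => (z : G))
        (map_mul a ⟨y, bMax_le_S y.2⟩ ⟨z, bMax_le_S z.2⟩)) }
  exact (characteristic_iff_comap_eq.1 hc φ).ge
    (show (⟨x, hXB hx⟩ : ↥(bMax p T)) ∈ X.subgroupOf (bMax p T) from hx)

/-- The orbit of `V` under a group of automorphisms of odd order generates a normal subgroup. -/
theorem exists_invariant_normal {T M : Subgroup G} [Fact (Nat.Prime 2)] (d : Hyp0 2 T M)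
    (A : Subgroup (MulAut ↥T)) (hA : Odd (Nat.card A)) :
    ∃ U : Subgroup G, U ≠ ⊥ ∧ U.Normal ∧ U ≤ T ∧
      ∀ a ∈ A, ∀ x : ↥T, (x : G) ∈ U → ((a x : ↥T) : G) ∈ U := by
  classical
  obtain ⟨V, H, W, iH, fH, iW, fW, aW, faW, f, j, c⟩ := d.exists_model
  obtain ⟨Wz, Kc, m2⟩ := c.exists_enlarged
  obtain ⟨TH, hTH⟩ := c.sylow
  obtain ⟨D, hD⟩ := exists_mem_members c hTH
  obtain ⟨X, L, lc⟩ := c.exists_loc m2 hTH hD
  obtain ⟨F, fF, ftF, hF, ⟨np⟩⟩ := lc.slot.part.model
  obtain ⟨n, -, hce, hcases⟩ := c.member_cases m2 lc hF np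
  have ev : Env 2 T M V Wz Kc f j := ⟨c, m2, c.ker.trans hce⟩
  have hst : Stab 2 V := by
    rcases hcases with ⟨ψ, U, Q', X', rk, halt⟩ | ex
    · exact c.stab_of_member m2 lc rk halt
    · exact absurd ex.three (by norm_num)
  haveI := c.module.normalV
  set U : Subgroup G := ⨆ a : ↥A, autImg T (a : MulAut ↥T) V with hU
  have hUQ : U ≤ Cfsg.pCore 2 G := iSup_le fun a => ev.autImg_le_core hst rfl hTH (by
    rw [Subgroup.orderOf_coe]
    exact hA.of_dvd_nat (orderOf_dvd_natCard a))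
  have hUT : U ≤ T := iSup_le fun a => autImg_le
  have hVU : V ≤ U := (autImg_one ev.V_le_T).ge.trans
    (le_iSup (fun a : ↥A => autImg T (a : MulAut ↥T) V) 1)
  refine ⟨U, fun h0 => ev.not_le_coFix hTH ?_, ?_, hUT, ?_⟩
  · rw [show V = ⊥ from le_bot_iff.1 (hVU.trans h0.le), commutator_bot_left]; exact bot_le
  · refine normalizer_eq_top_iff.1 (top_le_iff.1 ?_)
    obtain ⟨P, hP⟩ := d.sylow
    refine (RankOnePush.residual_sup_sylow P).ge.trans (sup_le ?_ ?_)
    · refine (closure_le _).2 fun x hx => ?_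
      refine mem_normalizer_iff_map_conj_eq.2 (Subgroup.eq_of_le_of_card_ge ?_
        (card_map_of_injective (MulAut.conj x).injective).ge)
      rintro _ ⟨u, hu, rfl⟩
      show x * u * x⁻¹ ∈ U
      rw [show x * u * x⁻¹ = ⁅x, u⁆ * u by rw [commutatorElement_def]; group]
      exact mul_mem (hVU (hst x hx u (hUQ hu))) hu
    · rw [hP]
      intro t ht
      refine mem_normalizer_iff_map_conj_eq.2 (Subgroup.eq_of_le_of_card_ge ?_
        (card_map_of_injective (MulAut.conj t).injective).ge)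
      rw [hU, Subgroup.map_iSup]
      refine iSup_mono fun a => ?_
      rintro _ ⟨_, ⟨v, hv, rfl⟩, rfl⟩
      refine ⟨(a : MulAut ↥T).symm ⟨t, ht⟩ * v * ((a : MulAut ↥T).symm ⟨t, ht⟩)⁻¹, ?_, ?_⟩
      · exact c.module.normalV.conj_mem _ hv _
      · simp
  · intro a ha x hx
    have hle : U ≤ ((U.subgroupOf T).comap a.toMonoidHom).map T.subtype := by
      refine iSup_le fun b => ?_
      rintro _ ⟨v, hv, rfl⟩
      exact ⟨(b : MulAut ↥T) v, le_iSup (fun e : ↥A => autImg T (e : MulAut ↥T) V) (⟨a, ha⟩ * b)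
        (autImg_mem (a := a * (b : MulAut ↥T)) hv), rfl⟩
    obtain ⟨y, hy, hyx⟩ := hle hx
    obtain rfl : y = x := Subtype.ext hyx
    exact hy

end Cfsg.Agent.Lib.MinPush94
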