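import Cfsg.Agent.Lib.FFComp.Small

/-!
# The transpositions of a symmetric block are members
-/

set_option autoImplicit false
set_option linter.unusedSectionVars false

namespace Cfsg.Agent.Lib.MinPush94

open Subgroup SL2Recog FFMin FFComp
open scoped Pointwise

universe u

variable {H W : Type u} [Group H] [AddCommGroup W] [DistribMulAction H W] [Finite H] [Finite W]
  [FaithfulSMul H W] {p : ℕ} [Fact p.Prime]

/-- A symmetric block together with its transvections. -/
structure PermData (p : ℕ) (W : Type u) [AddCommGroup W] [DistribMulAction H W] (E : Subgroup H)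
    (N : ℕ) where
  ρ : ↥E ≃* Equiv.Perm (Fin N)
  π : W →+ (Fin N → ZMod 2)
  sum : ∀ v, ∑ i, π v i = 0
  surj : ∀ g, ∑ i, g i = 0 → ∃ v, π v = g
  ker : ∀ v, π v = 0 ↔ v ∈ fx W E
  smul : ∀ (e : ↥E) (v : W) (i : Fin N), π ((e : H) • v) i = π v ((ρ e)⁻¹ i)
  mem : ∀ a b, a ≠ b → Mem p W (zpowers ((ρ.symm (Equiv.swap a b) : ↥E) : H))
  free : devSpan W E ⊓ fx W E = ⊥

/-- A member in the join of a split family lies in one of the subgroups. -/
theorem exists_le_of_mem {T : Subgroup H} {ι : Type*} [Finite ι] {E : ι → Subgroup H}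
    (hs : Split W T E) (hc : Std p H W) (h2 : AllTwo p H W) {D : Subgroup H} (hD : Mem p W D)
    (hle : D ≤ ⨆ i, E i) (hfree : ∀ i, ∀ e ∈ E i, (∀ v, dev e v ∈ fx W (E i)) → e = 1) :
    ∃ i, D ≤ E i := by
  classical
  obtain ⟨d, hd, hd1⟩ := exists_ne_one hD.ne_bot
  suffices h : ∃ i, d ∈ E i by
    obtain ⟨i, hi⟩ := h
    exact ⟨i, fun x hx => (h2.eq_or hD hd hd1 hx).elim (fun e => e ▸ one_mem _) fun e => e ▸ hi⟩
  have hsplit : ∀ i, ∃ e ∈ E i, ∃ r ∈ (⨆ k ∈ {k | k ≠ i}, E k), d = e * r := by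
    intro i
    set R := ⨆ k ∈ {k | k ≠ i}, E k
    have h1 : (⨆ k, E k) ≤ E i ⊔ R := iSup_le fun k => by
      rcases eq_or_ne k i with rfl | hk
      · exact le_sup_left
      · exact (le_iSup₂ (f := fun k (_ : k ∈ {k | k ≠ i}) => E k) k hk).trans le_sup_right
    have hn : R ≤ normalizer (E i : Set H) := iSup₂_le fun k hk r hr =>
      centralizer_le_normalizer _ (mem_centralizer_iff.2 fun e he => (hs.comm (Ne.symm hk)) e he r hr)
    have h2' : d ∈ (E i : Set H) * (R : Set H) := by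
      rw [← coe_mul_of_right_le_normalizer_left _ _ hn]; exact h1 (hle hd)
    obtain ⟨e, he, r, hr, h⟩ := Set.mem_mul.1 h2'
    exact ⟨e, he, r, hr, h.symm⟩
  choose e he r hr hde using hsplit
  have hrfx : ∀ i (v : W), dev (r i) v ∈ fx W (E i) := fun i =>
    (iSup₂_le fun k hk => hs.orth k i hk : (⨆ k ∈ {k | k ≠ i}, E k) ≤ fxTo (fx W (E i))) (hr i)
  have hrdev : ∀ i, ∀ v ∈ devSpan W (E i), dev (r i) v = 0 := fun i v hv => by
    have hle' : (⨆ k ∈ {k | k ≠ i}, E k) ≤ MulAction.stabilizer H v :=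
      iSup₂_le fun k hk => le_stab.2 (devSpan_le (hs.orth i k (Ne.symm hk)) hv)
    exact dev_eq_zero_iff.2 (MulAction.mem_stabilizer_iff.1 (hle' (hr i)))
  have hdev : ∀ i (v : W), dev d v = e i • dev (r i) v + dev (e i) v := fun i v => by
    rw [hde i, dev_mul]
  have hefix : ∀ i (v : W), e i • dev (r i) v = dev (r i) v := fun i v => hrfx i v _ (he i)
  by_contra hno
  push Not at hno
  have hex : ∃ i, e i ≠ 1 := by
    by_contra hall
    push Not at hall
    refine hd1 (eq_one_of_dev fun v : W => ?_)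
    obtain ⟨u, hu, w, hw, rfl⟩ := AddSubgroup.mem_sup.1 (hs.decomp ▸ AddSubgroup.mem_top v)
    rw [dev_add, dev_eq_zero (hle hd) hu, zero_add]
    have hw' : (⨆ k, devSpan W (E k)) ≤ (devHom W d).ker := iSup_le fun k x hx => by
      rw [AddMonoidHom.mem_ker, devHom_apply, hdev k, hefix, hall k, dev_one, add_zero]
      exact hrdev k x hx
    exact hw' hw
  obtain ⟨i, hi⟩ := hex
  refine hno i ?_
  suffices hr1 : r i = 1 by rw [hde i, hr1, mul_one]; exact he i
  refine eq_one_of_dev fun v : W => ?_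
  obtain ⟨u, hu, w, hw, rfl⟩ := AddSubgroup.mem_sup.1 (hs.span i ▸ AddSubgroup.mem_top v)
  rw [dev_add, hrdev i w hw, add_zero]
  obtain ⟨w₀, hw₀⟩ : ∃ x, dev (e i) x ∉ fx W (E i) := by
    by_contra h; push Not at h; exact hi (hfree i _ (he i) h)
  obtain ⟨u₀, hu₀, v₀, hv₀, rfl⟩ := AddSubgroup.mem_sup.1 (hs.span i ▸ AddSubgroup.mem_top w₀)
  rw [dev_add, dev_eq_zero (he i) hu₀, zero_add] at hw₀
  have hw₀' : dev (e i) v₀ ≠ 0 := fun h => hw₀ (h ▸ zero_mem _)
  have e1 : dev d v₀ = dev (e i) v₀ := by rw [hdev i, hrdev i v₀ hv₀, smul_zero, zero_add]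
  have e2 : dev d u = dev (r i) u := by rw [hdev i, hefix, dev_eq_zero (he i) hu, add_zero]
  -- the range of `dev d` has two elements
  by_contra hne
  have hnf : ∀ x : W, dev d x ≠ 0 → x ∉ fx W D := fun x hx hxD => hx (dev_eq_zero hd hxD)
  have h12 : dev (e i) v₀ = dev (r i) u := by
    rw [← e1, ← e2, h2.dev_eq hc hD hd hd1 (hnf _ (e1 ▸ hw₀')),
      h2.dev_eq hc hD hd hd1 (hnf _ (e2 ▸ hne))]
  exact hw₀ (h12 ▸ hrfx i u)

/-- An additive subgroup with all pair vectors contains all even vectors. -/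
theorem mem_even_of_pairs {N : ℕ} {S : AddSubgroup (Fin N → ZMod 2)}
    (h : ∀ a b, Pi.single a 1 + Pi.single b 1 ∈ S) (g : Fin N → ZMod 2) (hg : ∑ i, g i = 0) : g ∈ S := by
  classical
  rcases isEmpty_or_nonempty (Fin N) with hN | ⟨⟨z⟩⟩
  · rw [show g = 0 from funext fun i => isEmptyElim i]; exact zero_mem _
  have e : g = ∑ i, g i • (Pi.single i 1 + Pi.single z 1 : Fin N → ZMod 2) := by
    funext k
    simp only [Finset.sum_apply, Pi.smul_apply, Pi.add_apply, smul_eq_mul, mul_add,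
      Finset.sum_add_distrib, Pi.single_apply, mul_ite, mul_one, mul_zero, Finset.sum_ite_eq,
      Finset.mem_univ, if_true]
    split_ifs with hk
    · rw [hg, add_zero]
    · rw [Finset.sum_const_zero, add_zero]
  rw [e]
  refine sum_mem fun i _ => ?_
  rcases (show ∀ a : ZMod 2, a = 0 ∨ a = 1 by decide) (g i) with h0 | h0
  · rw [h0, zero_smul]; exact zero_mem _
  · rw [h0, one_smul]; exact h i z

/-- An involution whose vectors move in at most two values is a transposition. -/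
theorem exists_swap_of_dev {N : ℕ} (hN : Odd N) {σ : Equiv.Perm (Fin N)} (h2 : σ * σ = 1) (h1 : σ ≠ 1)
    {c : Fin N → ZMod 2}
    (hd : ∀ g : Fin N → ZMod 2, ∑ i, g i = 0 →
      (fun i => g (σ⁻¹ i) - g i) = 0 ∨ (fun i => g (σ⁻¹ i) - g i) = c) :
    ∃ a b, a ≠ b ∧ σ = Equiv.swap a b := by
  classical
  have hinv : σ⁻¹ = σ := inv_eq_of_mul_eq_one_right h2
  have hσσ : ∀ x, σ (σ x) = x := fun x => by rw [← Equiv.Perm.mul_apply, h2, Equiv.Perm.one_apply]
  obtain ⟨z, hz⟩ : ∃ z, σ z = z := by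
    have hodd : ¬ 2 ∣ Fintype.card (Fin N) := by
      rw [Fintype.card_fin]; exact fun h => Nat.not_even_iff_odd.2 hN (even_iff_two_dvd.2 h)
    haveI : Fact (Nat.Prime 2) := ⟨Nat.prime_two⟩
    exact Equiv.Perm.exists_fixed_point_of_prime (p := 2) (n := 1) hodd (by rw [pow_one, pow_two, h2])
  obtain ⟨a, ha⟩ : ∃ a, σ a ≠ a := by
    by_contra h; push Not at h; exact h1 (Equiv.ext h)
  refine ⟨a, σ a, (Ne.symm ha), Equiv.ext fun x => ?_⟩
  rcases eq_or_ne x a with rfl | hxa
  · rw [Equiv.swap_apply_left]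
  rcases eq_or_ne x (σ a) with rfl | hxb
  · rw [Equiv.swap_apply_right, hσσ]
  rw [Equiv.swap_apply_of_ne_of_ne hxa hxb]
  by_contra hx
  set g : Fin N → Fin N → ZMod 2 := fun u => Pi.single u 1 + Pi.single z 1 with hg
  have hgs : ∀ u, ∑ i, g u i = 0 := fun u => by
    simp only [hg, Pi.add_apply, Finset.sum_add_distrib, Finset.sum_pi_single', Finset.mem_univ, if_true]
    rfl
  have hval : ∀ u, σ u ≠ u → g u (σ⁻¹ u) - g u u = 1 := fun u hu => by
    have hzu : z ≠ u := fun h => hu (h ▸ hz)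
    have h3 : σ u ≠ z := fun h => hu (by rw [h, ← hσσ u, h, hz])
    rw [hinv]; simp [hg, hu, h3, hzu.symm]
  have hne : ∀ u v, σ u ≠ u → v ≠ u → v ≠ σ u → g u (σ⁻¹ v) - g u v = 0 := fun u v hu h3 h4 => by
    have h5 : σ v ≠ u := fun h => h4 (by rw [← h, hσσ])
    rw [hinv]
    by_cases hvz : v = z
    · subst hvz; rw [hz]; exact sub_self _
    · have h6 : σ v ≠ z := fun h => hvz (by rw [← hσσ v, h, hz])
      simp [hg, h3, h5, hvz, h6]
  have hca : c a = 1 := by
    rcases hd _ (hgs a) with h | h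
    · exact absurd ((hval a ha).symm.trans (congrFun h a)) (show (1 : ZMod 2) ≠ 0 by decide)
    · rw [← h]; exact hval a ha
  rcases hd _ (hgs x) with h | h
  · exact absurd ((hval x hx).symm.trans (congrFun h x)) (show (1 : ZMod 2) ≠ 0 by decide)
  · have h3 := congrFun h a
    rw [hne x a hx (Ne.symm hxa) (fun e => hxb (by rw [e, hσσ])), hca] at h3
    exact absurd h3 (by decide)

/-- The data of a symmetric block containing a member. -/
theorem exists_permData (hc : Std p H W) (h2 : AllTwo p H W) {E : Subgroup H}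
    (hE : IsPermBlock p W E) {X : Subgroup H} (hX : Mem p W X) (hXE : X ≤ E) :
    ∃ n : ℕ, 1 ≤ n ∧ Nonempty (PermData p W E (2 ^ n + 1)) := by
  classical
  obtain ⟨hp2, n, hn, ρ, π, hsum, hsurj, hker, hsmul⟩ := hE
  subst hp2
  refine ⟨n, hn, ?_⟩
  have hNo : Odd (2 ^ n + 1) := ⟨2 ^ (n - 1), by
    rw [show (2:ℕ) ^ n = 2 * 2 ^ (n - 1) by rw [← pow_succ']; congr 1; omega]⟩
  obtain ⟨x, hx, hx1⟩ := exists_ne_one hX.ne_bot
  set σ := ρ ⟨x, hXE hx⟩ with hσ
  have hπdev : ∀ v, π (dev x v) = fun i => π v (σ⁻¹ i) - π v i := fun v => funext fun i => by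
    rw [dev, map_sub, Pi.sub_apply, hsmul ⟨x, hXE hx⟩]
  have hxx : x * x = 1 := by
    rw [← pow_two]; exact hX.elem.2 x hx
  obtain ⟨a, b, hab, hswap⟩ := exists_swap_of_dev hNo (σ := σ) (c := π (ctr W X))
    (by rw [hσ, ← map_mul, show (⟨x, hXE hx⟩ : ↥E) * ⟨x, hXE hx⟩ = 1 from Subtype.ext hxx, map_one])
    (fun h => hx1 (congrArg Subtype.val ((map_eq_one_iff ρ ρ.injective).1 h)))
    fun g hg => by
      obtain ⟨v, rfl⟩ := hsurj g hg
      rw [← hπdev]
      by_cases hv : v ∈ fx W X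
      · left; rw [dev_eq_zero hx hv, map_zero]
      · right; rw [h2.dev_eq hc hX hx hx1 hv]
  have hXz : X = zpowers x := le_antisymm (fun y hy => (h2.eq_or hX hx hx1 hy).elim
    (fun e => e ▸ one_mem _) fun e => e ▸ mem_zpowers x) (zpowers_le.2 hx)
  have hmem : ∀ c d, c ≠ d → Mem 2 W (zpowers ((ρ.symm (Equiv.swap c d) : ↥E) : H)) := by
    intro c d hcd
    obtain ⟨τ, hτ⟩ := isConj_iff.1 (Equiv.Perm.isConj_swap hab hcd)
    have e : ((ρ.symm (Equiv.swap c d) : ↥E) : H) =
        (MulAut.conj ((ρ.symm τ : ↥E) : H)).toMonoidHom x := by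
      rw [← hτ, ← hswap, hσ, map_mul, map_mul, map_inv, MulEquiv.symm_apply_apply]
      rfl
    rw [e, ← MonoidHom.map_zpowers, ← hXz]
    exact hX.cnj _
  refine ⟨⟨ρ, π, hsum, hsurj, hker, hsmul, hmem, ?_⟩⟩
  -- the centres of the adjacent transpositions span
  let gc : Fin (2 ^ n) → W := fun k =>
    ctr W (zpowers ((ρ.symm (Equiv.swap k.castSucc k.succ) : ↥E) : H))
  letI : Module (ZMod 2) W := AddCommGroup.zmodModule fun v => by rw [two_nsmul]; exact h2.add_self hc hX v
  let Φ : (Fin (2 ^ n) → ZMod 2) →+ W := AddMonoidHom.mk' (fun f => ∑ k, f k • gc k) fun f g => by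
    simp only [Pi.add_apply, add_smul, Finset.sum_add_distrib]
  have hEle : E ≤ fxTo Φ.range := by
    intro e he
    have htop : Submonoid.closure (Set.range fun k : Fin (2 ^ n) => Equiv.swap k.castSucc k.succ) = ⊤ :=
      Equiv.Perm.mclosure_swap_castSucc_succ _
    have key : ∀ τ : Equiv.Perm (Fin (2 ^ n + 1)), ((ρ.symm τ : ↥E) : H) ∈ fxTo Φ.range := by
      intro τ
      have hτ : τ ∈ Submonoid.closure (Set.range fun k : Fin (2 ^ n) => Equiv.swap k.castSucc k.succ) :=
        htop ▸ Submonoid.mem_top τ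
      induction hτ using Submonoid.closure_induction with
      | mem τ hτ =>
        obtain ⟨k, rfl⟩ := hτ
        intro v
        refine h2.dev_mem hc (hmem _ _ ?_) (AddMonoidHom.mem_range.2 ⟨Pi.single k 1, ?_⟩) (mem_zpowers _) v
        · exact (Fin.castSucc_lt_succ (i := k)).ne
        · show ∑ l, (Pi.single k 1 : Fin (2 ^ n) → ZMod 2) l • gc l = gc k
          simp [Pi.single_apply, ite_smul]
      | one => rw [map_one]; exact one_mem _
      | mul τ τ' _ _ h h' => rw [map_mul, Subgroup.coe_mul]; exact mul_mem h h'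
    simpa using key (ρ ⟨e, he⟩)
  -- the span maps onto the even vectors
  let P : AddSubgroup (Fin (2 ^ n + 1) → ZMod 2) := π.range
  have hle : devSpan W E ≤ Φ.range := devSpan_le hEle
  have hsurjP : ∀ v, ∃ w ∈ devSpan W E, π w = π v := by
    intro v
    have htop : fx W E ⊔ devSpan W E = ⊤ := by
      have hadd : ∀ g, ∑ i, g i = 0 → g ∈ (devSpan W E).map π := by
        intro g hg
        refine mem_even_of_pairs (fun a b => ?_) g hg
        rcases eq_or_ne a b with rfl | hab'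
        · rw [← two_nsmul, ZModModule.char_nsmul_eq_zero 2]; exact zero_mem _
        · obtain ⟨c, hc1, hc2⟩ : ∃ c : Fin (2 ^ n + 1), c ≠ a ∧ c ≠ b := by
            have hcard : ({a, b} : Finset (Fin (2 ^ n + 1))).card < Fintype.card (Fin (2 ^ n + 1)) := by
              rw [Fintype.card_fin, Finset.card_pair hab']
              have := Nat.one_lt_two_pow (show n ≠ 0 by omega); omega
            obtain ⟨c, hc⟩ := Finset.exists_mem_notMem_of_card_lt_card
              (s := ({a, b} : Finset (Fin (2 ^ n + 1)))) (t := Finset.univ) hcard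
            simp only [Finset.mem_insert, Finset.mem_singleton, not_or] at hc
            exact ⟨c, hc.2.1, hc.2.2⟩
          obtain ⟨v₀, hv₀⟩ := hsurj (Pi.single a 1 + Pi.single c 1) (by
            simp only [Pi.add_apply, Finset.sum_add_distrib, Finset.sum_pi_single', Finset.mem_univ,
              if_true]
            rfl)
          refine ⟨dev ((ρ.symm (Equiv.swap a b) : ↥E) : H) v₀,
            dev_mem_devSpan (ρ.symm (Equiv.swap a b)).2 v₀, ?_⟩
          funext i
          rw [dev, map_sub, Pi.sub_apply, hsmul, MulEquiv.apply_symm_apply, Equiv.swap_inv, hv₀]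
          have hcb : c ≠ b := hc2
          rcases eq_or_ne i a with rfl | hia
          · simp [Equiv.swap_apply_left, hab', hab'.symm, hcb.symm, hc1.symm]
          rcases eq_or_ne i b with rfl | hib
          · simp [Equiv.swap_apply_right, hab', hab'.symm, hcb.symm, hc1.symm]
          rw [Equiv.swap_apply_of_ne_of_ne hia hib, sub_self]
          simp [hia, hib]
      refine eq_top_iff.2 fun w _ => ?_
      obtain ⟨u, hu, hπu⟩ := hadd _ (hsum w)
      exact AddSubgroup.mem_sup.2 ⟨w - u, (hker _).1 (by rw [map_sub, hπu, sub_self]), u, hu,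
        sub_add_cancel w u⟩
    obtain ⟨u, hu, w, hw, rfl⟩ := AddSubgroup.mem_sup.1 (htop ▸ AddSubgroup.mem_top v)
    exact ⟨w, hw, by rw [map_add, (hker u).2 hu, zero_add]⟩
  refine (AddSubgroup.eq_bot_iff_forall _).2 fun w hw => ?_
  obtain ⟨f, rfl⟩ := hle hw.1
  suffices hinj : Function.Injective (π.comp Φ) by
    rw [show f = 0 from hinj (by rw [map_zero]; exact (hker _).2 hw.2), map_zero]
  let ψ : (Fin (2 ^ n) → ZMod 2) → (Fin (2 ^ n) → ZMod 2) := fun f k => π (Φ f) k.castSucc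
  have hψ : Function.Surjective ψ := fun g => by
    obtain ⟨v, hv⟩ := hsurj (Fin.snoc g (∑ k, g k)) (by
      rw [Fin.sum_univ_castSucc]
      simp only [Fin.snoc_castSucc, Fin.snoc_last]
      exact CharTwo.add_self_eq_zero _)
    obtain ⟨w, hw, hwv⟩ := hsurjP v
    obtain ⟨f', hf'⟩ := hle hw
    refine ⟨f', funext fun k => ?_⟩
    show π (Φ f') k.castSucc = g k
    rw [show Φ f' = w from hf', hwv, hv, Fin.snoc_castSucc]
  intro f f' h
  exact (Finite.injective_iff_surjective.2 hψ) (funext fun k => congrFun h k.castSucc)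

end Cfsg.Agent.Lib.MinPush94
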