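import Cfsg.Agent.Lib.MinPush94.Local
import Cfsg.Agent.Lib.RankOnePush.ShapeBridge
import Cfsg.Agent.Lib.RankOnePush.Chief
import Cfsg.Agent.Lib.RankOnePush.Factors

/-!
# The rank one structure of the subgroup belonging to a member
-/

set_option autoImplicit false
set_option linter.unusedSectionVars false

namespace Cfsg.Agent.Lib.MinPush94

open Subgroup SL2Recog FFMin FFComp
open Cfsg.Agent.Lib Cfsg.Agent.Lib.FocalChar
open Cfsg.Agent.Lib.SL2 (SLtwo PSLtwo proj)
open scoped commutatorElement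

universe u

variable {G : Type u} [Group G] [Finite G] {p : ℕ} [Fact p.Prime] {T M V : Subgroup G}
  {H W : Type u} [Group H] [Finite H] [AddCommGroup W] [Finite W] [DistribMulAction H W]
  [FaithfulSMul H W] {f : G →* H} {j : W → G} {Wz Kc : Subgroup G}
  {TH : Sylow p H} {D X : Subgroup H} {L : Subgroup G}
  {F : Type} [Field F] [Fintype F] {n : ℕ}

/-- The rank one data on `L`. -/
structure Rk (p : ℕ) (B L : Subgroup G) (F : Type) [Field F] [Fintype F] (n : ℕ)
    (ψ : ↥L →* PSLtwo F) (U Q X : Subgroup ↥L) : Prop where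
  setup : RankOnePush.Setup p (B.subgroupOf L) (Cfsg.pCore p ↥L) n ψ
  small : RankOnePush.SmallModule p (B.subgroupOf L) (Cfsg.pCore p ↥L) n
    (normalClosure (RankOnePush.omegaZ p (B.subgroupOf L) : Set ↥L))
  shape : RankOnePush.Shape p (p ^ n) ⊤ (B.subgroupOf L) (Cfsg.pCore p ↥L)
    (normalClosure (RankOnePush.omegaZ p (B.subgroupOf L) : Set ↥L)) U Q X
  nochar : ∀ Y : Subgroup ↥L, Y ≤ B.subgroupOf L → Y.Normal →
    (Y.subgroupOf (B.subgroupOf L)).Characteristic → Y = ⊥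
  cent : centralizer (Cfsg.pCore p ↥L : Set ↥L) ≤ Cfsg.pCore p ↥L

theorem Loc.exists_rk (lc : Loc (W := W) p T M V Wz f (TH : Subgroup H) D X L)
    (c : Model p T M V f j) (hF : Fintype.card F = Nat.card D)
    (np : NatPair F W D X) :
    ∃ (n : ℕ) (ψ : ↥L →* PSLtwo F) (U Q X' : Subgroup ↥L),
      Nat.card D = p ^ n ∧ Rk p (bMax p T) L F n ψ U Q X' := by
  classical
  set B := bMax p T with hBdef
  obtain ⟨n, hn⟩ := IsPGroup.iff_card.1 lc.slot.mem.1.elem.isPGroup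
  have hn0 : n ≠ 0 := fun h0 =>
    lc.slot.mem.1.ne_bot (Subgroup.eq_bot_of_card_eq _ (by rw [hn, h0, pow_zero]))
  set K := (D ⊔ X) ⊔ others p W (TH : Subgroup H) D with hK
  obtain ⟨χ, hχ⟩ := (lc.slot.exists_chi : ∃ χ : ↥K →* ↥(D ⊔ X),
    ∀ x, (χ x : H)⁻¹ * x ∈ others p W (TH : Subgroup H) D)
  let θ : ↥L →* ↥K := (f.comp L.subtype).codRestrict K fun x => lc.img.le (mem_map_of_mem f x.2)
  have hθ : Function.Surjective θ := by
    rintro ⟨k, hk⟩
    obtain ⟨x, hx, rfl⟩ := lc.img.ge hk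
    exact ⟨⟨x, hx⟩, rfl⟩
  have hχs : Function.Surjective χ := fun e => by
    refine ⟨⟨e, mem_sup_left e.2⟩, Subtype.ext ?_⟩
    have h1 : (χ ⟨e, mem_sup_left e.2⟩ : H)⁻¹ * (e : H) ∈ others p W (TH : Subgroup H) D :=
      hχ ⟨e, mem_sup_left e.2⟩
    have h2 : (χ ⟨e, mem_sup_left e.2⟩ : H)⁻¹ * e = 1 :=
      lc.slot.disj _ (mul_mem (inv_mem (χ ⟨e, mem_sup_left e.2⟩).2) e.2) h1
    exact inv_mul_eq_one.1 h2
  set ψ₀ : ↥L →* PSLtwo F := proj.comp (np.ρ.toMonoidHom.comp (χ.comp θ)) with hψ₀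
  have hψs : Function.Surjective ψ₀ :=
    SL2.proj_surjective.comp (np.ρ.surjective.comp (hχs.comp hθ))
  have hBp : IsPGroup p B := c.hyp0.pgroup.to_le bMax_le_S
  let P1 : Sylow p ↥L :=
    { toSubgroup := B.subgroupOf L
      isPGroup' := hBp.of_equiv (subgroupOfEquivOfLe lc.bMax_le).symm
      is_maximal' := fun {Y} hY hle => le_antisymm (fun x hx => mem_subgroupOf.2
        (lc.sylow _ (map_subtype_le Y) (hY.map _)
          (fun y hy => ⟨⟨y, lc.bMax_le hy⟩, hle hy, rfl⟩) (mem_map_of_mem L.subtype hx))) hle }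
  set M1 := M.subgroupOf L with hM1
  have hM1ne : M1 ≠ ⊤ := fun h => lc.notM (subgroupOf_eq_top.1 h)
  have hP1M : (P1 : Subgroup ↥L) ≤ M1 := fun x hx => c.hyp0.le (bMax_le_S hx)
  have hmax1 : ∀ Y : Subgroup ↥L, (P1 : Subgroup ↥L) ≤ Y → Y ≠ ⊤ → Y ≤ M1 := by
    intro Y hPY hY x hx
    by_contra hxM
    refine hY (map_injective L.subtype_injective ?_)
    rw [lc.min (Y.map L.subtype) (map_subtype_le Y) (fun y hy => ⟨⟨y, lc.bMax_le hy⟩, hPY hy, rfl⟩)
      fun hle => hxM (hle (mem_map_of_mem _ hx)), ← MonoidHom.range_eq_map, Subgroup.range_subtype]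
  have hd1 : PushingUp.Data p (P1 : Subgroup ↥L) M1 n F ψ₀ :=
    ⟨⟨P1, rfl⟩, lc.cent, ⟨hM1ne, fun Y hlt => by
      by_contra hne
      exact hlt.not_ge (hmax1 Y (hP1M.trans hlt.le) hne)⟩, hP1M,
      fun Y h1 h2 => ((h1.le_iff.1 (hmax1 Y h2 h1.1)).resolve_left hM1ne).symm,
      hψs, hF.trans hn, hn0⟩
  have hnochar : ∀ Y : Subgroup ↥L, Y ≤ B.subgroupOf L → Y.Normal →
      (Y.subgroupOf (B.subgroupOf L)).Characteristic → Y = ⊥ := by
    intro Y hY hYn hYc
    by_contra hne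
    set Z := Y.map L.subtype with hZ
    have hZB : Z ≤ B := by
      rintro _ ⟨y, hy, rfl⟩
      exact hY hy
    have hZne : Z ≠ ⊥ := by
      rwa [hZ, Ne, Subgroup.map_eq_bot_iff_of_injective _ L.subtype_injective]
    have hZc : (Z.subgroupOf B).Characteristic := by
      have e : Z.subgroupOf B = (Y.subgroupOf (B.subgroupOf L)).map
          (subgroupOfEquivOfLe lc.bMax_le).toMonoidHom := by
        ext x
        constructor
        · rintro ⟨y, hy, hye⟩
          refine ⟨⟨y, hY hy⟩, hy, ?_⟩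
          exact Subtype.ext hye
        · rintro ⟨y, hy, rfl⟩
          exact ⟨y, hy, rfl⟩
      rw [e]
      set eq := subgroupOfEquivOfLe lc.bMax_le
      refine characteristic_iff_map_eq.2 fun φ => ?_
      have hcomp : φ.toMonoidHom.comp eq.toMonoidHom =
          eq.toMonoidHom.comp ((eq.trans φ).trans eq.symm).toMonoidHom := by
        ext y; simp
      rw [map_map, hcomp, ← map_map, characteristic_iff_map_eq.1 hYc]
    refine lc.notM (le_trans ?_ (c.hyp0.normalizer_char_le hZB hZne hZc))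
    intro x hx
    refine mem_normalizer_iff_map_conj_eq.2 ?_
    have h1 : Y.map (MulAut.conj (⟨x, hx⟩ : ↥L)).toMonoidHom = Y :=
      mem_normalizer_iff_map_conj_eq.1 (normalizer_eq_top_iff.2 hYn ▸ mem_top _)
    show Subgroup.map (MulAut.conj x).toMonoidHom Z = Z
    conv_rhs => rw [hZ, ← h1]
    rw [hZ, map_map, map_map]
    congr 1
  obtain ⟨ψ, -, s⟩ := RankOnePush.exists_setup hd1
  have hne : (P1 : Subgroup ↥L) ≠ ⊥ := fun h0 => c.hyp0.bMax_ne_bot (by
    have h2 := map_subgroupOf_eq_of_le lc.bMax_le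
    rw [show (B.subgroupOf L) = ⊥ from h0, Subgroup.map_bot] at h2
    exact h2.symm)
  obtain ⟨m, -⟩ := RankOnePush.exists_smallModule hd1 hne hnochar
  obtain ⟨U, Q, X', h⟩ := s.exists_shape m (fun z hz hcz hzp =>
    subset_normalClosure (show z ∈ RankOnePush.omegaZ p (B.subgroupOf L) from ⟨⟨hz, hcz⟩, hzp⟩))
    hnochar
  exact ⟨n, ψ, U, Q, X', hn, s, m, h, hnochar, lc.cent⟩

/-- The closure of `Ω₁(Z(B))` in `L` lies in the enlarged module. -/
theorem Loc.vl_le (lc : Loc (W := W) p T M V Wz f (TH : Subgroup H) D X L)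
    (m2 : Module2 p T V Wz Kc) {x : ↥L}
    (hx : x ∈ normalClosure (RankOnePush.omegaZ p ((bMax p T).subgroupOf L) : Set ↥L)) :
    (x : G) ∈ Wz := by
  haveI := m2.normalW
  have hle : normalClosure (RankOnePush.omegaZ p ((bMax p T).subgroupOf L) : Set ↥L) ≤
      Wz.subgroupOf L := normalClosure_le_normal fun z hz => by
    obtain ⟨⟨hzB, hzC⟩, hzp⟩ := hz
    refine (m2.W_eq ▸ le_sup_right : zMax p T ≤ Wz) (mem_zMax (bMax_le_S hzB)
      (by simpa using congrArg Subtype.val hzp) fun A hA => mem_centralizer_iff.2 fun a ha => ?_)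
    have haB : a ∈ bMax p T := maxEl_le_bMax hA ha
    simpa using congrArg Subtype.val (mem_centralizer_iff.1 hzC ⟨a, lc.bMax_le haB⟩ haB)
  exact hle hx

/-- `L` moves the enlarged module into `[V, L]`. -/
theorem Loc.comm_wz (lc : Loc (W := W) p T M V Wz f (TH : Subgroup H) D X L)
    {w x : G} (hw : w ∈ Wz) (hx : x ∈ L) : ∃ v ∈ V, ⁅x, w⁆ = ⁅x, v⁆ := by
  obtain ⟨v, hv, y, rfl, hy⟩ := lc.fixY w hw
  refine ⟨v, hv, ?_⟩
  rw [show ⁅x, v * y⁆ = ⁅x, v⁆ * (v * ⁅x, y⁆ * v⁻¹) by simp only [commutatorElement_def]; group,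
    show ⁅x, y⁆ = 1 from commutatorElement_eq_one_iff_mul_comm.2 (hy x hx)]
  group

/-- A `p'`-element of `L` outside `M`. -/
theorem Loc.exists_coprime (lc : Loc (W := W) p T M V Wz f (TH : Subgroup H) D X L)
    (c : Model p T M V f j) : ∃ x ∈ L, (orderOf x).Coprime p ∧ x ∉ M := by
  by_contra hno
  push Not at hno
  refine lc.notM ?_
  have hBp : IsPGroup p ((bMax p T).subgroupOf L) :=
    (c.hyp0.pgroup.to_le bMax_le_S).of_equiv (subgroupOfEquivOfLe lc.bMax_le).symm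
  obtain ⟨P1, hP1⟩ := hBp.exists_le_sylow
  have hle : (P1 : Subgroup ↥L) ≤ (bMax p T).subgroupOf L := fun x hx =>
    mem_subgroupOf.2 (lc.sylow _ (map_subtype_le _) (P1.2.map _)
      (fun y hy => ⟨⟨y, lc.bMax_le hy⟩, hP1 hy, rfl⟩) (mem_map_of_mem L.subtype hx))
  have hres : Cfsg.pResidual p ↥L ≤ M.subgroupOf L := by
    rw [Cfsg.pResidual, closure_le]
    intro y hy
    exact hno y y.2 (by rw [orderOf_coe]; exact hy)
  have htop := RankOnePush.residual_sup_sylow P1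
  intro x hx
  have : (⊤ : Subgroup ↥L) ≤ M.subgroupOf L := htop.ge.trans
    (sup_le hres (hle.trans fun y hy => c.hyp0.le (bMax_le_S hy)))
  exact this (mem_top ⟨x, hx⟩)

/-- Everything `L` does to `O_p` when the rank one group has one noncentral chief factor. -/
theorem Loc.comm_core (lc : Loc (W := W) p T M V Wz f (TH : Subgroup H) D X L)
    (c : Model p T M V f j) (m2 : Module2 p T V Wz Kc) {ψ : ↥L →* PSLtwo F} {U Q X' : Subgroup ↥L}
    (rk : Rk p (bMax p T) L F n ψ U Q X')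
    (halt : U = normalClosure (RankOnePush.omegaZ p ((bMax p T).subgroupOf L) : Set ↥L))
    {x q : G} (hx : x ∈ L) (hco : (orderOf x).Coprime p) (hq : q ∈ Cfsg.pCore p G) :
    ⁅x, q⁆ ∈ V := by
  haveI := c.normal_core_inf_bMax m2
  haveI := m2.normalW
  haveI := c.module.normalV
  set a := ⁅x, q⁆ with ha
  have haD : a ∈ Cfsg.pCore p G ⊓ bMax p T := by
    rw [ha, ← commutatorElement_inv]; exact inv_mem (lc.comm q hq x hx)
  have hpow : ∃ k : ℕ, orderOf a = p ^ k := (IsPGroup.iff_orderOf.1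
    (PSolvable.pCore_isPGroup (G := G) (p := p))) ⟨a, haD.1⟩ |>.imp fun k hk => by rwa [orderOf_mk] at hk
  have hn : ∀ (Y : Subgroup G) [Y.Normal] (z : G), z ∈ normalizer (Y : Set G) := fun Y _ z =>
    (normalizer_eq_top_iff.2 (inferInstance : Y.Normal)).symm ▸ mem_top z
  have hxa : x * q * x⁻¹ = a * q := by rw [ha, commutatorElement_def]; group
  have h1 : x * a * x⁻¹ * a⁻¹ ∈ Wz := by
    have haL : (⟨a, lc.bMax_le haD.2⟩ : ↥L) ∈ Cfsg.pCore p ↥L := by
      refine (@PSolvable.le_pCore _ _ p ((Cfsg.pCore p G ⊓ bMax p T).subgroupOf L) inferInstance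
        ((PSolvable.pCore_isPGroup (G := G) (p := p)).to_le inf_le_left).comap_subtype) ?_
      exact mem_subgroupOf.2 haD
    have hu := rk.setup.residual_U rk.small rk.shape (g := ⟨x, hx⟩)
      (subset_closure (show (orderOf (⟨x, hx⟩ : ↥L)).Coprime p by rwa [orderOf_mk])) _ haL
    rw [halt] at hu
    simpa [commutatorElement_def] using lc.vl_le m2 hu
  have haW : a ∈ Wz := mem_of_stable hco (hn Wz x) (hn Wz a) hpow hxa h1
  refine mem_of_stable hco (hn V x) (hn V a) hpow hxa ?_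
  obtain ⟨v, hv, he⟩ := lc.comm_wz haW hx
  show x * a * x⁻¹ * a⁻¹ ∈ V
  rw [show x * a * x⁻¹ * a⁻¹ = ⁅x, a⁆ from (commutatorElement_def x a).symm, he, commutatorElement_def]
  exact mul_mem (c.module.normalV.conj_mem v hv x) (inv_mem hv)

end Cfsg.Agent.Lib.MinPush94
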