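import Cfsg.Agent.Lib.FocalChar.Setup
import Cfsg.Agent.Lib.BTBlock.Section
import Cfsg.Agent.Lib.MinPush94.Action

/-!
# The module of a minimal parabolic group in which no characteristic subgroup of `B(T)` is normal
-/

set_option autoImplicit false
set_option linter.unusedSectionVars false

namespace Cfsg.Agent.Lib.MinPush94

open Subgroup SL2Recog FFMin FFComp
open Cfsg.Agent.Lib Cfsg.Agent.Lib.FocalChar
open scoped commutatorElement

universe u

variable {G : Type u} [Group G] [Finite G] {p : ℕ} [Fact p.Prime] {T M : Subgroup G}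

/-- The hypotheses. -/
structure Hyp0 (p : ℕ) (T M : Subgroup G) : Prop where
  sylow : ∃ P : Sylow p G, (P : Subgroup G) = T
  cent : centralizer (Cfsg.pCore p G : Set G) ≤ Cfsg.pCore p G
  ne : M ≠ ⊤
  le : T ≤ M
  max : ∀ L : Subgroup G, T ≤ L → L ≠ ⊤ → L ≤ M
  nchar : ∀ X : Subgroup G, X ≤ bMax p T → X ≠ ⊥ →
    (X.subgroupOf (bMax p T)).Characteristic → ¬ X.Normal
  nz : ¬ (Cfsg.omegaOneCenter p T).Normal

theorem omega_conj_mem {X : Subgroup G} (hX : X.Normal) {x : G}
    (hx : x ∈ Cfsg.omegaOne p X) (g : G) : g * x * g⁻¹ ∈ Cfsg.omegaOne p X := by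
  have hle : Cfsg.omegaOne p X ≤ (Cfsg.omegaOne p X).comap (MulAut.conj g).toMonoidHom := by
    rw [Cfsg.omegaOne, closure_le]
    rintro y ⟨hy, hyp⟩
    refine subset_closure ⟨hX.conj_mem y hy g, ?_⟩
    show (g * y * g⁻¹) ^ p = 1
    rw [conj_pow, hyp, mul_one, mul_inv_cancel]
  exact hle hx

theorem maxIn_of_maxEl {A : Subgroup G} (hA : A ∈ maxEl p T) : A ∈ Thompson.maxIn p T :=
  ⟨hA.2.1, hA.1, fun B hB hBT => hA.2.2 B hBT hB⟩

theorem maxEl_of_maxIn {A : Subgroup G} (hA : A ∈ Thompson.maxIn p T) : A ∈ maxEl p T :=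
  ⟨hA.2.1, hA.1, fun B hBT hB => hA.2.2 B hB hBT⟩

/-- `zMax` is `Ω₁(Z(J))`. -/
theorem omegaOne_centerThompson (T : Subgroup G) :
    Cfsg.omegaOne p (Cfsg.centerThompsonOf p T) = zMax p T := by
  refine le_antisymm ?_ fun x hx => ?_
  · rw [Cfsg.omegaOne, closure_le]
    rintro x ⟨⟨hxJ, hxC⟩, hxp⟩
    refine mem_zMax (Thompson.thompsonSubgroupOf_le p T hxJ) hxp fun A hA =>
      mem_centralizer_iff.2 fun a ha => mem_centralizer_iff.1 hxC a
        (Thompson.le_thompsonSubgroupOf (maxIn_of_maxEl hA) ha)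
  · refine subset_closure ⟨⟨?_, ?_⟩, zMax_el.2 x hx⟩
    · obtain ⟨A, hA⟩ := exists_maxEl (p := p) T
      exact Thompson.le_thompsonSubgroupOf (maxIn_of_maxEl hA) (zMax_le hA hx)
    · have hle : Cfsg.thompsonSubgroupOf p T ≤ centralizer ({x} : Set G) := by
        rw [Thompson.thompsonSubgroupOf_eq_sSup]
        exact sSup_le fun A hA a ha => mem_centralizer_singleton_iff.2
          (el_comm hA.1 ha (zMax_le (maxEl_of_maxIn hA) hx))
      exact mem_centralizer_iff.2 fun a ha => mem_centralizer_singleton_iff.1 (hle ha)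

/-- The Baumann subgroup is `bMax`. -/
theorem baumann_eq (T : Subgroup G) : Cfsg.baumannSubgroupOf p T = bMax p T := by
  rw [Cfsg.baumannSubgroupOf, omegaOne_centerThompson]
  rfl

namespace Hyp0

variable (d : Hyp0 p T M)

include d

theorem pgroup : IsPGroup p T := by obtain ⟨P, hP⟩ := d.sylow; exact hP ▸ P.2

theorem T_ne_bot : T ≠ ⊥ := by
  intro h
  refine d.nz ?_
  rw [h, show Cfsg.omegaOneCenter p (⊥ : Subgroup G) = ⊥ from
    le_bot_iff.1 (BTBlock.omegaOneCenter_props p ⊥).1]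
  infer_instance

theorem pre : FocalChar.Pre p T M := by
  refine ⟨d.sylow, d.cent, d.ne, d.le, d.max, fun h => d.nz ?_, fun h => ?_⟩
  · exact ⟨fun x hx g => omega_conj_mem h hx g⟩
  · refine d.nchar _ (kSub_le T) (kSub_ne_bot d.pgroup d.T_ne_bot) ?_ h
    rw [kSub, subgroupOf, comap_map_eq_self_of_injective (bMax p T).subtype_injective]
    exact kLoc_characteristic

theorem bMax_ne_bot : bMax p T ≠ ⊥ := fun h =>
  kSub_ne_bot d.pgroup d.T_ne_bot (le_bot_iff.1 (h ▸ kSub_le T))

theorem le_normalizer_char {X : Subgroup G} (hX : X ≤ bMax p T)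
    (hc : (X.subgroupOf (bMax p T)).Characteristic) : T ≤ normalizer (X : Set G) := by
  have := bMax_char (p := p) (S := T)
  have hB : T ≤ normalizer (bMax p T : Set G) :=
    (normal_subgroupOf_iff_le_normalizer bMax_le_S).1 inferInstance
  have h := Coprime.normalizer_le_normalizer_map_of_characteristic (X.subgroupOf (bMax p T))
  rw [map_subgroupOf_eq_of_le hX] at h
  exact hB.trans h

/-- The normaliser of a characteristic subgroup of `B(T)` lies in `M`. -/
theorem normalizer_char_le {X : Subgroup G} (hX : X ≤ bMax p T) (hne : X ≠ ⊥)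
    (hc : (X.subgroupOf (bMax p T)).Characteristic) : normalizer (X : Set G) ≤ M :=
  d.max _ (d.le_normalizer_char hX hc) fun h => d.nchar X hX hne hc (normalizer_eq_top_iff.1 h)

end Hyp0

/-- The action on the module. -/
structure Model (p : ℕ) (T M V : Subgroup G) {H W : Type u} [Group H] [AddCommGroup W]
    [DistribMulAction H W] (f : G →* H) (j : W → G) : Prop where
  hyp0 : Hyp0 p T M
  module : Module1 p T M V
  surj : Function.Surjective f
  ker : f.ker = centralizer (V : Set G)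
  jinj : Function.Injective j
  jmem : ∀ w, j w ∈ V
  jsurj : ∀ v ∈ V, ∃ w, j w = v
  jadd : ∀ a b, j (a + b) = j a * j b
  equiv : ∀ (g : G) (w : W), j (f g • w) = g * j w * g⁻¹
  exp : ∀ w : W, p • w = 0
  std : Std p H W
  sylow : ∃ TH : Sylow p H, (TH : Subgroup H) = T.map f
  umax : UMax p (M.map f)
  off : ∀ A ∈ maxEl p T, Elem p (A.map f) ∧ Nat.card W ≤ meas W (A.map f)
  bound : ∀ A ∈ maxEl p T, Nat.card A * Nat.card ↥(V ⊓ centralizer (A : Set G)) ≤
    Nat.card ↥(A ⊓ centralizer (V : Set G)) * Nat.card V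

theorem Hyp0.exists_model (d0 : Hyp0 p T M) :
    ∃ (V : Subgroup G) (H W : Type u) (_ : Group H) (_ : Finite H) (_ : AddCommGroup W) (_ : Finite W)
      (_ : DistribMulAction H W) (_ : FaithfulSMul H W) (f : G →* H) (j : W → G),
      Model p T M V f j := by
  classical
  have d := d0.pre
  obtain ⟨V, m⟩ := d.exists_modules
  letI instCV : CommGroup V := { (inferInstance : Group V) with
    mul_comm := fun a b => m.elV.1.is_comm.comm a b }
  have hmem : ∀ (g : G) (v : V), g * (v : G) * g⁻¹ ∈ V := fun g v => m.normalV.conj_mem v v.2 g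
  let θ : G →* (AddMonoid.End (Additive V))ˣ := MonoidHom.toHomUnits
    { toFun := fun g => AddMonoidHom.mk'
        (fun v => Additive.ofMul (⟨_, hmem g v.toMul⟩ : V)) fun v w =>
          Additive.toMul.injective (Subtype.ext (by
            show g * (((v.toMul : V) : G) * (w.toMul : V)) * g⁻¹ =
              (g * (v.toMul : V) * g⁻¹) * (g * (w.toMul : V) * g⁻¹)
            simp [mul_assoc]))
      map_one' := AddMonoidHom.ext fun v => Additive.toMul.injective (Subtype.ext (by
        show (1 : G) * (v.toMul : V) * (1 : G)⁻¹ = (v.toMul : V)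
        simp))
      map_mul' := fun g h => AddMonoidHom.ext fun v => Additive.toMul.injective (Subtype.ext (by
        show g * h * (v.toMul : V) * (g * h)⁻¹ = g * (h * (v.toMul : V) * h⁻¹) * g⁻¹
        simp [mul_assoc])) }
  have : Finite ↥θ.range := Finite.of_surjective _ θ.rangeRestrict_surjective
  have : Finite (Additive V) := inferInstanceAs (Finite V)
  set f := θ.rangeRestrict with hf
  have hsurj : Function.Surjective f := θ.rangeRestrict_surjective
  have hsmul : ∀ (g : G) (w : Additive V),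
      (((f g • w).toMul : V) : G) = g * (w.toMul : V) * g⁻¹ := fun g w => rfl
  have hiff : ∀ (g : G) (w : Additive V),
      f g • w = w ↔ g * (w.toMul : V) = ((w.toMul : V) : G) * g := fun g w => by
    rw [← mul_inv_eq_iff_eq_mul, ← hsmul g w]
    exact ⟨fun h => by rw [h], fun h => Additive.toMul.injective (Subtype.ext h)⟩
  have hker : f.ker = centralizer (V : Set G) := by
    ext g
    rw [MonoidHom.mem_ker, mem_centralizer_iff]
    constructor
    · intro h v hv
      exact ((hiff g (Additive.ofMul ⟨v, hv⟩)).1 (by rw [h, one_smul])).symm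
    · intro h
      refine eq_of_smul_eq_smul fun w : Additive V => ?_
      rw [one_smul, hiff]
      exact (h _ (w.toMul : V).2).symm
  have hexp : ∀ w : Additive V, p • w = 0 := fun w =>
    Additive.toMul.injective (Subtype.ext (m.elV.2 _ (w.toMul : V).2))
  obtain ⟨P, hP⟩ := d.sylow
  set TH : Sylow p ↥θ.range := P.mapSurjective hsurj with hTH
  have hTHe : (TH : Subgroup ↥θ.range) = T.map f := by rw [hTH, Sylow.coe_mapSurjective, hP]
  have hTM : (TH : Subgroup ↥θ.range) ≤ M.map f := hTHe.le.trans (map_mono d.le)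
  have hkM : f.ker ≤ M := hker ▸ m.leM
  have hMne : M.map f ≠ ⊤ := fun h => d.ne (by rw [← comap_map_eq_self hkM, h, comap_top])
  have hU : UMax p (M.map f) := UMax.of_sylow hMne TH hTM fun L hL hTL => by
    rw [← map_comap_eq_self_of_surjective hsurj L]
    refine map_mono (d.max _ (map_le_iff_le_comap.1 (hTHe ▸ hTL)) fun h => hL ?_)
    rw [← map_comap_eq_self_of_surjective hsurj L, h, map_top_of_surjective _ hsurj]
  have hh : Hyp p ↥θ.range := by
    refine ⟨fun N hN hNp => ?_, _, hU⟩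
    obtain ⟨R, hR⟩ := hNp.exists_le_sylow
    obtain ⟨c, hc⟩ := MulAction.exists_smul_eq ↥θ.range R TH
    have hNT : N ≤ T.map f := by
      intro x hx
      rw [← hTHe, ← hc, coe_smul_sylow, mem_cnj]
      exact hR (by simpa using hN.conj_mem x hx c⁻¹)
    have : (N.comap f).Normal := hN.comap f
    have hne : N.comap f ⊔ T ≠ ⊤ := fun h => hMne (top_unique (by
      rw [← map_top_of_surjective _ hsurj, ← h, Subgroup.map_sup, map_comap_eq_self_of_surjective hsurj]
      exact sup_le (hNT.trans (map_mono d.le)) (map_mono d.le)))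
    refine (eq_bot_iff_forall _).2 fun x hx => ?_
    obtain ⟨s, hs, rfl⟩ := hNT hx
    rw [← MonoidHom.mem_ker, hker]
    exact m.centV (d.inf_le_core hne ⟨hx, hs⟩)
  have hoff : ∀ A ∈ maxEl p T, Elem p (A.map f) ∧
      (Nat.card A * Nat.card ↥(V ⊓ centralizer (A : Set G)) =
        Nat.card ↥(A ⊓ centralizer (V : Set G)) * meas (Additive V) (A.map f)) := by
    intro A hA
    refine ⟨⟨?_, ?_⟩, ?_⟩
    · rintro _ ⟨a, ha, rfl⟩ _ ⟨b, hb, rfl⟩
      rw [← map_mul, el_comm hA.2.1 ha hb, map_mul]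
    · rintro _ ⟨a, ha, rfl⟩
      rw [← map_pow, hA.2.1.2 a ha, map_one]
    · have hfx : Nat.card (fx (Additive V) (A.map f)) = Nat.card ↥(V ⊓ centralizer (A : Set G)) := by
        refine Nat.card_congr ⟨fun w => ⟨(((w : Additive V).toMul : V) : G),
          ((w : Additive V).toMul : V).2, mem_centralizer_iff.2 fun b hb => ?_⟩,
          fun v => ⟨Additive.ofMul (⟨v, v.2.1⟩ : V), ?_⟩, fun w => rfl, fun v => rfl⟩
        · exact (hiff b _).1 (w.2 _ (mem_map_of_mem _ hb))
        · rintro _ ⟨b, hb, rfl⟩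
          exact (hiff b _).2 (mem_centralizer_iff.1 v.2.2 b hb)
      rw [meas, hfx, ← card_inf_ker_mul f A, hker]
      ring
  have hmeas : ∀ A ∈ maxEl p T, Nat.card (Additive V) ≤ meas (Additive V) (A.map f) := fun A hA => by
    refine Nat.le_of_mul_le_mul_left ?_ (Nat.card_pos (α := ↥(A ⊓ centralizer (V : Set G))))
    rw [← (hoff A hA).2, Nat.card_congr Additive.toMul]
    exact m.offender A hA
  obtain ⟨A₁, hA₁, hA₁Q⟩ := m.exists_not_le
  have hA₁0 : A₁.map f ≠ ⊥ := fun h0 => hA₁Q fun a ha =>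
    m.inf ⟨hker ▸ ((Subgroup.map_eq_bot_iff A₁).1 h0 ha), hA₁.1 ha⟩
  have hc := Std.of_moved hexp hh (moved_of_offender hexp hh (hoff A₁ hA₁).1 hA₁0 (hmeas A₁ hA₁))
  refine ⟨V, ↥θ.range, Additive V, inferInstance, inferInstance, inferInstance, inferInstance,
    inferInstance, inferInstance, f, fun w => ((w.toMul : V) : G),
    d0, m, hsurj, hker, fun a b h => Additive.toMul.injective (Subtype.ext h),
    fun w => (w.toMul : V).2, fun v hv => ⟨Additive.ofMul ⟨v, hv⟩, rfl⟩, fun a b => rfl, hsmul,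
    hexp, hc, ⟨TH, hTHe⟩, hU, fun A hA => ⟨(hoff A hA).1, hmeas A hA⟩, fun A hA => ?_⟩
  rw [(hoff A hA).2, ← Nat.card_congr (Additive.toMul (α := ↥V))]
  exact Nat.mul_le_mul_left _ (hc.tame.bound _ (hoff A hA).1)

namespace Model

variable {V : Subgroup G} {H W : Type u} [Group H] [Finite H] [AddCommGroup W] [Finite W]
  [DistribMulAction H W] [FaithfulSMul H W] {f : G →* H} {j : W → G}
  (c : Model p T M V f j)

include c

theorem jzero : j 0 = 1 := by
  have h := c.jadd 0 0
  rwa [add_zero, eq_comm, mul_eq_left] at h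

theorem jneg (a : W) : j (-a) = (j a)⁻¹ :=
  eq_inv_of_mul_eq_one_left (by rw [← c.jadd, neg_add_cancel, c.jzero])

theorem j_dev (g : G) (w : W) : j (dev (f g) w) = g * j w * g⁻¹ * (j w)⁻¹ := by
  rw [dev, sub_eq_add_neg, c.jadd, c.jneg, c.equiv]

theorem smul_eq_iff (g : G) (w : W) : f g • w = w ↔ g * j w = j w * g := by
  rw [← c.jinj.eq_iff, c.equiv, mul_inv_eq_iff_eq_mul]

theorem mem_fx_iff {X : Subgroup G} {w : W} :
    w ∈ fx W (X.map f) ↔ j w ∈ centralizer (X : Set G) := by
  refine ⟨fun h => mem_centralizer_iff.2 fun x hx =>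
    (c.smul_eq_iff x w).1 (h _ (mem_map_of_mem f hx)), ?_⟩
  rintro h _ ⟨x, hx, rfl⟩
  exact (c.smul_eq_iff x w).2 (mem_centralizer_iff.1 h x hx)

theorem mem_M {g : G} (h : f g ∈ M.map f) : g ∈ M := by
  obtain ⟨m', hm, he⟩ := h
  have h1 : m'⁻¹ * g ∈ centralizer (V : Set G) := by
    rw [← c.ker, MonoidHom.mem_ker, map_mul, map_inv, he, inv_mul_cancel]
  simpa using mul_mem hm (c.module.leM h1)

/-- `p`-subgroups centralizing `V` lie in `O_p`. -/
theorem le_core_of_le_cent {X : Subgroup G} (hX : IsPGroup p X)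
    (hXC : X ≤ centralizer (V : Set G)) : X ≤ Cfsg.pCore p G := by
  intro x hx
  obtain ⟨P, hP⟩ := c.hyp0.sylow
  obtain ⟨R, hR⟩ := hX.exists_le_sylow
  obtain ⟨g, hg⟩ := MulAction.exists_smul_eq G R P
  haveI := c.module.normalV
  have h1 : g * x * g⁻¹ ∈ T := by
    rw [← hP, ← hg, SL2Recog.coe_smul_sylow, SL2Recog.mem_cnj]
    simpa [mul_assoc] using hR hx
  have h2 : g * x * g⁻¹ ∈ Cfsg.pCore p G :=
    c.module.inf ⟨(inferInstance : (centralizer (V : Set G)).Normal).conj_mem x (hXC hx) g, h1⟩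
  have h3 := (PSolvable.pCore_characteristic (G := G) (p := p))
  haveI := h3
  have h4 := (inferInstance : (Cfsg.pCore p G).Normal).conj_mem _ h2 g⁻¹
  simpa [mul_assoc] using h4

theorem omegaOneCenter_le_zMax : Cfsg.omegaOneCenter p T ≤ zMax p T := by
  intro z hz
  obtain ⟨hT, hC, hp'⟩ := BTBlock.omegaOneCenter_props p T
  refine mem_zMax (hT hz) (hp' z hz) fun A hA => ?_
  exact Subgroup.centralizer_le hA.1 (hC hz)

theorem exists_enlarged : ∃ Wz Kc : Subgroup G, Module2 p T V Wz Kc :=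
  c.hyp0.pre.exists_enlarged c.module c.bound

theorem image_bMax {TH : Sylow p H} (hTH : (TH : Subgroup H) = T.map f) :
    (bMax p T).map f = memSup p W (TH : Subgroup H) := by
  have hTM : (TH : Subgroup H) ≤ M.map f := hTH.le.trans (map_mono c.hyp0.le)
  refine le_antisymm ?_ ?_
  · rintro _ ⟨b, hb, rfl⟩
    refine mem_memSup_of_fix c.std c.umax hTM (hTH.ge (mem_map_of_mem f (bMax_le_S hb)))
      fun w hw => (c.smul_eq_iff b w).2 ?_
    refine (mem_centralizer_iff.1 hb.2 _ (c.module.fixP _ (c.jmem w) fun A hA => ?_)).symm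
    refine c.mem_fx_iff.1 (fx_anti ?_ hw)
    exact le_memSup_of_off c.exp c.std.hyp (hTH ▸ map_mono hA.1) (c.off A hA).1 (c.off A hA).2
  · obtain ⟨A, hA, hAQ⟩ := c.module.exists_not_le
    have hA0 : A.map f ≠ ⊥ := fun h0 => hAQ fun a ha =>
      c.module.inf ⟨c.ker ▸ ((Subgroup.map_eq_bot_iff A).1 h0 ha), hA.1 ha⟩
    refine memSup_le_of_normal c.std ?_ (map_mono (maxEl_le_bMax hA)) (hTH ▸ map_mono hA.1) hA0
      (c.off A hA).1 (c.off A hA).2
    have : ((bMax p T).subgroupOf T).Normal :=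
      have := bMax_char (p := p) (S := T); inferInstance
    have h1 := (normal_subgroupOf_iff_le_normalizer bMax_le_S).1 this
    rw [hTH]
    exact (map_mono h1).trans (Subgroup.le_normalizer_map f)

end Model

end Cfsg.Agent.Lib.MinPush94
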