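import Mathlib
import Cfsg.Agent.S2530
/-!
Central extensions of a symmetric group in which lifts of disjoint transpositions commute split.
-/

set_option autoImplicit false

namespace Cfsg.Agent.Lib.MinPush94

open Subgroup Equiv

variable {Γ : Type*} [Group Γ]

/-- Correction of one lift by a central element. -/
theorem cube_fix {a b z : Γ} (hz : ∀ g, Commute z g) (ha : a * a = 1) (hb : b * b = 1)
    (hab : (a * b) ^ 3 = z) : z * z = 1 ∧ (a * (b * z)) ^ 3 = 1 := by
  have hi : ∀ {c : Γ}, c * c = 1 → c⁻¹ = c := fun h => inv_eq_of_mul_eq_one_right h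
  have e1 : a * (a * b) * a⁻¹ = (a * b)⁻¹ := by
    rw [mul_inv_rev, hi ha, hi hb, ← mul_assoc a a b, ha, one_mul]
  have e2 : z = z⁻¹ := by
    have h := congrArg (fun g => g ^ 3) e1
    simp only [conj_pow, inv_pow, hab] at h
    rwa [← (hz a).eq, mul_inv_cancel_right] at h
  have hzz : z * z = 1 := by nth_rw 2 [e2]; exact mul_inv_cancel z
  refine ⟨hzz, ?_⟩
  rw [← mul_assoc, (hz (a * b)).symm.mul_pow, hab, pow_three, hzz, mul_one, hzz]

/-- A central extension of a symmetric group has a section when suitable lifts of adjacent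
transpositions are involutions and distant ones commute. -/
theorem exists_section {n : ℕ} (f : Γ →* Perm (Fin (n + 1))) (hker : ∀ z ∈ f.ker, ∀ g, Commute z g)
    (t : Fin n → Γ) (hf : ∀ i, f (t i) = swap i.castSucc i.succ) (hsq : ∀ i, t i * t i = 1)
    (hcomm : ∀ i j : Fin n, (i : ℕ) + 1 < j → Commute (t i) (t j)) :
    ∃ s : Perm (Fin (n + 1)) →* Γ, ∀ σ, f (s σ) = σ := by
  obtain ⟨cs, hcs⟩ := Cfsg.Agent.S2530.result n
  have hcube : ∀ i j : Fin n, (i : ℕ) + 1 = j → ∀ u ∈ f.ker, u * u = 1 →
      ∃ w ∈ f.ker, w * w = 1 ∧ (t i * u * (t j * w)) ^ 3 = 1 := by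
    intro i j hij u hu huu
    have ha : (t i * u) * (t i * u) = 1 := by
      rw [show t i * u * (t i * u) = t i * (u * t i) * u by group, (hker u hu (t i)).eq,
        ← mul_assoc, hsq, one_mul, huu]
    have hzk : (t i * u * t j) ^ 3 ∈ f.ker := by
      rw [MonoidHom.mem_ker, map_pow, map_mul, map_mul, MonoidHom.mem_ker.1 hu, mul_one, hf, hf]
      have h := cs.simple_mul_simple_pow i j
      have hM : (CoxeterMatrix.A n).M i j = 3 := by
        simp only [CoxeterMatrix.A, Matrix.of_apply, Fin.ext_iff]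
        rw [if_neg (by omega), if_pos (by omega)]
      rwa [hcs, hcs, hM] at h
    obtain ⟨h1, h2⟩ := cube_fix (hker _ hzk) ha (hsq j) rfl
    exact ⟨_, hzk, h1, h2⟩
  -- the corrections, one after another
  have hex : ∀ k : ℕ, ∃ c : Fin n → Γ, (∀ i, c i ∈ f.ker ∧ c i * c i = 1) ∧
      ∀ i j : Fin n, (j : ℕ) < k → (i : ℕ) + 1 = j → (t i * c i * (t j * c j)) ^ 3 = 1 := by
    intro k
    induction k with
    | zero => exact ⟨fun _ => 1, fun _ => ⟨one_mem _, one_mul 1⟩, fun i j h => by omega⟩
    | succ k ih =>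
      obtain ⟨c, hc, hk⟩ := ih
      by_cases hkn : k < n ∧ 0 < k
      · obtain ⟨w, hw, hww, hcu⟩ := hcube ⟨k - 1, by omega⟩ ⟨k, hkn.1⟩ (by show k - 1 + 1 = k; omega)
          (c ⟨k - 1, by omega⟩) (hc _).1 (hc _).2
        refine ⟨Function.update c ⟨k, hkn.1⟩ w, fun i => ?_, fun i j hj hij => ?_⟩
        · rcases eq_or_ne i ⟨k, hkn.1⟩ with rfl | hi
          · rw [Function.update_self]; exact ⟨hw, hww⟩
          · rw [Function.update_of_ne hi]; exact hc i
        · have hik : i ≠ ⟨k, hkn.1⟩ := fun h => by subst h; simp at hij; omega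
          rw [Function.update_of_ne hik]
          rcases eq_or_ne j ⟨k, hkn.1⟩ with rfl | hjk
          · rw [Function.update_self]
            have hk1 : k - 1 < n := lt_of_le_of_lt (Nat.sub_le k 1) hkn.1
            rw [show i = ⟨k - 1, hk1⟩ from Fin.ext (by simp at hij ⊢; omega)]
            exact hcu
          · rw [Function.update_of_ne hjk]
            exact hk i j (by have : (j : ℕ) ≠ k := fun h => hjk (Fin.ext h); omega) hij
      · refine ⟨c, hc, fun i j hj hij => hk i j ?_ hij⟩
        have := j.isLt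
        omega
  obtain ⟨c, hc, hk⟩ := hex n
  have hlift : (CoxeterMatrix.A n).IsLiftable (fun i => t i * c i) := by
    intro i j
    have hsq' : ∀ i, t i * c i * (t i * c i) = 1 := fun i => by
      rw [show t i * c i * (t i * c i) = t i * (c i * t i) * c i by group, (hker _ (hc i).1 (t i)).eq,
        ← mul_assoc, hsq, one_mul, (hc i).2]
    have hcm : ∀ a b : Fin n, (a : ℕ) + 1 < b → Commute (t a * c a) (t b * c b) := fun a b hab =>
      ((hcomm a b hab).mul_right (hker _ (hc b).1 _).symm).mul_left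
        ((hker _ (hc a).1 _).mul_right (hker _ (hc a).1 _))
    have hinv : ∀ i, (t i * c i)⁻¹ = t i * c i := fun i => inv_eq_of_mul_eq_one_right (hsq' i)
    simp only [CoxeterMatrix.A, Matrix.of_apply]
    split_ifs with h1 h2
    · subst h1
      rw [pow_one]; exact hsq' i
    · rcases h2 with h2 | h2
      · have h := hk j i (by omega) (by omega)
        rw [← hinv i, ← hinv j, ← mul_inv_rev, inv_pow, inv_eq_one]
        exact h
      · exact hk i j (by omega) (by omega)
    · have h1' : (i : ℕ) ≠ j := fun h => h1 (Fin.ext h)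
      have hc2 : Commute (t i * c i) (t j * c j) := by
        rcases Nat.lt_or_ge ((i : ℕ) + 1) j with h3 | h3
        · exact hcm i j h3
        · exact (hcm j i (by omega)).symm
      rw [hc2.mul_pow, pow_two, pow_two, hsq', hsq', one_mul]
  refine ⟨cs.lift ⟨_, hlift⟩, fun σ => ?_⟩
  induction σ using cs.simple_induction_left with
  | one => rw [map_one, map_one]
  | mul_simple_left w i ih =>
    rw [map_mul, map_mul, ih, cs.lift_apply_simple hlift, map_mul, MonoidHom.mem_ker.1 (hc i).1,
      mul_one, hf, hcs]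

end Cfsg.Agent.Lib.MinPush94
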