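import Cfsg.Agent.Lib.MinPush94.BlockDef
import Cfsg.Agent.Lib.MinPush94.PermBlock
import Cfsg.Agent.Lib.MinPush94.SymLift

/-!
# The core of a symmetric block is its module
-/

set_option autoImplicit false
set_option linter.unusedSectionVars false

namespace Cfsg.Agent.Lib.MinPush94

open Subgroup SL2Recog FFMin FFComp
open Cfsg.Agent.Lib Cfsg.Agent.Lib.FocalChar
open scoped commutatorElement

universe u

variable {G : Type u} [Group G] [Finite G] {p : ℕ} [Fact p.Prime] {T M V : Subgroup G}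
  {H W : Type u} [Group H] [Finite H] [AddCommGroup W] [Finite W] [DistribMulAction H W]
  [FaithfulSMul H W] {f : G →* H} {j : W → G} {Wz Kc : Subgroup G} {TH : Sylow p H} {E : Subgroup H}

/-- An element of order prime to `p` has a preimage of order prime to `p`. -/
theorem exists_coprime_preimage {A B : Type*} [Group A] [Finite A] [Group B] (φ : A →* B) {a : A}
    (h : (orderOf (φ a)).Coprime p) : ∃ b ∈ zpowers a, (orderOf b).Coprime p ∧ φ b = φ a := by
  obtain ⟨k, hk⟩ := Transfer.exists_pow_coprime (p := p) a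
  obtain ⟨m, hm⟩ := exists_pow_eq_self_of_coprime (n := p ^ k) (x := φ a) (Nat.Coprime.pow_left k h.symm)
  refine ⟨(a ^ p ^ k) ^ m, pow_mem (npow_mem_zpowers a _) m, hk.coprime_dvd_left (orderOf_pow_dvd m), ?_⟩
  rw [map_pow, map_pow, hm]

theorem Env.jImg_le_V (ev : Env p T M V Wz Kc f j) (U : AddSubgroup W) : jImg j U ≤ V := fun x hx => by
  obtain ⟨w, -, rfl⟩ := ev.model.mem_jImg.1 hx
  exact ev.model.jmem w

theorem Env.le_normalizer_jImg (ev : Env p T M V Wz Kc f j) (E : Subgroup H) :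
    E.comap f ≤ normalizer (jImg j (devSpan W E) : Set G) := fun g hg => by
  refine mem_normalizer_iff_map_conj_eq.2 (Subgroup.eq_of_le_of_card_ge ?_
    (card_map_of_injective (MulAut.conj g).injective).ge)
  rintro _ ⟨x, hx, rfl⟩
  exact ev.conj_mem_jImg (cnj_le_of_mem hg le_rfl) hx

/-- The elements of the preimage moving the enlarged module into the module of `E`. -/
def movesTo (ev : Env p T M V Wz Kc f j) (E : Subgroup H) : Subgroup G where
  carrier := {g | f g ∈ E ∧ ∀ w ∈ Wz, ⁅g, w⁆ ∈ jImg j (devSpan W E)}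
  one_mem' := ⟨by rw [map_one]; exact one_mem E, fun w _ => by
    rw [commutatorElement_one_left]; exact one_mem _⟩
  mul_mem' := fun {x y} hx hy => ⟨by rw [map_mul]; exact mul_mem hx.1 hy.1, fun w hw => by
    rw [show ⁅x * y, w⁆ = x * ⁅y, w⁆ * x⁻¹ * ⁅x, w⁆ by simp only [commutatorElement_def]; group]
    exact mul_mem ((mem_normalizer_iff.1 (ev.le_normalizer_jImg E hx.1) _).1 (hy.2 w hw)) (hx.2 w hw)⟩
  inv_mem' := fun {x} hx => ⟨by rw [map_inv]; exact inv_mem hx.1, fun w hw => by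
    rw [show ⁅x⁻¹, w⁆ = x⁻¹ * ⁅x, w⁆⁻¹ * x⁻¹⁻¹ by simp only [commutatorElement_def]; group]
    exact (mem_normalizer_iff.1 (inv_mem (ev.le_normalizer_jImg E hx.1)) _).1 (inv_mem (hx.2 w hw))⟩

/-- An element of `O_p` moving the enlarged module into a module without fixed vectors lies in
`B(T)`. -/
theorem Env.mem_D0 (ev : Env p T M V Wz Kc f j) (hst : Stab p V)
    (hC : ∀ z ∈ devSpan W E, (∀ h ∈ E, (orderOf h).Coprime p → h • z = z) → z = 0)
    {q : G} (hq : f q = 1) (hqW : ∀ w ∈ Wz, ⁅q, w⁆ ∈ jImg j (devSpan W E)) :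
    q ∈ Cfsg.pCore p G ⊓ bMax p T := by
  have hqQ : q ∈ Cfsg.pCore p G := ev.ker ▸ hq
  rw [ev.model.core_inf_bMax ev.m2]
  refine ⟨hqQ, mem_centralizer_iff.2 fun w hw => ?_⟩
  obtain ⟨z, hz, hzq⟩ := ev.model.mem_jImg.1 (hqW w hw)
  suffices hz0 : z = 0 by
    rw [hz0, ev.model.jzero, eq_comm, commutatorElement_eq_one_iff_mul_comm] at hzq
    exact hzq.symm
  refine hC z hz fun h hh hco => ev.model.jinj ?_
  obtain ⟨g, hg⟩ := ev.surj h
  obtain ⟨e, -, heo, hee⟩ := exists_coprime_preimage f (a := g) (by rwa [hg])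
  rw [← hg, ← hee, ev.model.equiv, hzq]
  haveI := ev.m2.normalW
  obtain ⟨v, hv, he1⟩ : ∃ v ∈ V, e * q * e⁻¹ = v * q :=
    ⟨_, hst e heo q hqQ, by simp only [commutatorElement_def]; group⟩
  obtain ⟨v', hv', he2⟩ : ∃ v' ∈ V, e * w * e⁻¹ = v' * w :=
    ⟨_, ev.m2.act e (ev.model.coprime_mem_Kc ev.m2 heo) w hw, by group⟩
  have hVW : V ≤ Wz := ev.m2.W_eq ▸ le_sup_left
  have hc1 : ∀ x ∈ V, q * x = x * q := fun x hx =>
    mem_centralizer_iff.1 (ev.model.module.centV hqQ) x hx |>.symm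
  have hc2 : ∀ x ∈ V, w * x = x * w := fun x hx => el_comm ev.m2.elW hw (hVW hx)
  have hqw : ⁅q, w⁆ ∈ Wz := hVW (ev.jImg_le_V _ (hqW w hw))
  rw [show e * ⁅q, w⁆ * e⁻¹ = ⁅e * q * e⁻¹, e * w * e⁻¹⁆ by simp only [commutatorElement_def]; group,
    he1, he2]
  have h1 : ⁅v * q, v' * w⁆ = v * (⁅q, v'⁆ * (v' * ⁅q, w⁆ * v'⁻¹)) * v⁻¹ * ⁅v, v' * w⁆ := by
    simp only [commutatorElement_def]; group
  rw [h1, commutatorElement_eq_one_iff_mul_comm.2 (hc1 v' hv'), one_mul,
    ← el_comm ev.m2.elW hqw (hVW hv'), mul_inv_cancel_right,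
    ← el_comm ev.m2.elW hqw (hVW hv), mul_inv_cancel_right,
    commutatorElement_eq_one_iff_mul_comm.2
      (el_comm ev.m2.elW (hVW hv) (mul_mem (hVW hv') hw)), mul_one]

variable {n : ℕ}

/-- A vector of the block fixed by the elements of odd order is zero. -/
theorem PermData.fixed_eq_zero (pd : PermData p W E (2 ^ n + 1)) (hp : p = 2) (hn : 1 ≤ n) {z : W}
    (hz : z ∈ devSpan W E) (hfix : ∀ h ∈ E, (orderOf h).Coprime p → h • z = z) : z = 0 := by
  subst hp
  have hcyc : ∀ a b : Fin (2 ^ n + 1), a ≠ b → pd.π z a = pd.π z b := by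
    intro a b hab
    obtain ⟨c, hc⟩ := Finset.exists_mem_notMem_of_card_lt_card (s := ({a, b} : Finset _))
      (t := (Finset.univ : Finset (Fin (2 ^ n + 1)))) (by
        rw [Finset.card_univ, Fintype.card_fin, Finset.card_pair hab]
        have := Nat.one_lt_two_pow (show n ≠ 0 by omega); omega)
    simp only [Finset.mem_insert, Finset.mem_singleton, not_or] at hc
    set σ : Equiv.Perm (Fin (2 ^ n + 1)) := Equiv.swap a b * Equiv.swap b c with hσ
    have hord : orderOf σ ∣ 3 := by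
      refine orderOf_dvd_of_pow_eq_one ?_
      have h3 : σ.IsThreeCycle := by
        rw [hσ, Equiv.swap_comm a b]
        exact Equiv.Perm.isThreeCycle_swap_mul_swap_same (Ne.symm hab) (Ne.symm hc.2.2) (Ne.symm hc.2.1)
      rw [← h3.orderOf, pow_orderOf_eq_one]
    have h1 := hfix (pd.ρ.symm σ : ↥E) (pd.ρ.symm σ).2 (by
      rw [orderOf_coe, MulEquiv.orderOf_eq]
      exact (show Nat.Coprime 3 2 by decide).coprime_dvd_left hord)
    have h2 := pd.smul (pd.ρ.symm σ) z a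
    rw [h1, MulEquiv.apply_symm_apply, hσ, mul_inv_rev, Equiv.swap_inv, Equiv.swap_inv,
      Equiv.Perm.mul_apply, Equiv.swap_apply_left, Equiv.swap_apply_left] at h2
    have h4 := pd.smul (pd.ρ.symm σ) z c
    rw [h1, MulEquiv.apply_symm_apply, hσ, mul_inv_rev, Equiv.swap_inv, Equiv.swap_inv,
      Equiv.Perm.mul_apply, Equiv.swap_apply_of_ne_of_ne hc.2.1 hc.2.2, Equiv.swap_apply_right] at h4
    exact h2.trans h4
  have hconst : ∀ i, pd.π z i = pd.π z 0 := fun i => by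
    rcases eq_or_ne i 0 with rfl | h
    · rfl
    · exact hcyc i 0 h
  have hsum := pd.sum z
  rw [Finset.sum_congr rfl fun i _ => hconst i, Finset.sum_const, Finset.card_univ, Fintype.card_fin,
    nsmul_eq_mul] at hsum
  have h1 : ((2 ^ n + 1 : ℕ) : ZMod 2) = 1 := by
    rw [Nat.cast_add, Nat.cast_pow, show ((2 : ℕ) : ZMod 2) = 0 from rfl, zero_pow (by omega),
      Nat.cast_one, zero_add]
  rw [h1, one_mul] at hsum
  exact (AddSubgroup.eq_bot_iff_forall _).1 pd.free z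
    ⟨hz, (pd.ker z).1 (funext fun i => (hconst i).trans hsum)⟩

/-- **The intersection of a symmetric block with `O_p` is its module.** -/
theorem Env.blk_inf_core_le (ev : Env p T M V Wz Kc f j) (hst : Stab p V) (hTH : (TH : Subgroup H) = T.map f)
    (hlift : ∀ D ∈ members p W (TH : Subgroup H), ∃ Y : Subgroup G,
      Lift p T f j D (others p W (TH : Subgroup H) D) Y ∧ ∀ y ∈ Y, f y ∈ D)
    (hp : p = 2) (hn : 1 ≤ n) (pd : PermData p W E (2 ^ n + 1)) :
    blk p f E ⊓ Cfsg.pCore p G ≤ jImg j (devSpan W E) := by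
  classical
  subst hp
  set N := 2 ^ n + 1
  set Wi := jImg j (devSpan W E) with hWi
  let a : Fin (2 ^ n) → H := fun k => ((pd.ρ.symm (Equiv.swap k.castSucc k.succ) : ↥E) : H)
  have haE : ∀ k, a k ∈ E := fun k => SetLike.coe_mem _
  have hAmem : ∀ k, Mem 2 W (zpowers (a k)) := fun k => pd.mem _ _ (Fin.castSucc_lt_succ (i := k)).ne
  have hAW : ∀ k, jImg j (devSpan W (zpowers (a k))) ≤ Wi := fun k =>
    closure_mono (Set.image_mono fun x hx => devSpan_le
      (fun y hy v => dev_mem_devSpan (zpowers_le.2 (haE k) hy) v) hx)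
  choose t ht' using fun k => ev.exists_good_pair hTH hlift (hAmem k) (hAmem k) (hAmem k).elem.comm
    (mem_zpowers (a k)) (mem_zpowers (a k))
  choose t'' ht using ht'
  have htimg : ∀ k, f (t k) = a k := fun k => (ht k).1
  have htgood : ∀ k, Good 2 T Wz f j (zpowers (a k)) (t k) := fun k => (ht k).2.2.1
  set Kt := movesTo ev E with hKt
  have hgK : ∀ {k} {s : G}, Good 2 T Wz f j (zpowers (a k)) s → s ∈ Kt := fun {k s} hs =>
    ⟨zpowers_le.2 (haE k) hs.img, fun w hw => hAW k (hs.commW w hw)⟩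
  have hC := fun z hz h => pd.fixed_eq_zero rfl hn (z := z) hz h
  set Gs := closure (Set.range t) ⊔ Wi with hGs
  have hWiK : Wi ≤ Kt := fun x hx => by
    refine ⟨?_, fun w hw => ?_⟩
    · rw [MonoidHom.mem_ker.1 (ev.ker ▸ ev.model.module.leQ (ev.jImg_le_V _ hx) : x ∈ f.ker)]
      exact one_mem E
    · rw [commutatorElement_eq_one_iff_mul_comm.2
        (el_comm ev.m2.elW (ev.m2.W_eq ▸ mem_sup_left (ev.jImg_le_V _ hx)) hw)]
      exact one_mem _
  have hGsK : Gs ≤ Kt := sup_le ((closure_le _).2 fun _ ⟨k, hk⟩ => hk ▸ hgK (htgood k)) hWiK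
  have hker0 : ∀ z ∈ Kt, f z = 1 → z ∈ Cfsg.pCore 2 G ⊓ bMax 2 T := fun z hz h1 =>
    ev.mem_D0 hst hC h1 hz.2
  haveI : (Wi.subgroupOf Gs).Normal := normal_subgroupOf_of_le_normalizer
    (hGsK.trans (fun g hg => ev.le_normalizer_jImg E hg.1))
  let π := QuotientGroup.mk' (Wi.subgroupOf Gs)
  have hπ : ∀ x y : ↥Gs, ⁅(x : G), (y : G)⁆ ∈ Wi → Commute (π x) (π y) := fun x y h => by
    rw [← commutatorElement_eq_one_iff_commute, ← map_commutatorElement]
    exact (QuotientGroup.eq_one_iff _).2 (mem_subgroupOf.2 (by simpa [commutatorElement_def] using h))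
  -- the map to the symmetric group
  let θ : ↥Gs →* Equiv.Perm (Fin N) := pd.ρ.toMonoidHom.comp
    ((f.comp Gs.subtype).codRestrict E fun x => (hGsK x.2).1)
  have hθ1 : ∀ x : ↥Gs, θ x = 1 ↔ f (x : G) = 1 := fun x => by
    simp only [θ, MonoidHom.comp_apply, MulEquiv.coe_toMonoidHom, map_eq_one_iff pd.ρ pd.ρ.injective]
    exact ⟨fun h => congrArg Subtype.val h, fun h => Subtype.ext h⟩
  have hWθ : Wi.subgroupOf Gs ≤ θ.ker := fun x hx => (hθ1 x).2
    (MonoidHom.mem_ker.1 (ev.ker ▸ ev.model.module.leQ (ev.jImg_le_V _ hx) : (x : G) ∈ f.ker))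
  let φ := QuotientGroup.lift (Wi.subgroupOf Gs) θ hWθ
  let tt : Fin (2 ^ n) → ↥Gs := fun k => ⟨t k, mem_sup_left (subset_closure ⟨k, rfl⟩)⟩
  have hφt : ∀ k, φ (π (tt k)) = Equiv.swap k.castSucc k.succ := fun k => by
    show θ (tt k) = _
    simp only [θ, MonoidHom.comp_apply, MulEquiv.coe_toMonoidHom]
    rw [← pd.ρ.apply_symm_apply (Equiv.swap k.castSucc k.succ)]
    exact congrArg pd.ρ (Subtype.ext (htimg k))
  have hcent : ∀ z ∈ φ.ker, ∀ g, Commute z g := by
    intro z hz g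
    obtain ⟨z, rfl⟩ := QuotientGroup.mk'_surjective _ z
    obtain ⟨g, rfl⟩ := QuotientGroup.mk'_surjective _ g
    have hz0 := hker0 _ (hGsK z.2) ((hθ1 z).1 hz)
    have hle : Gs ≤ ((centralizer ({π z} : Set _)).comap π).map Gs.subtype := by
      refine sup_le ((closure_le _).2 ?_) fun x hx => ⟨⟨x, mem_sup_right hx⟩, ?_, rfl⟩
      · rintro _ ⟨k, rfl⟩
        exact ⟨tt k, mem_centralizer_singleton_iff.2
          (hπ _ _ (hAW k ((htgood k).comm _ hz0))).eq, rfl⟩
      · refine mem_centralizer_singleton_iff.2 ?_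
        rw [show π ⟨x, mem_sup_right hx⟩ = 1 from (QuotientGroup.eq_one_iff _).2 hx, one_mul, mul_one]
    obtain ⟨g', hg', hge⟩ := hle g.2
    rw [← show g' = g from Subtype.ext hge]
    exact (mem_centralizer_singleton_iff.1 hg').symm
  have hcomm : ∀ k l : Fin (2 ^ n), (k : ℕ) + 1 < l → Commute (π (tt k)) (π (tt l)) := by
    intro k l hkl
    have hc : Comm (zpowers (a k)) (zpowers (a l)) := by
      have h1 : Commute (Equiv.swap k.castSucc k.succ) (Equiv.swap l.castSucc l.succ) := by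
        refine Equiv.Perm.Disjoint.commute ?_
        intro x
        by_cases hx : x = k.castSucc ∨ x = k.succ
        · right
          refine Equiv.swap_apply_of_ne_of_ne ?_ ?_ <;>
          · rcases hx with rfl | rfl <;> simp [Fin.ext_iff] <;> omega
        · push Not at hx
          exact Or.inl (Equiv.swap_apply_of_ne_of_ne hx.1 hx.2)
      have h2 : Commute (a k) (a l) := by
        simpa [a] using ((h1.map pd.ρ.symm.toMonoidHom).map E.subtype)
      intro x hx y hy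
      obtain ⟨i, rfl⟩ := mem_zpowers_iff.1 hx
      obtain ⟨i', rfl⟩ := mem_zpowers_iff.1 hy
      exact ((h2.zpow_zpow i i')).eq
    obtain ⟨u, u', hu, hu', gu, gu', huu⟩ := ev.exists_good_pair hTH hlift (hAmem k) (hAmem l) hc
      (mem_zpowers (a k)) (mem_zpowers (a l))
    have hd1 := hker0 _ (mul_mem (inv_mem (hgK gu)) (hgK (htgood k)))
      (by rw [map_mul, map_inv, hu, htimg, inv_mul_cancel])
    have hd2 := hker0 _ (mul_mem (inv_mem (hgK gu')) (hgK (htgood l)))
      (by rw [map_mul, map_inv, hu', htimg, inv_mul_cancel])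
    refine hπ _ _ ?_
    show ⁅t k, t l⁆ ∈ Wi
    set q := u⁻¹ * t k
    set q' := u'⁻¹ * t l
    have hN : ∀ {x}, x ∈ Kt → ∀ {y}, y ∈ Wi → x * y * x⁻¹ ∈ Wi := fun {x} hx {y} hy =>
      (mem_normalizer_iff.1 (ev.le_normalizer_jImg E hx.1) y).1 hy
    have hqK : q ∈ Kt := mul_mem (inv_mem (hgK gu)) (hgK (htgood k))
    have hq2K : q' ∈ Kt := mul_mem (inv_mem (hgK gu')) (hgK (htgood l))
    rw [show t k = u * q by simp [q], show t l = u' * q' by simp [q'],
      show ⁅u * q, u' * q'⁆ = u * ⁅q, u' * q'⁆ * u⁻¹ * ⁅u, u' * q'⁆ by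
        simp only [commutatorElement_def]; group]
    refine mul_mem (hN (hgK gu) ?_) ?_
    · rw [show u' * q' = t l by simp [q'], ← commutatorElement_inv]
      exact inv_mem (hAW l ((htgood l).comm _ hd1))
    · rw [show ⁅u, u' * q'⁆ = ⁅u, u'⁆ * (u' * ⁅u, q'⁆ * u'⁻¹) by simp only [commutatorElement_def]; group]
      exact mul_mem (hAW k huu) (hN (hgK gu') (hAW k (gu.comm _ hd2)))
  obtain ⟨s, hs⟩ := exists_section φ hcent (fun k => π (tt k)) hφt
    (fun k => by
      rw [← map_mul, show tt k * tt k = 1 from Subtype.ext (by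
        show t k * t k = 1
        rw [← pow_two]; exact (htgood k).pow), map_one]) hcomm
  set Θ := (s.range.comap π).map Gs.subtype with hΘ
  have hΘQ : ∀ x ∈ Θ, f x = 1 → x ∈ Wi := by
    rintro _ ⟨x, ⟨σ, hσ⟩, rfl⟩ hx1
    have h1 : σ = 1 := by rw [← hs σ, hσ]; exact (hθ1 x).2 hx1
    rw [h1, map_one, eq_comm] at hσ
    exact mem_subgroupOf.1 ((QuotientGroup.eq_one_iff _).1 hσ)
  set Θ' := closure {x | x ∈ Θ ∧ (orderOf x).Coprime 2} ⊔ Wi with hΘ'
  have hΘle : Θ' ≤ Θ := sup_le ((closure_le _).2 fun x hx => hx.1) fun x hx =>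
    ⟨⟨x, mem_sup_right hx⟩, ⟨1, by
      rw [map_one]
      exact (((QuotientGroup.eq_one_iff (N := Wi.subgroupOf Gs) (⟨x, mem_sup_right hx⟩ : ↥Gs)).2 hx).symm)⟩, rfl⟩
  set Q := Cfsg.pCore 2 G
  have hQn : Q ≤ normalizer (Θ' : Set G) := by
    intro q hq
    refine mem_normalizer_iff_map_conj_eq.2 (Subgroup.eq_of_le_of_card_ge ?_
      (card_map_of_injective (MulAut.conj q).injective).ge)
    rw [hΘ', Subgroup.map_sup]
    refine sup_le ?_ ?_
    · rw [MonoidHom.map_closure, closure_le]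
      rintro _ ⟨x, ⟨hxΘ, hxo⟩, rfl⟩
      show q * x * q⁻¹ ∈ Θ'
      rw [show q * x * q⁻¹ = (⁅x, q⁆)⁻¹ * x by simp only [commutatorElement_def]; group]
      refine mul_mem (inv_mem (mem_sup_right ?_)) (mem_sup_left (subset_closure ⟨hxΘ, hxo⟩))
      obtain ⟨w, hw⟩ := ev.model.jsurj _ (hst x hxo q hq)
      have hxE : f x ∈ E := by obtain ⟨x', -, rfl⟩ := hxΘ; exact (hGsK x'.2).1
      have hVQ := ev.model.module.leQ (hst x hxo q hq)
      refine mem_of_stable (d := q) hxo (ev.le_normalizer_jImg E hxE) (ev.le_normalizer_jImg E ?_) ?_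
        (by simp only [commutatorElement_def]; group) ?_
      · show f _ ∈ E
        rw [MonoidHom.mem_ker.1 (ev.ker ▸ hVQ : ⁅x, q⁆ ∈ f.ker)]
        exact one_mem E
      · exact (IsPGroup.iff_orderOf.1 (PSolvable.pCore_isPGroup (G := G) (p := 2))) ⟨_, hVQ⟩ |>.imp
          fun k hk => by rwa [orderOf_mk] at hk
      · rw [← commutatorElement_def, ← hw, ev.model.comm_eq]
        exact subset_closure ⟨_, dev_mem_devSpan hxE w, rfl⟩
    · rintro _ ⟨x, hx, rfl⟩
      exact mem_sup_right ((mem_normalizer_iff.1 (ev.le_normalizer_jImg E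
        (show f q ∈ E by rw [MonoidHom.mem_ker.1 (ev.ker ▸ hq : q ∈ f.ker)]; exact one_mem E)) x).1 hx)
  have hblk : blk 2 f E ≤ Θ' := blk_le fun x hx hxE => by
    set σ := pd.ρ ⟨f x, hxE⟩ with hσ
    have hσo : (orderOf σ).Coprime 2 := by
      rw [hσ, MulEquiv.orderOf_eq, ← orderOf_coe]
      exact hx.coprime_dvd_left (orderOf_map_dvd f x)
    obtain ⟨y, hy⟩ := QuotientGroup.mk'_surjective _ (s σ)
    obtain ⟨y', hy', hyo, hye⟩ := exists_coprime_preimage (p := 2) θ (a := y) (by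
      rw [show θ y = φ (π y) from rfl, hy, hs]; exact hσo)
    have hfy : f (y' : G) = f x := by
      have h1 : θ y' = σ := by rw [hye, show θ y = φ (π y) from rfl, hy, hs]
      exact congrArg Subtype.val (pd.ρ.injective h1)
    have hyΘ : (y' : G) ∈ Θ' := by
      refine mem_sup_left (subset_closure ⟨mem_map_of_mem _ ?_, by rwa [orderOf_coe]⟩)
      exact zpowers_le.2 (show y ∈ s.range.comap π from ⟨σ, hy.symm⟩) hy'
    refine BTBlock.mem_of_coprime_of_sup (PSolvable.pCore_isPGroup (G := G) (p := 2)) hQn ?_ hx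
    have hq : (y' : G)⁻¹ * x ∈ Q := by
      rw [show Q = f.ker from ev.ker.symm, MonoidHom.mem_ker, map_mul, map_inv, hfy, inv_mul_cancel]
    simpa using mul_mem (mem_sup_right hyΘ : (y' : G) ∈ Q ⊔ Θ') (mem_sup_left hq)
  intro x hx
  exact hΘQ x (hΘle (hblk hx.1)) (MonoidHom.mem_ker.1 (ev.ker ▸ hx.2 : x ∈ f.ker))

end Cfsg.Agent.Lib.MinPush94
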