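import Cfsg.Agent.Lib.MinPush94.SmallFix
import Cfsg.Agent.Lib.MinPush94.Family

/-!
# A symmetric block as a member of the block family
-/

set_option autoImplicit false
set_option linter.unusedSectionVars false

namespace Cfsg.Agent.Lib.MinPush94

open Subgroup SL2Recog FFMin FFComp
open Cfsg.Agent.Lib Cfsg.Agent.Lib.FocalChar
open scoped commutatorElement

universe u

/-- A subgroup containing a point stabiliser and moving the point is everything. -/
theorem eq_top_of_stab {N : ℕ} (hN : 3 ≤ N) {o : Fin N} {J : Subgroup (Equiv.Perm (Fin N))}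
    (hst : ∀ σ : Equiv.Perm (Fin N), σ o = o → σ ∈ J) {g : Equiv.Perm (Fin N)} (hg : g ∈ J)
    (hgo : g o ≠ o) : J = ⊤ := by
  classical
  rw [eq_top_iff, ← Equiv.Perm.closure_isSwap, Subgroup.closure_le]
  rintro _ ⟨a, b, hab, rfl⟩
  -- one transposition at `o`
  have key : ∀ a b, a ≠ b → a ≠ g o → b ≠ g o → Equiv.swap a b ∈ J := by
    intro a b hab ha hb
    have h1 : g⁻¹ * Equiv.swap a b * g ∈ J := hst _ (by
      rw [Equiv.Perm.mul_apply, Equiv.Perm.mul_apply, Equiv.swap_apply_of_ne_of_ne (Ne.symm ha) (Ne.symm hb)]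
      exact g.symm_apply_apply o)
    have h2 := mul_mem (mul_mem hg h1) (inv_mem hg)
    rwa [show g * (g⁻¹ * Equiv.swap a b * g) * g⁻¹ = Equiv.swap a b by group] at h2
  by_cases h1 : a ≠ g o ∧ b ≠ g o
  · exact key a b hab h1.1 h1.2
  by_cases h2 : a ≠ o ∧ b ≠ o
  · exact hst _ (Equiv.swap_apply_of_ne_of_ne (Ne.symm h2.1) (Ne.symm h2.2))
  obtain ⟨c, hc⟩ := Finset.exists_mem_notMem_of_card_lt_card (s := ({o, g o} : Finset (Fin N)))
    (t := Finset.univ) (by rw [Finset.card_univ, Fintype.card_fin, Finset.card_pair (Ne.symm hgo)]; omega)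
  simp only [Finset.mem_insert, Finset.mem_singleton, not_or] at hc
  have hoc : Equiv.swap o c ∈ J := key o c (Ne.symm hc.2.1) (Ne.symm hgo) hc.2.2
  have hcg : Equiv.swap c (g o) ∈ J := hst _ (Equiv.swap_apply_of_ne_of_ne (Ne.symm hc.2.1) (Ne.symm hgo))
  have hog : Equiv.swap o (g o) ∈ J := by
    have h3 := mul_mem (mul_mem hoc hcg) hoc
    have h4 := Equiv.swap_apply_apply (Equiv.swap o c) c (g o)
    rw [Equiv.swap_inv, Equiv.swap_apply_right, Equiv.swap_apply_of_ne_of_ne hgo (Ne.symm hc.2.2)] at h4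
    rwa [← h4] at h3
  push Not at h1 h2
  rcases eq_or_ne a (g o) with rfl | ha
  · rw [h2 hgo, Equiv.swap_comm]; exact hog
  · have hbg := h1 ha
    subst hbg
    rcases eq_or_ne a o with rfl | hao
    · exact hog
    · exact absurd (h2 hao) hgo

/-- The even permutations fixing a point form an alternating group. -/
theorem exists_alt_stab (N : ℕ) (o : Fin (N + 1)) :
    ∃ ι : ↥(alternatingGroup (Fin N)) →* Equiv.Perm (Fin (N + 1)), Function.Injective ι ∧
      ∀ σ, σ ∈ ι.range ↔ σ ∈ alternatingGroup (Fin (N + 1)) ∧ σ o = o := by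
  classical
  let e : Fin N ≃ {x : Fin (N + 1) // x ≠ o} := finSuccAboveEquiv o
  refine ⟨(Equiv.Perm.extendDomainHom e).comp (alternatingGroup (Fin N)).subtype,
    (Equiv.Perm.extendDomainHom_injective e).comp (alternatingGroup (Fin N)).subtype_injective,
    fun σ => ⟨?_, ?_⟩⟩
  · rintro ⟨τ, rfl⟩
    refine ⟨?_, Equiv.Perm.extendDomain_apply_not_subtype _ e (not_not.2 rfl)⟩
    rw [Equiv.Perm.mem_alternatingGroup]
    show Equiv.Perm.sign ((τ : Equiv.Perm (Fin N)).extendDomain e) = 1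
    rw [Equiv.Perm.sign_extendDomain]
    exact Equiv.Perm.mem_alternatingGroup.1 τ.2
  · rintro ⟨hσ, hσo⟩
    have hq : ∀ x, σ x ≠ o ↔ x ≠ o := fun x =>
      not_congr ⟨fun h => σ.injective (h.trans hσo.symm), fun h => h ▸ hσo⟩
    set τ : Equiv.Perm (Fin N) := e.symm.permCongr (σ.subtypePerm hq)
    have he : τ.extendDomain e = σ := by
      refine Equiv.ext fun x => ?_
      by_cases hx : x ≠ o
      · rw [Equiv.Perm.extendDomain_apply_subtype _ e hx]
        simp [τ]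
      · rw [Equiv.Perm.extendDomain_apply_not_subtype _ e hx]
        rw [not_not] at hx
        rw [hx, hσo]
    refine ⟨⟨τ, ?_⟩, he⟩
    rw [Equiv.Perm.mem_alternatingGroup, ← Equiv.Perm.sign_extendDomain τ e, he]
    exact Equiv.Perm.mem_alternatingGroup.1 hσ

variable {G : Type u} [Group G] [Finite G] {p : ℕ} [Fact p.Prime] {T M V : Subgroup G}
  {H W : Type u} [Group H] [Finite H] [AddCommGroup W] [Finite W] [DistribMulAction H W]
  [FaithfulSMul H W] {f : G →* H} {j : W → G} {Wz Kc : Subgroup G} {TH : Sylow p H} {E : Subgroup H}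
  {n : ℕ}

theorem Env.blockAt_small (ev : Env p T M V Wz Kc f j) (hst : Stab p V) (hTH : (TH : Subgroup H) = T.map f)
    (hlift : ∀ D ∈ members p W (TH : Subgroup H), ∃ Y : Subgroup G,
      Lift p T f j D (others p W (TH : Subgroup H) D) Y ∧ ∀ y ∈ Y, f y ∈ D)
    (hp : p = 2) (hn : 1 ≤ n) (pd : PermData p W E (2 ^ n + 1))
    (hsyl : ∀ A : Subgroup H, A ≤ E → IsPGroup p A → ∃ e ∈ E, cnj e A ≤ (TH : Subgroup H))
    (hnot : ¬ E ≤ M.map f) : BlockAt p T M f W (TH : Subgroup H) E := by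
  classical
  subst hp
  have hQ := ev.blk_inf_core_le hst hTH hlift rfl hn pd
  obtain ⟨hcore, homega, hfree, hcomm, ⟨hquot⟩, hacts⟩ := ev.smallData rfl hn pd hQ
  set R := blk 2 f E with hR
  set Wi := jImg j (devSpan W E) with hWi
  have hRE : ∀ x : ↥R, f (x : G) ∈ E := fun x => blk_le_comap E x.2
  obtain ⟨o, ho⟩ := ev.exists_point hTH hlift rfl pd hsyl
  have hWQ : Wi ≤ Cfsg.pCore 2 G := (ev.jImg_le_V _).trans ev.model.module.leQ
  -- the point stabiliser lies in `M`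
  have hCM : centralizer (Cfsg.omegaOneCenter 2 T : Set G) ≤ M :=
    ev.model.hyp0.max _ T_le_centralizer fun h => ev.model.hyp0.nz ⟨fun z hz g => by
      rw [show g * z * g⁻¹ = z by
        rw [← mem_centralizer_iff.1 (h ▸ mem_top g) z hz, mul_inv_cancel_right]]
      exact hz⟩
  set J := ((M.map f).subgroupOf E).map pd.ρ.toMonoidHom with hJ
  have hmemJ : ∀ {h : H} (hh : h ∈ E), h ∈ M.map f ↔ pd.ρ ⟨h, hh⟩ ∈ J := fun {h} hh =>
    ⟨fun h1 => mem_map_of_mem _ (mem_subgroupOf.2 h1), fun h1 => by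
      obtain ⟨y, hy, hye⟩ := h1
      have he : y = ⟨h, hh⟩ := pd.ρ.injective hye
      subst he
      exact hy⟩
  have hstab : ∀ σ : Equiv.Perm (Fin (2 ^ n + 1)), σ o = o → σ ∈ J := fun σ hσ => by
    obtain ⟨g, hg⟩ := ev.surj ((pd.ρ.symm σ : ↥E) : H)
    have hgE : f g ∈ E := hg ▸ SetLike.coe_mem _
    have e1 : pd.ρ ⟨f g, hgE⟩ = σ := by
      rw [show (⟨f g, hgE⟩ : ↥E) = pd.ρ.symm σ from Subtype.ext hg, MulEquiv.apply_symm_apply]
    rw [← e1]
    exact (hmemJ hgE).1 (mem_map_of_mem f (hCM (ho g hgE (e1 ▸ hσ))))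
  have h3 : 3 ≤ 2 ^ n + 1 := by
    have := Nat.one_lt_two_pow (show n ≠ 0 by omega); omega
  have hJne : J ≠ ⊤ := fun h => hnot fun x hx => (hmemJ hx).2 (h ▸ mem_top _)
  have hJo : ∀ σ, σ ∈ J ↔ σ o = o :=
    fun σ => ⟨fun h => by_contra fun hne => hJne (eq_top_of_stab h3 hstab h hne), hstab σ⟩
  -- the image of the block
  let θ : ↥R →* Equiv.Perm (Fin (2 ^ n + 1)) := pd.ρ.toMonoidHom.comp
    ((f.comp R.subtype).codRestrict E hRE)
  have hθ1 : ∀ x : ↥R, θ x = 1 ↔ f (x : G) = 1 := fun x => by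
    simp only [θ, MonoidHom.comp_apply, MulEquiv.coe_toMonoidHom, map_eq_one_iff pd.ρ pd.ρ.injective]
    exact ⟨fun h => congrArg Subtype.val h, fun h => Subtype.ext h⟩
  have hθle : ∀ x : ↥R, θ x ∈ alternatingGroup (Fin (2 ^ n + 1)) := by
    intro x
    have hle : R ≤ ((alternatingGroup (Fin (2 ^ n + 1))).comap θ).map R.subtype := blk_le fun y hy hyE => by
      refine ⟨⟨y, mem_blk_of_coprime hy hyE⟩, ?_, rfl⟩
      set s := θ ⟨y, mem_blk_of_coprime hy hyE⟩
      have ho : (orderOf s).Coprime 2 :=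
        hy.coprime_dvd_left ((orderOf_map_dvd θ _).trans (by rw [orderOf_mk]))
      show s ∈ alternatingGroup _
      rw [Equiv.Perm.mem_alternatingGroup]
      rcases Int.units_eq_one_or (Equiv.Perm.sign s) with h | h
      · exact h
      · have h1 := orderOf_map_dvd Equiv.Perm.sign s
        rw [h, show orderOf (-1 : ℤˣ) = 2 from orderOf_eq_prime (by norm_num) (by decide)] at h1
        exact absurd (Nat.eq_one_of_dvd_coprimes ho h1 dvd_rfl) (by norm_num)
    obtain ⟨x', hx', he⟩ := hle x.2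
    rwa [← show x' = x from Subtype.ext he]
  have hθsurj : ∀ σ ∈ alternatingGroup (Fin (2 ^ n + 1)), ∃ x, θ x = σ := by
    intro σ hσ
    rw [← Equiv.Perm.closure_three_cycles_eq_alternating] at hσ
    refine (Subgroup.closure_le θ.range).2 (fun τ (hτ : τ.IsThreeCycle) => ?_) hσ
    obtain ⟨g, hg⟩ := ev.surj ((pd.ρ.symm τ : ↥E) : H)
    obtain ⟨e, -, heo, hee⟩ := exists_coprime_preimage (p := 2) f (a := g) (by
      rw [hg, orderOf_coe, MulEquiv.orderOf_eq, hτ.orderOf]; decide)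
    refine ⟨⟨e, mem_blk_of_coprime heo (by rw [hee, hg]; exact SetLike.coe_mem _)⟩, ?_⟩
    simp only [θ, MonoidHom.comp_apply, MulEquiv.coe_toMonoidHom]
    conv_rhs => rw [← pd.ρ.apply_symm_apply τ]
    exact congrArg pd.ρ (Subtype.ext (hee.trans hg))
  have hker : θ.ker = Cfsg.pCore 2 ↥R := by
    have hle : Cfsg.pCoreOf 2 R ≤ Cfsg.pCore 2 G := hcore.le.trans hWQ
    ext x
    rw [MonoidHom.mem_ker, hθ1]
    constructor
    · intro h
      have h1 : (x : G) ∈ Cfsg.pCoreOf 2 R := hcore ▸ hQ ⟨x.2, ev.ker ▸ MonoidHom.mem_ker.2 h⟩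
      obtain ⟨y, hy, hye⟩ := h1
      rwa [← show y = x from Subtype.ext hye]
    · intro h
      exact MonoidHom.mem_ker.1 (ev.ker ▸ hle (mem_map_of_mem _ h) : (x : G) ∈ f.ker)
  obtain ⟨m, hm⟩ : ∃ m, 2 ^ n = 2 * m := ⟨2 ^ (n - 1), by rw [← pow_succ']; congr 1; omega⟩
  -- a transposition in the Sylow subgroup
  obtain ⟨a, b, hab⟩ : ∃ a b : Fin (2 ^ n + 1), a ≠ b :=
    ⟨⟨0, by omega⟩, ⟨1, by omega⟩, by simp [Fin.ext_iff]⟩
  set τ0 : ↥E := pd.ρ.symm (Equiv.swap a b)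
  obtain ⟨e, he, heT⟩ := hsyl (zpowers (τ0 : H)) (zpowers_le.2 τ0.2) (pd.mem a b hab).elem.isPGroup
  set D := cnj e (zpowers (τ0 : H)) with hD
  set d : ↥E := ⟨e, he⟩ * τ0 * ⟨e, he⟩⁻¹ with hd
  have hdD : (d : H) ∈ D := mem_map_of_mem _ (mem_zpowers _)
  obtain ⟨a', b', hab', hρd⟩ : ∃ a' b', a' ≠ b' ∧ pd.ρ d = Equiv.swap a' b' := by
    refine ⟨pd.ρ ⟨e, he⟩ a, pd.ρ ⟨e, he⟩ b, fun h => hab ((pd.ρ ⟨e, he⟩).injective h), ?_⟩
    rw [hd, map_mul, map_mul, map_inv, show pd.ρ τ0 = Equiv.swap a b from pd.ρ.apply_symm_apply _]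
    exact (Equiv.swap_apply_apply (pd.ρ ⟨e, he⟩) a b).symm
  have hDE : D ≤ E := cnj_le_of_mem he (zpowers_le.2 τ0.2)
  have hpd0 : Cfsg.pCoreOf 2 R = R ⊓ Cfsg.pCore 2 G := by
    rw [hcore]
    exact le_antisymm (le_inf (by rw [← hcore]; exact map_subtype_le _) hWQ) hQ
  have hinf : Cfsg.omegaOneCenter 2 (Cfsg.pCoreOf 2 R) ⊓ centralizer (R : Set G) = ⊥ := by
    rw [hcore, homega]; exact hfree
  refine ⟨⟨D, ⟨(pd.mem a b hab).cnj e, heT⟩, hDE, ?_, ?_⟩, by rw [hcore]; exact hcomm, hpd0, ?_,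
    Or.inr ⟨rfl, m, ?_⟩, ?_, ?_, Or.inr (Or.inl ⟨rfl, m, ?_⟩), ?_⟩
  · -- generation
    intro x hx
    rcases Int.units_eq_one_or (Equiv.Perm.sign (pd.ρ ⟨x, hx⟩)) with h | h
    · obtain ⟨y, hy⟩ := hθsurj _ (Equiv.Perm.mem_alternatingGroup.2 h)
      exact mem_sup_left ⟨y, y.2, congrArg Subtype.val (pd.ρ.injective hy)⟩
    · obtain ⟨y, hy⟩ := hθsurj (pd.ρ ⟨x, hx⟩ * pd.ρ d) (by
        rw [Equiv.Perm.mem_alternatingGroup, map_mul, h, hρd, Equiv.Perm.sign_swap hab']; rfl)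
      have e1 : f (y : G) = x * (d : H) := congrArg Subtype.val
        (pd.ρ.injective (hy.trans (map_mul pd.ρ _ _).symm))
      have h1 := mul_mem (mem_sup_left (mem_map_of_mem f y.2) : f (y : G) ∈ R.map f ⊔ D)
        (mem_sup_right (inv_mem hdD))
      rwa [e1, mul_inv_cancel_right] at h1
  · intro K hKE hKn hDK x hx
    have hn' : ((K.subgroupOf E).map pd.ρ.toMonoidHom).Normal :=
      (normal_subgroupOf_of_le_normalizer hKn).map _ pd.ρ.surjective
    have hle : (⊤ : Subgroup (Equiv.Perm (Fin (2 ^ n + 1)))) ≤ (K.subgroupOf E).map pd.ρ.toMonoidHom := by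
      rw [← Equiv.Perm.closure_isSwap, Subgroup.closure_le]
      rintro _ ⟨c, c', hcc, rfl⟩
      obtain ⟨π, hπ⟩ := isConj_iff.1 (Equiv.Perm.isConj_swap hab' hcc)
      rw [← hπ]
      exact hn'.conj_mem _ ⟨d, hDK hdD, hρd⟩ π
    obtain ⟨y, hy, hye⟩ := hle (mem_top (pd.ρ ⟨x, hx⟩))
    have he : y = (⟨x, hx⟩ : ↥E) := pd.ρ.injective hye
    subst he
    exact hy
  · rw [hcore]
    intro h
    obtain ⟨-, -, ρ, ψ, -, -, hsurj, hk, -⟩ := hacts
    obtain ⟨u, hu⟩ := hsurj (Pi.single a 1 + Pi.single b 1) (by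
      simp only [Pi.add_apply, Finset.sum_add_distrib, Finset.sum_pi_single', Finset.mem_univ, if_true]
      rfl)
    have h1 : ψ u = 1 := (hk u).2 (mem_bot.2 (mem_bot.1 (h ▸ u.2)))
    rw [h1] at hu
    have h2 := congrFun hu a
    simp [hab] at h2
  · rw [← hm, hinf, hcore, homega]
    exact ⟨⟨hquot⟩, hacts, rfl⟩
  · -- the projection
    intro e' he' r hr hM
    let J' : Subgroup H :=
      { carrier := {x | x ∈ E ∧ ∃ r : H, (∀ a ∈ E, a * r = r * a) ∧ x * r ∈ M.map f}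
        one_mem' := ⟨one_mem E, 1, fun a _ => by rw [one_mul, mul_one], by rw [one_mul]; exact one_mem _⟩
        mul_mem' := fun {x y} hx hy => by
          obtain ⟨hx, r, hr, hxr⟩ := hx
          obtain ⟨hy, s, hs, hys⟩ := hy
          refine ⟨mul_mem hx hy, r * s, fun a ha => by
            rw [← mul_assoc, hr a ha, mul_assoc, hs a ha, mul_assoc], ?_⟩
          have h1 := mul_mem hxr hys
          rwa [show x * r * (y * s) = x * y * (r * s) by
            rw [mul_assoc, ← mul_assoc r, ← hr y hy]; group] at h1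
        inv_mem' := fun {x} hx => by
          obtain ⟨hx, r, hr, hxr⟩ := hx
          refine ⟨inv_mem hx, r⁻¹, fun a ha => ((show Commute a r from hr a ha).inv_right).eq, ?_⟩
          have h1 := inv_mem hxr
          rwa [mul_inv_rev, ← ((show Commute x r from hr x hx).inv_left.inv_right).eq] at h1 }
    have heJ : e' ∈ J' := ⟨he', r, hr, hM⟩
    set JP := (J'.subgroupOf E).map pd.ρ.toMonoidHom
    by_contra hne
    have hJle : J ≤ JP := by
      rintro _ ⟨x, hx, rfl⟩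
      refine mem_map_of_mem _ (show (x : H) ∈ J' from ⟨x.2, 1, fun a _ => by rw [one_mul, mul_one], ?_⟩)
      rwa [mul_one]
    have hJP : JP = ⊤ := eq_top_of_stab h3 (fun σ hσ => hJle (hstab σ hσ))
      (mem_map_of_mem _ (show ((⟨e', he'⟩ : ↥E) : H) ∈ J' from heJ))
      (fun h => hne ((hmemJ he').2 (hstab _ h)))
    -- then `J` is normal
    have hJn : J.Normal := ⟨fun x hx g => by
      obtain ⟨x, hx, rfl⟩ := hx
      obtain ⟨y, ⟨hyE, r', hr', hyr⟩, hye⟩ : g ∈ JP := hJP ▸ mem_top g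
      rw [← hye]
      refine ⟨y * x * y⁻¹, mem_subgroupOf.2 ?_, by simp⟩
      have hyr' : (y : H) * r' ∈ M.map f := hyr
      have h1 := mul_mem (mul_mem hyr' (show (x : H) ∈ M.map f from hx)) (inv_mem hyr')
      rwa [show (y : H) * r' * x * ((y : H) * r')⁻¹ = y * (r' * x * r'⁻¹) * (y : H)⁻¹ by group,
        ← hr' x x.2, mul_inv_cancel_right] at h1⟩
    refine hJne (eq_top_iff.2 ?_)
    rw [← Equiv.Perm.closure_isSwap, Subgroup.closure_le]
    rintro _ ⟨c, c', hcc, rfl⟩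
    obtain ⟨u, hu, hu'⟩ : ∃ u v : Fin (2 ^ n + 1), u ≠ v ∧ u ≠ o ∧ v ≠ o := by
      obtain ⟨u, hu⟩ := exists_ne o
      obtain ⟨v, hv⟩ := Finset.exists_mem_notMem_of_card_lt_card (s := ({o, u} : Finset _))
        (t := (Finset.univ : Finset (Fin (2 ^ n + 1))))
        (by rw [Finset.card_univ, Fintype.card_fin, Finset.card_pair hu.symm]; omega)
      simp only [Finset.mem_insert, Finset.mem_singleton, not_or] at hv
      exact ⟨u, v, Ne.symm hv.2.2, hu, hv.2.1⟩
    obtain ⟨π, hπ⟩ := isConj_iff.1 (Equiv.Perm.isConj_swap hu'.1 hcc)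
    rw [← hπ]
    exact hJn.conj_mem _ (hstab _ (Equiv.swap_apply_of_ne_of_ne (Ne.symm hu'.2.1) (Ne.symm hu'.2.2))) π
  · rintro x ⟨hxR, hxM⟩
    exact mem_sup_left (ho x (blk_le_comap E hxR) ((hJo _).1 ((hmemJ _).1 (mem_map_of_mem f hxM))))
  · rw [← hm]
    refine ⟨⟨hquot⟩, ?_⟩
    obtain ⟨ι, hι, hιr⟩ := exists_alt_stab (2 ^ n) o
    set S := (M ⊓ R).subgroupOf R with hS
    have himg : S.map θ = ι.range := by
      ext σ
      rw [hιr]
      constructor
      · rintro ⟨x, hx, rfl⟩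
        exact ⟨hθle x, (hJo _).1 ((hmemJ (hRE x)).1 (mem_map_of_mem f hx.1))⟩
      · rintro ⟨hσ, hσo⟩
        obtain ⟨x, rfl⟩ := hθsurj σ hσ
        exact ⟨x, ⟨ev.model.mem_M ((hmemJ (hRE x)).2 ((hJo _).2 hσo)), x.2⟩, rfl⟩
    let θ' : ↥R ⧸ Cfsg.pCore 2 ↥R →* Equiv.Perm (Fin (2 ^ n + 1)) :=
      QuotientGroup.lift (Cfsg.pCore 2 ↥R) θ hker.ge
    have hθ'i : Function.Injective θ' := (injective_iff_map_eq_one θ').2 fun x hx => by
      obtain ⟨y, rfl⟩ := QuotientGroup.mk'_surjective _ x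
      exact (QuotientGroup.eq_one_iff y).2 (hker ▸ hx)
    have himg' : (S.map (QuotientGroup.mk' (Cfsg.pCore 2 ↥R))).map θ' = ι.range := by
      rw [map_map]; exact himg
    exact ⟨(((S.map (QuotientGroup.mk' (Cfsg.pCore 2 ↥R))).equivMapOfInjective θ' hθ'i).trans
      (MulEquiv.subgroupCongr himg')).trans (MonoidHom.ofInjective hι).symm⟩
  · intro k hk
    obtain ⟨eq⟩ := hk
    refine ⟨n, ?_⟩
    have hc := Nat.card_congr (hquot.symm.trans eq).toEquiv
    rcases Nat.eq_zero_or_pos k with rfl | hk0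
    · exfalso
      have e1 : Nat.card ↥(alternatingGroup (Fin (2 * 0 + 1))) = 1 := by
        rw [Nat.card_eq_fintype_card]; rfl
      haveI : Nontrivial (Fin (2 ^ n + 1)) := Fin.nontrivial_iff_two_le.2 (by omega)
      have h1 := two_mul_nat_card_alternatingGroup (α := Fin (2 ^ n + 1))
      rw [hc, e1, Nat.card_perm, Nat.card_eq_fintype_card, Fintype.card_fin] at h1
      have h6 : 6 ≤ (2 ^ n + 1).factorial := Nat.factorial_le h3
      omega
    · haveI : Nontrivial (Fin (2 * k + 1)) := Fin.nontrivial_iff_two_le.2 (by omega)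
      haveI : Nontrivial (Fin (2 ^ n + 1)) := Fin.nontrivial_iff_two_le.2 (by omega)
      have h1 := two_mul_nat_card_alternatingGroup (α := Fin (2 ^ n + 1))
      have h2 := two_mul_nat_card_alternatingGroup (α := Fin (2 * k + 1))
      rw [← hc, h1, Nat.card_perm, Nat.card_perm, Nat.card_eq_fintype_card, Nat.card_eq_fintype_card,
        Fintype.card_fin, Fintype.card_fin, Nat.factorial_inj' (by omega)] at h2
      omega

end Cfsg.Agent.Lib.MinPush94
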