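import Cfsg.Agent.Lib.MinPush94.Small

/-!
# A symmetric block is a block
-/

set_option autoImplicit false
set_option linter.unusedSectionVars false

namespace Cfsg.Agent.Lib.MinPush94

open Subgroup SL2Recog FFMin FFComp
open Cfsg.Agent.Lib Cfsg.Agent.Lib.FocalChar
open scoped commutatorElement

universe u

variable {G : Type u} [Group G] [Finite G] {p : ℕ} [Fact p.Prime] {T M V : Subgroup G}
  {H W : Type u} [Group H] [Finite H] [AddCommGroup W] [Finite W] [DistribMulAction H W]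
  [FaithfulSMul H W] {f : G →* H} {j : W → G} {Wz Kc : Subgroup G} {TH : Sylow p H} {E : Subgroup H}
  {n : ℕ}

/-- A normal `2`-subgroup of an alternating group of degree `2 ^ n + 1` is trivial. -/
theorem alt_normal_two (hn : 1 ≤ n) {K : Subgroup ↥(alternatingGroup (Fin (2 ^ n + 1)))} [K.Normal]
    (hK : IsPGroup 2 K) : K = ⊥ := by
  have h2 : 2 ≤ 2 ^ n := by
    calc 2 = 2 ^ 1 := rfl
      _ ≤ 2 ^ n := Nat.pow_le_pow_right (by norm_num) hn
  obtain ⟨a, b, c, hab, hac, hbc⟩ : ∃ a b c : Fin (2 ^ n + 1), a ≠ b ∧ a ≠ c ∧ b ≠ c :=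
    ⟨⟨0, by omega⟩, ⟨1, by omega⟩, ⟨2, by omega⟩, by simp [Fin.ext_iff], by simp [Fin.ext_iff],
      by simp [Fin.ext_iff]⟩
  have h3c := Equiv.Perm.isThreeCycle_swap_mul_swap_same hab hac hbc
  rcases Nat.lt_or_ge (2 ^ n + 1) 5 with h5 | h5
  · obtain rfl : n = 1 := by
      by_contra h
      have : 2 ^ 2 ≤ 2 ^ n := Nat.pow_le_pow_right (by norm_num) (by omega)
      omega
    obtain ⟨k, hk⟩ := IsPGroup.iff_card.1 hK
    have h3 : Nat.card ↥(alternatingGroup (Fin (2 ^ 1 + 1))) = 3 := by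
      rw [nat_card_alternatingGroup, Nat.card_eq_fintype_card, Fintype.card_fin]; rfl
    refine Subgroup.eq_bot_of_card_eq _ (Nat.eq_one_of_dvd_coprimes (k := Nat.card K)
      ((show Nat.Coprime 2 3 by decide).pow_left k) (hk ▸ dvd_rfl) (h3 ▸ card_subgroup_dvd_card K))
  · have : IsSimpleGroup ↥(alternatingGroup (Fin (2 ^ n + 1))) :=
      alternatingGroup.isSimpleGroup (by simpa using h5)
    refine (Subgroup.Normal.eq_bot_or_eq_top inferInstance).resolve_right fun htop => ?_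
    set σ : ↥(alternatingGroup (Fin (2 ^ n + 1))) := ⟨_, h3c.mem_alternatingGroup⟩
    obtain ⟨k, hk⟩ := (IsPGroup.iff_orderOf.1 hK) ⟨σ, htop ▸ mem_top σ⟩
    rw [orderOf_mk] at hk
    have h3 : orderOf σ = 3 := (orderOf_coe σ).symm.trans h3c.orderOf
    exact absurd (Nat.prime_three.dvd_of_dvd_pow (dvd_of_eq (h3.symm.trans hk) : 3 ∣ 2 ^ k)) (by norm_num)

/-- The commutator space of the block covers the even vectors. -/
theorem PermData.exists_devSpan (pd : PermData p W E (2 ^ n + 1)) (hn : 1 ≤ n) (v : W) :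
    ∃ w ∈ devSpan W E, pd.π w = pd.π v := by
  classical
  refine mem_even_of_pairs (S := (devSpan W E).map pd.π) (fun i k => ?_) _ (pd.sum v)
  rcases eq_or_ne i k with rfl | hik
  · rw [← two_nsmul, ZModModule.char_nsmul_eq_zero 2]; exact zero_mem _
  obtain ⟨l, hl⟩ := Finset.exists_mem_notMem_of_card_lt_card (s := ({i, k} : Finset _))
    (t := (Finset.univ : Finset (Fin (2 ^ n + 1)))) (by
      rw [Finset.card_univ, Fintype.card_fin, Finset.card_pair hik]
      have := Nat.one_lt_two_pow (show n ≠ 0 by omega); omega)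
  simp only [Finset.mem_insert, Finset.mem_singleton, not_or] at hl
  obtain ⟨u, hu⟩ := pd.surj (Pi.single i 1 + Pi.single l 1) (by
    simp only [Pi.add_apply, Finset.sum_add_distrib, Finset.sum_pi_single', Finset.mem_univ,
      if_true]
    rfl)
  refine ⟨dev ((pd.ρ.symm (Equiv.swap i k) : ↥E) : H) u,
    dev_mem_devSpan (pd.ρ.symm (Equiv.swap i k)).2 u, ?_⟩
  funext z
  rw [dev, map_sub, Pi.sub_apply, pd.smul, MulEquiv.apply_symm_apply, Equiv.swap_inv, hu]
  rcases eq_or_ne z i with rfl | hzi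
  · simp [Equiv.swap_apply_left, hik, hik.symm, Ne.symm hl.2.1, Ne.symm hl.2.2]
  rcases eq_or_ne z k with rfl | hzk
  · simp [Equiv.swap_apply_right, hik, hik.symm, Ne.symm hl.2.1, Ne.symm hl.2.2]
  rw [Equiv.swap_apply_of_ne_of_ne hzi hzk, sub_self]
  simp [hzi, hzk]

/-- What is known about a symmetric block in the group. -/
structure SmallData (p : ℕ) (T : Subgroup G) (f : G →* H) (j : W → G) (E : Subgroup H) (n : ℕ) : Prop where
  core : Cfsg.pCoreOf p (blk p f E) = jImg j (devSpan W E)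
  omega : Cfsg.omegaOneCenter p (jImg j (devSpan W E)) = jImg j (devSpan W E)
  free : jImg j (devSpan W E) ⊓ centralizer (blk p f E : Set G) = ⊥
  comm : ⁅jImg j (devSpan W E), blk p f E⁆ = jImg j (devSpan W E)
  quot : Nonempty (↥(blk p f E) ⧸ Cfsg.pCore p ↥(blk p f E) ≃* ↥(alternatingGroup (Fin (2 ^ n + 1))))
  acts : Cfsg.ActsAsOddPermModuleOnSection (2 ^ n + 1) (alternatingGroup (Fin (2 ^ n + 1))) (blk p f E)
    (jImg j (devSpan W E)) ⊥

theorem Env.smallData (ev : Env p T M V Wz Kc f j) (hp : p = 2) (hn : 1 ≤ n)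
    (pd : PermData p W E (2 ^ n + 1))
    (hQ : blk p f E ⊓ Cfsg.pCore p G ≤ jImg j (devSpan W E)) : SmallData p T f j E n := by
  classical
  subst hp
  set Wi := jImg j (devSpan W E) with hWi
  set R := blk 2 f E with hR
  have hRE : ∀ x : ↥R, f (x : G) ∈ E := fun x => blk_le_comap E x.2
  let θ : ↥R →* Equiv.Perm (Fin (2 ^ n + 1)) := pd.ρ.toMonoidHom.comp
    ((f.comp R.subtype).codRestrict E hRE)
  have hθ1 : ∀ x : ↥R, θ x = 1 ↔ f (x : G) = 1 := fun x => by
    simp only [θ, MonoidHom.comp_apply, MulEquiv.coe_toMonoidHom, map_eq_one_iff pd.ρ pd.ρ.injective]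
    exact ⟨fun h => congrArg Subtype.val h, fun h => Subtype.ext h⟩
  have hθe : ∀ (x : ↥R) {h : ↥E}, f (x : G) = h → θ x = pd.ρ h := fun x h he => by
    simp only [θ, MonoidHom.comp_apply, MulEquiv.coe_toMonoidHom]
    exact congrArg pd.ρ (Subtype.ext he)
  -- elements of odd order lift into the block
  have hlift : ∀ h : ↥E, (orderOf h).Coprime 2 → ∃ x : ↥R, f (x : G) = h := by
    intro h ho
    obtain ⟨g, hg⟩ := ev.surj (h : H)
    obtain ⟨e, -, heo, hee⟩ := exists_coprime_preimage f (a := g) (by rwa [hg, orderOf_coe])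
    exact ⟨⟨e, mem_blk_of_coprime heo (by rw [hee, hg]; exact h.2)⟩, hee.trans hg⟩
  have hcyc : ∀ σ : Equiv.Perm (Fin (2 ^ n + 1)), σ.IsThreeCycle → ∃ x : ↥R, θ x = σ := fun σ hσ => by
    obtain ⟨x, hx⟩ := hlift (pd.ρ.symm σ) (by rw [MulEquiv.orderOf_eq, hσ.orderOf]; decide)
    exact ⟨x, by rw [hθe x hx, MulEquiv.apply_symm_apply]⟩
  have hrange : θ.range = alternatingGroup (Fin (2 ^ n + 1)) := by
    refine le_antisymm ?_ ?_
    · rintro _ ⟨x, rfl⟩
      have hle : R ≤ ((alternatingGroup (Fin (2 ^ n + 1))).comap θ).map R.subtype := blk_le fun y hy hyE => by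
        refine ⟨⟨y, mem_blk_of_coprime hy hyE⟩, ?_, rfl⟩
        set s := θ ⟨y, mem_blk_of_coprime hy hyE⟩
        have ho : (orderOf s).Coprime 2 :=
          hy.coprime_dvd_left ((orderOf_map_dvd θ _).trans (by rw [orderOf_mk]))
        show s ∈ alternatingGroup _
        rw [Equiv.Perm.mem_alternatingGroup]
        rcases Int.units_eq_one_or (Equiv.Perm.sign s) with h | h
        · exact h
        · have h1 := orderOf_map_dvd Equiv.Perm.sign s
          rw [h, show orderOf (-1 : ℤˣ) = 2 from orderOf_eq_prime (by norm_num) (by decide)] at h1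
          exact absurd (Nat.eq_one_of_dvd_coprimes ho h1 dvd_rfl) (by norm_num)
      obtain ⟨x', hx', he⟩ := hle x.2
      rwa [← show x' = x from Subtype.ext he]
    · rw [← Equiv.Perm.closure_three_cycles_eq_alternating, closure_le]
      exact fun σ hσ => hcyc σ hσ
  have hWQ : ∀ x ∈ Wi, f x = 1 := fun x hx =>
    MonoidHom.mem_ker.1 (ev.ker ▸ ev.model.module.leQ (ev.jImg_le_V _ hx) : x ∈ f.ker)
  have hWE : Wi ≤ E.comap f := fun x hx => by show f x ∈ E; rw [hWQ x hx]; exact one_mem E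
  have hRW : R ≤ normalizer (Wi : Set G) := (blk_le_comap E).trans (ev.le_normalizer_jImg E)
  have hWR : Wi ≤ normalizer (R : Set G) := by
    intro g hg
    refine mem_normalizer_iff_map_conj_eq.2 ?_
    have h1 := blk_conj (p := 2) (f := f) g E
    rw [hWQ g hg, cnj_one] at h1
    exact h1
  have hWV : Wi ≤ V := ev.jImg_le_V _
  have hel : ∀ x ∈ Wi, x ^ 2 = 1 := fun x hx => by
    obtain ⟨w, -, rfl⟩ := ev.model.mem_jImg.1 hx
    rw [pow_two, ← ev.model.jadd, ← two_nsmul, ev.model.exp, ev.model.jzero]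
  -- the module is the commutator with the block
  have hcomm : ⁅Wi, R⁆ = Wi := by
    refine le_antisymm (Subgroup.commutator_le.2 fun w hw e he => ?_) ?_
    · rw [show ⁅w, e⁆ = w * (e * w⁻¹ * e⁻¹) by simp only [commutatorElement_def]; group]
      exact mul_mem hw ((mem_normalizer_iff.1 (hRW he) _).1 (inv_mem hw))
    let S : AddSubgroup W :=
      { carrier := {u | u ∈ devSpan W E ∧ j u ∈ ⁅Wi, R⁆}
        zero_mem' := ⟨zero_mem _, by rw [ev.model.jzero]; exact one_mem _⟩
        add_mem' := fun {a b} ha hb => ⟨add_mem ha.1 hb.1, by rw [ev.model.jadd]; exact mul_mem ha.2 hb.2⟩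
        neg_mem' := fun {a} ha => ⟨neg_mem ha.1, by rw [ev.model.jneg]; exact inv_mem ha.2⟩ }
    have hpairs : ∀ b c : Fin (2 ^ n + 1),
        Pi.single b 1 + Pi.single c 1 ∈ S.map pd.π := by
      intro b c
      rcases eq_or_ne b c with rfl | hbc
      · rw [← two_nsmul, ZModModule.char_nsmul_eq_zero 2]; exact zero_mem _
      obtain ⟨a, ha⟩ := Finset.exists_mem_notMem_of_card_lt_card (s := ({b, c} : Finset _))
        (t := (Finset.univ : Finset (Fin (2 ^ n + 1)))) (by
          rw [Finset.card_univ, Fintype.card_fin, Finset.card_pair hbc]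
          have := Nat.one_lt_two_pow (show n ≠ 0 by omega); omega)
      simp only [Finset.mem_insert, Finset.mem_singleton, not_or] at ha
      set σ := Equiv.swap a b * Equiv.swap b c with hσ
      have hσ3 : σ.IsThreeCycle := by
        rw [hσ, Equiv.swap_comm a b]
        exact Equiv.Perm.isThreeCycle_swap_mul_swap_same (Ne.symm ha.2.1) hbc ha.2.2
      obtain ⟨x, hx⟩ := hlift (pd.ρ.symm σ) (by rw [MulEquiv.orderOf_eq, hσ3.orderOf]; decide)
      obtain ⟨v, hv⟩ := pd.surj (Pi.single a 1 + Pi.single c 1) (by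
        simp only [Pi.add_apply, Finset.sum_add_distrib, Finset.sum_pi_single', Finset.mem_univ, if_true]
        rfl)
      obtain ⟨w, hw, hwv⟩ := pd.exists_devSpan hn v
      refine ⟨dev ((pd.ρ.symm σ : ↥E) : H) w, ⟨dev_mem_devSpan (pd.ρ.symm σ).2 w, ?_⟩, ?_⟩
      · rw [← hx, ← ev.model.comm_eq, ← commutatorElement_inv]
        exact inv_mem (commutator_mem_commutator (subset_closure ⟨w, hw, rfl⟩) x.2)
      · funext z
        rw [dev, map_sub, Pi.sub_apply, pd.smul, MulEquiv.apply_symm_apply, hwv, hv, hσ, mul_inv_rev,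
          Equiv.swap_inv, Equiv.swap_inv, Equiv.Perm.mul_apply]
        have hab : a ≠ b := ha.2.1
        have hac : a ≠ c := ha.2.2
        rcases eq_or_ne z a with rfl | hza
        · simp [Equiv.swap_apply_left, hab, hab.symm, hac, hac.symm, hbc, hbc.symm]
        rcases eq_or_ne z b with rfl | hzb
        · rw [Equiv.swap_apply_right, Equiv.swap_apply_of_ne_of_ne hab hac]
          simp [hab, hab.symm, hac, hac.symm, hbc, hbc.symm]
        rcases eq_or_ne z c with rfl | hzc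
        · rw [Equiv.swap_apply_of_ne_of_ne hza hzb, Equiv.swap_apply_right]
          simp [hab, hab.symm, hac, hac.symm, hbc, hbc.symm]
        rw [Equiv.swap_apply_of_ne_of_ne hza hzb, Equiv.swap_apply_of_ne_of_ne hzb hzc, sub_self]
        simp [hzb, hzc]
    intro x hx
    obtain ⟨u, hu, rfl⟩ := ev.model.mem_jImg.1 hx
    obtain ⟨s, hs, hsu⟩ : pd.π u ∈ S.map pd.π := mem_even_of_pairs hpairs _ (pd.sum u)
    have h1 : u - s = 0 := (AddSubgroup.eq_bot_iff_forall _).1 pd.free _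
      ⟨(devSpan W E).sub_mem hu hs.1, (pd.ker _).1 (by rw [map_sub, hsu, sub_self])⟩
    rw [sub_eq_zero.1 h1]
    exact hs.2
  have hWleR : Wi ≤ R := by
    rw [← hcomm]
    refine Subgroup.commutator_le.2 fun w hw e he => ?_
    rw [commutatorElement_def]
    exact mul_mem ((mem_normalizer_iff.1 (hWR hw) e).1 he) (inv_mem he)
  haveI hWn : (Wi.subgroupOf R).Normal := normal_subgroupOf_of_le_normalizer hRW
  have hWp : IsPGroup 2 Wi := fun x => ⟨1, Subtype.ext (by simpa using hel x x.2)⟩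
  have hcore : Cfsg.pCore 2 ↥R = Wi.subgroupOf R := by
    refine le_antisymm ?_ (@PSolvable.le_pCore _ _ 2 _ hWn hWp.comap_subtype)
    intro x hx
    refine mem_subgroupOf.2 (hQ ⟨x.2, ev.ker ▸ MonoidHom.mem_ker.2 ((hθ1 x).1 ?_)⟩)
    have hrl : ∀ y, θ y ∈ alternatingGroup (Fin (2 ^ n + 1)) := fun y => hrange ▸ ⟨y, rfl⟩
    let θ' := θ.codRestrict _ hrl
    have hs : Function.Surjective θ' := fun ⟨σ, hσ⟩ => by
      obtain ⟨y, hy⟩ := hrange.ge hσ
      exact ⟨y, Subtype.ext hy⟩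
    haveI := pCore_normal (G := ↥R) (p := 2)
    haveI : ((Cfsg.pCore 2 ↥R).map θ').Normal :=
      (inferInstance : (Cfsg.pCore 2 ↥R).Normal).map θ' hs
    have h1 := alt_normal_two hn ((PSolvable.pCore_isPGroup (G := ↥R) (p := 2)).map θ')
    have h2 : θ' x = 1 := mem_bot.1 (h1 ▸ mem_map_of_mem θ' hx)
    exact congrArg Subtype.val h2
  have hcoreOf : Cfsg.pCoreOf 2 R = Wi := by
    rw [Cfsg.pCoreOf, hcore, map_subgroupOf_eq_of_le hWleR]
  have hfree : Wi ⊓ centralizer (R : Set G) = ⊥ := by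
    refine (eq_bot_iff_forall _).2 fun x hx => ?_
    obtain ⟨w, hw, rfl⟩ := ev.model.mem_jImg.1 hx.1
    rw [pd.fixed_eq_zero rfl hn hw fun h hh ho => ?_, ev.model.jzero]
    obtain ⟨y, hy⟩ := hlift ⟨h, hh⟩ (by rwa [orderOf_mk])
    rw [← show f (y : G) = h from hy, ev.model.smul_eq_iff]
    exact mem_centralizer_iff.1 hx.2 y y.2
  refine ⟨hcoreOf, ?_, hfree, hcomm, ?_, ?_⟩
  · obtain ⟨h1, -, -⟩ := BTBlock.omegaOneCenter_props 2 Wi
    refine le_antisymm h1 fun x hx => subset_closure ⟨⟨hx, mem_centralizer_iff.2 fun y hy => ?_⟩, hel x hx⟩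
    exact el_comm ev.m2.elW (ev.m2.W_eq ▸ mem_sup_left (hWV hy)) (ev.m2.W_eq ▸ mem_sup_left (hWV hx))
  · have hk : θ.ker = Cfsg.pCore 2 ↥R := by
      rw [hcore]
      ext x
      rw [MonoidHom.mem_ker, hθ1, mem_subgroupOf]
      exact ⟨fun h => hQ ⟨x.2, ev.ker ▸ MonoidHom.mem_ker.2 h⟩, fun h => hWQ _ h⟩
    exact ⟨((QuotientGroup.quotientMulEquivOfEq hk.symm).trans
      (QuotientGroup.quotientKerEquivRange θ)).trans (MulEquiv.subgroupCongr hrange)⟩
  · refine ⟨hRW, bot_le, θ, ?_⟩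
    have hinv : ∀ u : ↥Wi, ∃ w ∈ devSpan W E, j w = u := fun u => ev.model.mem_jImg.1 u.2
    choose w hw hwu using hinv
    let ψ : ↥Wi →* Multiplicative (Fin (2 ^ n + 1) → ZMod 2) :=
      { toFun := fun u => Multiplicative.ofAdd (pd.π (w u))
        map_one' := by
          rw [show w 1 = 0 from ev.model.jinj (by rw [hwu, ev.model.jzero]; rfl), map_zero]; rfl
        map_mul' := fun a b => by
          rw [show w (a * b) = w a + w b from ev.model.jinj (by rw [hwu, ev.model.jadd, hwu, hwu]; rfl),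
            map_add]
          rfl }
    refine ⟨ψ, hrange, fun u => pd.sum _, fun v hv => ?_, fun u => ?_, fun e u => ?_⟩
    · obtain ⟨x, hx⟩ := pd.surj v hv
      obtain ⟨y, hy, hyx⟩ := pd.exists_devSpan hn x
      refine ⟨⟨j y, subset_closure ⟨y, hy, rfl⟩⟩, ?_⟩
      show pd.π (w _) = v
      rw [show w _ = y from ev.model.jinj (hwu _), hyx, hx]
    · constructor
      · intro h
        have h1 : w u = 0 := (AddSubgroup.eq_bot_iff_forall _).1 pd.free _
          ⟨hw u, (pd.ker _).1 (Multiplicative.toAdd.injective.eq_iff.2 h : _)⟩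
        rw [mem_bot, ← hwu, h1, ev.model.jzero]
      · intro h
        show Multiplicative.ofAdd (pd.π (w u)) = 1
        rw [show w u = 0 from ev.model.jinj (by rw [hwu, ev.model.jzero]; exact mem_bot.1 h), map_zero]
        rfl
    · have hm : (e : G) * u * (e : G)⁻¹ ∈ Wi := (mem_normalizer_iff.1 (hRW e.2) _).1 u.2
      refine ⟨⟨_, hm⟩, rfl, fun i => ?_⟩
      show pd.π (w ⟨_, hm⟩) i = pd.π (w u) ((θ e)⁻¹ i)
      rw [show w ⟨_, hm⟩ = f (e : G) • w u from ev.model.jinj (by rw [hwu, ev.model.equiv, hwu]),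
        pd.smul ⟨f (e : G), hRE e⟩]
      rfl

end Cfsg.Agent.Lib.MinPush94
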