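import Cfsg.Agent.Lib.MinPush94.SmallBlock

/-!
# Point stabilisers of a symmetric block centralize `Ω₁(Z(T))`
-/

set_option autoImplicit false
set_option linter.unusedSectionVars false

namespace Cfsg.Agent.Lib.MinPush94

open Subgroup SL2Recog FFMin FFComp
open Cfsg.Agent.Lib Cfsg.Agent.Lib.FocalChar
open scoped commutatorElement

universe u

/-- A permutation is a product of transpositions of moved points. -/
theorem mem_closure_swaps {α : Type*} [Fintype α] [DecidableEq α] (q : α → Prop) [DecidablePred q]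
    (σ : Equiv.Perm α) (h : ∀ x, ¬ q x → σ x = x) :
    σ ∈ Subgroup.closure {τ : Equiv.Perm α | ∃ a b, q a ∧ q b ∧ a ≠ b ∧ τ = Equiv.swap a b} := by
  have hq : ∀ x, q (σ x) ↔ q x := fun x => by
    constructor
    · intro h1
      by_contra h2
      exact h2 (h x h2 ▸ h1)
    · intro h1
      by_contra h2
      exact h2 (by rw [σ.injective (h _ h2)]; exact h1)
  have he : Equiv.Perm.ofSubtype (σ.subtypePerm hq) = σ :=
    Equiv.Perm.ofSubtype_subtypePerm hq fun x hx => by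
      by_contra h1
      exact hx (h x h1)
  rw [← he]
  have htop : σ.subtypePerm hq ∈ Subgroup.closure {τ : Equiv.Perm (Subtype q) | τ.IsSwap} := by
    rw [Equiv.Perm.closure_isSwap]; exact mem_top _
  have h1 := mem_map_of_mem (Equiv.Perm.ofSubtype (p := q)) htop
  rw [MonoidHom.map_closure] at h1
  refine Subgroup.closure_mono ?_ h1
  rintro _ ⟨τ, ⟨a, b, hab, rfl⟩, rfl⟩
  exact ⟨a, b, a.2, b.2, fun e => hab (Subtype.ext e), Equiv.Perm.ofSubtype_swap_eq a b⟩

/-- A group of translations on the points other than one. -/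
theorem exists_translations (n : ℕ) : ∃ (A : Subgroup (Equiv.Perm (Fin (2 ^ n + 1)))) (o : Fin (2 ^ n + 1)),
    IsPGroup 2 A ∧ (∀ a ∈ A, a * a = 1 ∧ a o = o) ∧ ∀ x y, x ≠ o → y ≠ o → ∃ a ∈ A, a x = y := by
  classical
  let Ω := Fin n → ZMod 2
  let e : Fin (2 ^ n + 1) ≃ Option Ω := Fintype.equivOfCardEq (by simp [Ω, ZMod.card])
  let tr : Ω → Equiv.Perm (Fin (2 ^ n + 1)) := fun u =>
    (e.trans (Equiv.optionCongr (Equiv.addRight u))).trans e.symm
  have hadd : ∀ u v, tr u * tr v = tr (v + u) := fun u v => Equiv.ext fun x => by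
    rcases h : e x with _ | a
    · simp [tr, h]
    · simp [tr, h, add_assoc]
  have h0 : tr 0 = 1 := Equiv.ext fun x => by
    rcases h : e x with _ | a
    · simp [tr, h]; rw [← h, Equiv.symm_apply_apply]
    · simp [tr, h]; rw [← h, Equiv.symm_apply_apply]
  have htwo : ∀ u : Ω, u + u = 0 := fun u => funext fun i => CharTwo.add_self_eq_zero (u i)
  let A : Subgroup (Equiv.Perm (Fin (2 ^ n + 1))) :=
    { carrier := Set.range tr
      one_mem' := ⟨0, h0⟩
      mul_mem' := by rintro _ _ ⟨u, rfl⟩ ⟨v, rfl⟩; exact ⟨v + u, (hadd u v).symm⟩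
      inv_mem' := by
        rintro _ ⟨u, rfl⟩
        exact ⟨u, (inv_eq_of_mul_eq_one_right (by rw [hadd, htwo, h0])).symm⟩ }
  refine ⟨A, e.symm none, fun a => ⟨1, ?_⟩, ?_, fun x y hx hy => ?_⟩
  · obtain ⟨u, hu⟩ := a.2
    refine Subtype.ext ?_
    rw [pow_one, SubgroupClass.coe_pow, pow_two, ← hu, hadd, htwo, h0]
    rfl
  · rintro _ ⟨u, rfl⟩
    exact ⟨by rw [hadd, htwo, h0], by simp [tr]⟩
  · rcases hex : e x with _ | a
    · exact absurd (by rw [← hex, Equiv.symm_apply_apply]) hx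
    rcases hey : e y with _ | b
    · exact absurd (by rw [← hey, Equiv.symm_apply_apply]) hy
    refine ⟨tr (a + b), ⟨_, rfl⟩, ?_⟩
    show e.symm ((Equiv.optionCongr (Equiv.addRight (a + b))) (e x)) = y
    rw [hex, Equiv.symm_apply_eq, hey]
    simp [← add_assoc, htwo]

variable {G : Type u} [Group G] [Finite G] {p : ℕ} [Fact p.Prime] {T M V : Subgroup G}
  {H W : Type u} [Group H] [Finite H] [AddCommGroup W] [Finite W] [DistribMulAction H W]
  [FaithfulSMul H W] {f : G →* H} {j : W → G} {Wz Kc : Subgroup G} {TH : Sylow p H} {E : Subgroup H}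
  {n : ℕ}

/-- The point stabiliser of a symmetric block centralizes `Ω₁(Z(T))`. -/
theorem Env.exists_point (ev : Env p T M V Wz Kc f j) (hTH : (TH : Subgroup H) = T.map f)
    (hlift : ∀ D ∈ members p W (TH : Subgroup H), ∃ Y : Subgroup G,
      Lift p T f j D (others p W (TH : Subgroup H) D) Y ∧ ∀ y ∈ Y, f y ∈ D)
    (hp : p = 2) (pd : PermData p W E (2 ^ n + 1))
    (hsyl : ∀ A : Subgroup H, A ≤ E → IsPGroup p A → ∃ e ∈ E, cnj e A ≤ (TH : Subgroup H)) :
    ∃ o : Fin (2 ^ n + 1), ∀ g : G, ∀ hg : f g ∈ E, pd.ρ ⟨f g, hg⟩ o = o →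
      g ∈ centralizer (Cfsg.omegaOneCenter p T : Set G) := by
  classical
  subst hp
  obtain ⟨A₀, o₀, hAp, hA₀, htr₀⟩ := exists_translations n
  set A₁ := (A₀.map pd.ρ.symm.toMonoidHom).map E.subtype
  obtain ⟨e, he, heT⟩ := hsyl A₁ (map_subtype_le _) ((hAp.map _).map _)
  set σe := pd.ρ ⟨e, he⟩ with hσe
  refine ⟨σe o₀, fun g hg hfix => mem_centralizer_iff.2 fun z hz => ?_⟩
  -- the translations lift into `T`
  have hT : ∀ a ∈ A₀, ∃ s ∈ T, ∃ hs : f s ∈ E, pd.ρ ⟨f s, hs⟩ = σe * a * σe⁻¹ := by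
    intro a ha
    set h : ↥E := ⟨e, he⟩ * pd.ρ.symm a * ⟨e, he⟩⁻¹ with hh
    obtain ⟨s, hs, hse⟩ : (h : H) ∈ T.map f := hTH ▸ heT ⟨_, ⟨_, ⟨a, ha, rfl⟩, rfl⟩, rfl⟩
    refine ⟨s, hs, hse ▸ h.2, ?_⟩
    rw [show (⟨f s, hse ▸ h.2⟩ : ↥E) = h from Subtype.ext hse, hh, map_mul, map_mul, map_inv,
      MulEquiv.apply_symm_apply]
  have hzW : z ∈ Wz := (ev.model.omegaOneCenter_le_zMax.trans (ev.m2.W_eq ▸ le_sup_right)) hz
  have hTz : ∀ {s}, s ∈ T → ⁅s, z⁆ = 1 := fun {s} hs => commutatorElement_eq_one_iff_mul_comm.2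
    (mem_centralizer_iff.1 ((BTBlock.omegaOneCenter_props 2 T).2.1 hz) s hs)
  -- elements supported on a set of points move `z` inside that set
  let S : (Fin (2 ^ n + 1) → Prop) → Subgroup G := fun q =>
    { carrier := {x | ∃ hx : f x ∈ E, ∃ w, j w = ⁅x, z⁆ ∧
        ∀ i, ¬ q i → pd.ρ ⟨f x, hx⟩ i = i ∧ pd.π w i = 0}
      one_mem' := ⟨by rw [map_one]; exact one_mem E, 0, by
        rw [commutatorElement_one_left, ev.model.jzero], fun i _ => ⟨by
        rw [show (⟨f 1, _⟩ : ↥E) = 1 from Subtype.ext (map_one f), map_one, Equiv.Perm.one_apply], by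
        rw [map_zero]; rfl⟩⟩
      mul_mem' := fun {x y} hx hy => by
        obtain ⟨hx, w, hw, hxi⟩ := hx
        obtain ⟨hy, w', hw', hyi⟩ := hy
        refine ⟨by rw [map_mul]; exact mul_mem hx hy, f x • w' + w, ?_, fun i hi => ?_⟩
        · rw [ev.model.jadd, ev.model.equiv, hw, hw']
          simp only [commutatorElement_def]; group
        · have e1 : (pd.ρ ⟨f x, hx⟩)⁻¹ i = i := by
            rw [Equiv.Perm.inv_eq_iff_eq, (hxi i hi).1]
          refine ⟨?_, ?_⟩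
          · rw [show (⟨f (x * y), _⟩ : ↥E) = ⟨f x, hx⟩ * ⟨f y, hy⟩ from Subtype.ext (map_mul f x y),
              map_mul, Equiv.Perm.mul_apply, (hyi i hi).1, (hxi i hi).1]
          · rw [map_add, Pi.add_apply, show f x = ((⟨f x, hx⟩ : ↥E) : H) from rfl, pd.smul, e1,
              (hyi i hi).2, (hxi i hi).2, add_zero]
      inv_mem' := fun {x} hx => by
        obtain ⟨hx, w, hw, hxi⟩ := hx
        refine ⟨by rw [map_inv]; exact inv_mem hx, -((f x)⁻¹ • w), ?_, fun i hi => ?_⟩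
        · rw [ev.model.jneg, ← map_inv, ev.model.equiv, hw]
          simp only [commutatorElement_def]; group
        · refine ⟨?_, ?_⟩
          · rw [show (⟨f x⁻¹, _⟩ : ↥E) = ⟨f x, hx⟩⁻¹ from Subtype.ext (map_inv f x), map_inv,
              Equiv.Perm.inv_eq_iff_eq, (hxi i hi).1]
          · rw [map_neg, Pi.neg_apply, show (f x)⁻¹ = (((⟨f x, hx⟩ : ↥E)⁻¹ : ↥E) : H) from rfl, pd.smul,
              map_inv, inv_inv, (hxi i hi).1, (hxi i hi).2, neg_zero] }
  -- lifts of transpositions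
  have hgood : ∀ a b, a ≠ b → ∃ t, ∃ ht : f t ∈ E, pd.ρ ⟨f t, ht⟩ = Equiv.swap a b ∧
      ∃ w ∈ devSpan W (zpowers ((pd.ρ.symm (Equiv.swap a b) : ↥E) : H)), j w = ⁅t, z⁆ := by
    intro a b hab
    obtain ⟨t, t', ht, -, hgt, -, -⟩ := ev.exists_good_pair hTH hlift (pd.mem a b hab) (pd.mem a b hab)
      (pd.mem a b hab).elem.comm (mem_zpowers _) (mem_zpowers _)
    refine ⟨t, ht ▸ SetLike.coe_mem _, ?_, ev.model.mem_jImg.1 (hgt.commW z hzW)⟩
    rw [show (⟨f t, ht ▸ SetLike.coe_mem _⟩ : ↥E) = pd.ρ.symm (Equiv.swap a b) from Subtype.ext ht,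
      MulEquiv.apply_symm_apply]
  have hsupp : ∀ {a b} {w}, w ∈ devSpan W (zpowers ((pd.ρ.symm (Equiv.swap a b) : ↥E) : H)) →
      (∀ i, i ≠ a → i ≠ b → pd.π w i = 0) := by
    intro a b w hw i hia hib
    induction hw using AddSubgroup.closure_induction with
    | mem u hu =>
      obtain ⟨x, hx, v, rfl⟩ := hu
      obtain ⟨k, rfl⟩ := mem_zpowers_iff.1 hx
      rw [dev, map_sub, Pi.sub_apply, ← SubgroupClass.coe_zpow, pd.smul, map_zpow, MulEquiv.apply_symm_apply]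
      have h1 : ((Equiv.swap a b ^ k)⁻¹ : Equiv.Perm _) i = i := by
        rw [Equiv.Perm.inv_eq_iff_eq]
        exact (Equiv.Perm.zpow_apply_eq_self_of_apply_eq_self (Equiv.swap_apply_of_ne_of_ne hia hib) k).symm
      rw [h1, sub_self]
    | zero => rw [map_zero]; rfl
    | add u v _ _ hu hv => rw [map_add, Pi.add_apply, hu, hv, add_zero]
    | neg u _ hu => rw [map_neg, Pi.neg_apply, hu, neg_zero]
  have hQS : ∀ q, ∀ x ∈ Cfsg.pCore 2 G, x ∈ S q := fun q x hx => by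
    have hx1 : f x = 1 := MonoidHom.mem_ker.1 (ev.ker ▸ hx : x ∈ f.ker)
    refine ⟨hx1 ▸ one_mem E, 0, by rw [hTz (ev.model.hyp0.pre.core_le hx), ev.model.jzero], fun i _ => ⟨?_, by
      rw [map_zero]; rfl⟩⟩
    rw [show (⟨f x, _⟩ : ↥E) = 1 from Subtype.ext hx1, map_one, Equiv.Perm.one_apply]
  have hall : ∀ (q : Fin (2 ^ n + 1) → Prop) [DecidablePred q] (x : G) (hx : f x ∈ E),
      (∀ i, ¬ q i → pd.ρ ⟨f x, hx⟩ i = i) → x ∈ S q := by
    intro q _ x hx hq
    have h1 := mem_closure_swaps q _ hq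
    have hle : Subgroup.closure {τ : Equiv.Perm (Fin (2 ^ n + 1)) | ∃ a b, q a ∧ q b ∧ a ≠ b ∧
        τ = Equiv.swap a b} ≤ (((S q).map f).subgroupOf E).map pd.ρ.toMonoidHom := by
      rw [Subgroup.closure_le]
      rintro _ ⟨a, b, hqa, hqb, hab, rfl⟩
      obtain ⟨t, ht, hte, w, hw, hwt⟩ := hgood a b hab
      refine ⟨⟨f t, ht⟩, mem_subgroupOf.2 (mem_map_of_mem f ⟨ht, w, hwt, fun i hi => ⟨?_, ?_⟩⟩), hte⟩
      · rw [hte]; exact Equiv.swap_apply_of_ne_of_ne (fun h => hi (h ▸ hqa)) (fun h => hi (h ▸ hqb))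
      · exact hsupp hw i (fun h => hi (h ▸ hqa)) (fun h => hi (h ▸ hqb))
    obtain ⟨y, hy, hye⟩ := hle h1
    obtain ⟨x', hx', hxe⟩ := hy
    have he' : f x' = f x := hxe.trans (congrArg Subtype.val (pd.ρ.injective hye))
    have hq' : x'⁻¹ * x ∈ Cfsg.pCore 2 G := by
      rw [← ev.ker, MonoidHom.mem_ker, map_mul, map_inv, he', inv_mul_cancel]
    simpa using mul_mem hx' (hQS q _ hq')
  -- so transpositions away from the point fix `z`
  have hzero : ∀ a b, a ≠ b → a ≠ σe o₀ → b ≠ σe o₀ →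
      ∃ t, ∃ ht : f t ∈ E, pd.ρ ⟨f t, ht⟩ = Equiv.swap a b ∧ ⁅t, z⁆ = 1 := by
    intro a b hab ha hb
    obtain ⟨t, ht, hte, w, hw, hwt⟩ := hgood a b hab
    refine ⟨t, ht, hte, ?_⟩
    obtain ⟨τ, hτ, hτab⟩ := htr₀ (σe⁻¹ a) (σe⁻¹ b) (fun h => ha (by rw [← h, (show ∀ v, σe (σe⁻¹ v) = v from σe.apply_symm_apply)]))
      (fun h => hb (by rw [← h, (show ∀ v, σe (σe⁻¹ v) = v from σe.apply_symm_apply)]))
    obtain ⟨s, hs, hsE, hse⟩ := hT τ hτ
    set σ := σe * τ * σe⁻¹ with hσ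
    have hσa : σ a = b := by
      rw [hσ, Equiv.Perm.mul_apply, Equiv.Perm.mul_apply, hτab, (show ∀ v, σe (σe⁻¹ v) = v from σe.apply_symm_apply)]
    have hσσ : σ * σ = 1 := by
      rw [hσ, show σe * τ * σe⁻¹ * (σe * τ * σe⁻¹) = σe * (τ * τ) * σe⁻¹ by group, (hA₀ τ hτ).1]; group
    have hσb : σ b = a := by rw [← hσa, ← Equiv.Perm.mul_apply, hσσ, Equiv.Perm.one_apply]
    -- the element `s * t` fixes `a`
    have hst : f (s * t) ∈ E := by rw [map_mul]; exact mul_mem hsE ht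
    have hfixa : pd.ρ ⟨f (s * t), hst⟩ a = a := by
      rw [show (⟨f (s * t), hst⟩ : ↥E) = ⟨f s, hsE⟩ * ⟨f t, ht⟩ from Subtype.ext (map_mul f s t), map_mul,
        hse, hte, Equiv.Perm.mul_apply, Equiv.swap_apply_left, hσb]
    obtain ⟨_, w', hw', hw'i⟩ := hall (fun i => i ≠ a) (s * t) hst (fun i hi => by
      rw [not_not] at hi; subst hi; exact hfixa)
    have e1 : w' = f s • w := ev.model.jinj (by
      rw [hw', ev.model.equiv, hwt, show ⁅s * t, z⁆ = s * ⁅t, z⁆ * s⁻¹ * ⁅s, z⁆ by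
        simp only [commutatorElement_def]; group, hTz hs, mul_one])
    have h2 := (hw'i a (not_not.2 rfl)).2
    rw [e1, show f s = ((⟨f s, hsE⟩ : ↥E) : H) from rfl, pd.smul, hse,
      show σ⁻¹ a = b by rw [Equiv.Perm.inv_eq_iff_eq, hσb]] at h2
    have hw0 : pd.π w = 0 := by
      funext i
      rcases eq_or_ne i b with rfl | hib
      · exact h2
      rcases eq_or_ne i a with rfl | hia
      · have hsum := pd.sum w
        rw [Finset.sum_eq_single i (fun k _ hki => by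
          rcases eq_or_ne k b with rfl | hkb
          · exact h2
          · exact hsupp hw k hki hkb) (fun h => absurd (Finset.mem_univ i) h)] at hsum
        exact hsum
      exact hsupp hw i hia hib
    have hfree : w = 0 := (AddSubgroup.eq_bot_iff_forall _).1 pd.free w
      ⟨devSpan_le (fun x hx v => dev_mem_devSpan (zpowers_le.2 (SetLike.coe_mem _) hx) v) hw,
        (pd.ker w).1 hw0⟩
    rw [← hwt, hfree, ev.model.jzero]
  have h1 := mem_closure_swaps (fun i => i ≠ σe o₀) (pd.ρ ⟨f g, hg⟩) fun x hx => by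
    rw [not_not] at hx; subst hx; exact hfix
  have hle : Subgroup.closure {τ : Equiv.Perm (Fin (2 ^ n + 1)) | ∃ a b, a ≠ σe o₀ ∧ b ≠ σe o₀ ∧ a ≠ b ∧
      τ = Equiv.swap a b} ≤ (((centralizer ({z} : Set G)).map f).subgroupOf E).map pd.ρ.toMonoidHom := by
    rw [Subgroup.closure_le]
    rintro _ ⟨a, b, ha, hb, hab, rfl⟩
    obtain ⟨t, ht, hte, htz⟩ := hzero a b hab ha hb
    exact ⟨⟨f t, ht⟩, mem_subgroupOf.2 (mem_map_of_mem f (mem_centralizer_singleton_iff.2
      (commutatorElement_eq_one_iff_mul_comm.1 htz))), hte⟩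
  obtain ⟨y, hy, hye⟩ := hle h1
  obtain ⟨x', hx', hxe⟩ := hy
  have he' : f x' = f g := hxe.trans (congrArg Subtype.val (pd.ρ.injective hye))
  have hq' : x'⁻¹ * g ∈ centralizer ({z} : Set G) := by
    refine mem_centralizer_singleton_iff.2 (commutatorElement_eq_one_iff_mul_comm.1 (hTz ?_))
    refine ev.model.hyp0.pre.core_le ?_
    rw [← ev.ker, MonoidHom.mem_ker, map_mul, map_inv, he', inv_mul_cancel]
  have hfin : g ∈ centralizer ({z} : Set G) := by simpa using mul_mem hx' hq'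
  exact (mem_centralizer_singleton_iff.1 hfin).symm

end Cfsg.Agent.Lib.MinPush94
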